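import Cfsg.Agent.Lib.BrauerReynolds.Main
import Mathlib.LinearAlgebra.Trace

/-!
# The Sylow subgroup of order `p` of a simple group without representation of `n` is self-centralising

The degrees in the principal block divide the index of the centralizer of `P`. Either there is a
faithful character of degree `(p - 1) / 2`, or one of degree `p - 1` which is regular on `P` up to
the trivial character; the latter makes the centralizer equal to `P`.
-/

set_option autoImplicit false
set_option linter.unusedSectionVars false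
set_option linter.style.haveILetI false

namespace CfsgLib.BrauerReynolds

open Cfsg
open scoped ComplexConjugate CfsgLib.Char
open CfsgLib
open scoped _root_.Classical

universe u

variable {G : Type u} [Group G] [Finite G] {p : ℕ} [Fact p.Prime]

theorem not_comm_of_not_cyclic' [IsSimpleGroup G] (hG : ¬ IsCyclic G) : ¬ IsMulCommutative G := by
  intro hc
  let _ : CommGroup G := { ‹Group G› with mul_comm := fun a b => hc.is_comm.comm a b }
  exact hG inferInstance

theorem faithful_of_simple [IsSimpleGroup G] {χ : IrrCharacter G} (hχ : χ ≠ Blocks.trivIrr G) {g : G}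
    (hg : (χ : G → ℂ) g = (χ : G → ℂ) 1) : g = 1 := by
  letI : Fintype G := Fintype.ofFinite G
  obtain ⟨K, hK, hmem, -⟩ := Char.exists_kernel (Char.isCharacter_of_isIrr χ.2)
  rcases hK.eq_bot_or_eq_top with h | h
  · have := (hmem g).mpr hg
    rwa [h, Subgroup.mem_bot] at this
  · exfalso
    have h0 := Char.classInner_coe χ (Blocks.trivIrr G)
    rw [if_neg hχ] at h0
    rw [classInner, Finset.sum_congr rfl fun x _ => show _ = (χ : G → ℂ) 1 by
      rw [(hmem x).mp (h ▸ Subgroup.mem_top x)]; simp [Blocks.trivIrr],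
      Finset.sum_const, Finset.card_univ, nsmul_eq_mul, Nat.card_eq_fintype_card,
      inv_mul_cancel_left₀ (Nat.cast_ne_zero.mpr Fintype.card_ne_zero)] at h0
    exact Char.irr_degree_ne_zero χ.2 h0

theorem one_lt_degree_of_simple [IsSimpleGroup G] (hG : ¬ IsMulCommutative G) {χ : IrrCharacter G}
    (hχ : χ ≠ Blocks.trivIrr G) : 1 < charDegree (χ : G → ℂ) := by
  have hpos := (Blocks.irr_degree_eq χ).2
  rcases Nat.lt_or_ge 1 (charDegree (χ : G → ℂ)) with h | h
  · exact h
  exfalso
  have h1 : (χ : G → ℂ) 1 = 1 := by rw [value_one]; exact_mod_cast (show _ = 1 by omega)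
  have hc := Char.isCharacter_of_isIrr χ.2
  refine hG ⟨⟨fun a b => ?_⟩⟩
  have hinj : ∀ x, Char.linearHom hc h1 x = 1 → x = 1 := fun x hx => faithful_of_simple hχ (by
    rw [h1, ← Char.linearHom_apply hc h1 x, hx]; rfl)
  exact (injective_iff_map_eq_one _).mpr hinj (by rw [map_mul, map_mul, mul_comm])

/-- A character of degree `p - 1` with values `-1` off the identity of `P`, also after multiplying by
`y`, has `y` in its kernel. -/
theorem value_eq_of_regular [Fintype G] {χ : G → ℂ} (hχ : IsCharacter G χ) (P : Subgroup G)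
    (hP : Nat.card P = p) (hdeg : χ 1 = (p : ℂ) - 1) {y : G}
    (h1 : ∀ v ∈ P, v ≠ 1 → χ v = -1) (hy : ∀ v ∈ P, v ≠ 1 → χ (v * y) = -1) : χ y = χ 1 := by
  haveI : Fintype P := Fintype.ofFinite _
  obtain ⟨d, ρ, rfl⟩ := hχ
  set Q : Module.End ℂ (Fin d → ℂ) := ∑ v : P, ρ (v : G) with hQ
  have hsum : ∀ x : G, (∀ v ∈ P, v ≠ 1 → ρ.character (v * x) = -1) →
      LinearMap.trace ℂ _ (Q * ρ x) = ρ.character x - ((p : ℂ) - 1) := by
    intro x hx
    rw [hQ, Finset.sum_mul, map_sum,
      ← Finset.add_sum_erase _ _ (Finset.mem_univ (1 : P)),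
      Finset.sum_congr rfl (g := fun _ => (-1 : ℂ)) fun v hv => by
        rw [← map_mul]
        exact hx v v.2 fun e => Finset.ne_of_mem_erase hv (Subtype.ext e),
      Finset.sum_const, Finset.card_erase_of_mem (Finset.mem_univ _), Finset.card_univ,
      ← Nat.card_eq_fintype_card, hP, nsmul_eq_mul, Nat.cast_sub (Fact.out : p.Prime).one_le]
    simp only [Subgroup.coe_one, map_one, one_mul, Nat.cast_one]
    show LinearMap.trace ℂ _ (ρ x) + _ = LinearMap.trace ℂ _ (ρ x) - _
    ring
  have hsq : Q * Q = (p : ℂ) • Q := by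
    conv_lhs => rw [hQ, Finset.sum_mul]
    rw [Finset.sum_congr rfl (g := fun _ => Q) fun v _ => by
      rw [hQ, Finset.mul_sum]
      simp only [← map_mul, ← Subgroup.coe_mul]
      exact Fintype.sum_equiv (Equiv.mulLeft v) _ _ fun w => rfl,
      Finset.sum_const, Finset.card_univ, ← Nat.card_eq_fintype_card, hP, Nat.cast_smul_eq_nsmul]
  have hp0 : (p : ℂ) ≠ 0 := Nat.cast_ne_zero.mpr (Fact.out : p.Prime).ne_zero
  set E := (p : ℂ)⁻¹ • Q with hE
  have hidem : IsIdempotentElem E := by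
    rw [IsIdempotentElem, hE, smul_mul_smul_comm, hsq, smul_smul, mul_assoc, inv_mul_cancel₀ hp0,
      mul_one]
  have htr : LinearMap.trace ℂ _ E = 0 := by
    rw [hE, map_smul, ← mul_one Q, ← MonoidHom.map_one ρ,
      hsum 1 (fun v hv hv1 => by rw [mul_one]; exact h1 v hv hv1), hdeg, sub_self, smul_zero]
  have hproj : LinearMap.IsProj (LinearMap.range E) E :=
    { map_mem := fun x => LinearMap.mem_range_self E x
      map_id := by
        rintro _ ⟨x, rfl⟩
        exact LinearMap.congr_fun hidem x }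
  rw [hproj.trace, Nat.cast_eq_zero, Submodule.finrank_eq_zero] at htr
  have hQ0 : Q = 0 := by
    have : E = 0 := LinearMap.range_eq_bot.mp htr
    rw [hE, smul_eq_zero] at this
    exact this.resolve_left (inv_ne_zero hp0)
  have := hsum y hy
  rw [hQ0, zero_mul, map_zero] at this
  rw [hdeg]
  exact (sub_eq_zero.mp this.symm)

theorem isIntegral_of_sign {x : ℂ} {σ : ℤ} (hσ : σ = 1 ∨ σ = -1) (h : IsIntegral ℤ (x * σ)) :
    IsIntegral ℤ x := by
  rcases hσ with rfl | rfl
  · simpa using h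
  · simpa using h.neg

/-- Either `G` is `PSL(2, p)`, or the Sylow subgroup is self-centralising. -/
theorem self_centralizing_or_concl [IsSimpleGroup G] (hG : ¬ IsCyclic G) (P : Sylow p G)
    (hP : Nat.card (P : Subgroup G) = p) {n : ℕ} (hn : Nat.card (Sylow p G) = 1 + n * p)
    (hnr : NonRep p n) :
    Concl G p ∨ Subgroup.centralizer ((P : Subgroup G) : Set G) = (P : Subgroup G) := by
  have hp : p.Prime := Fact.out
  have hcomm := not_comm_of_not_cyclic' hG
  letI : Fintype G := Fintype.ofFinite G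
  have hdvdG : p ∣ Nat.card G := hP ▸ Subgroup.card_subgroup_dvd_card (P : Subgroup G)
  have hsq : ¬ p ^ 2 ∣ Nat.card G := fun h => by
    have h2 : 2 ≤ (Nat.card G).factorization p :=
      (hp.pow_dvd_iff_le_factorization Nat.card_pos.ne').mp h
    have h' := Sylow.card_eq_multiplicity P
    rw [hP] at h'
    have : p ^ 2 ≤ p ^ 1 := by
      rw [pow_one]
      calc p ^ 2 ≤ p ^ (Nat.card G).factorization p := Nat.pow_le_pow_right hp.pos h2
        _ = p := h'.symm
    exact absurd ((Nat.pow_le_pow_iff_right hp.one_lt).mp this) (by omega)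
  have hnn : ∀ K : Subgroup G, K.Normal → Nat.card K ≠ p := fun K hK hc => by
    rcases hK.eq_bot_or_eq_top with h | h
    · rw [h, Subgroup.card_bot] at hc
      exact hp.one_lt.ne hc
    · rw [h, Subgroup.card_top] at hc
      exact hG (isCyclic_of_prime_card hc)
  have hn1 : 1 ≤ n := by
    by_contra h
    refine SmallOrder.card_sylow_ne_one hcomm hdvdG ?_
    rw [hn, show n = 0 by omega, zero_mul, add_zero]
  have hm : 1 < 1 + n * p := by have := Nat.mul_pos hn1 hp.pos; omega
  obtain ⟨M, hM⟩ := Blocks.exists_isPModular hp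
  haveI := Blocks.isPrime_of_isPModular hM
  set S := Blocks.PrimeDefect.principalSetup hM P hP with hS
  set e := S.C.relIndex S.N with he_def
  have hSe : S.e = e := by
    rw [Blocks.PrimeDefect.Setup.e, Blocks.PrimeDefect.principal_T hM P hP]
  have hidx : S.C.index = e * (1 + n * p) := by
    rw [← Subgroup.relIndex_mul_index S.C_le_N, ← hn, Sylow.card_eq_index_normalizer P]
    rfl
  have he2 : 2 ≤ e := by
    have h0 : e ≠ 0 := Subgroup.index_ne_zero_of_finite
    have h1 : e ≠ 1 := fun h =>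
      SmallOrder.not_normalizer_le_centralizer hcomm hdvdG P (Subgroup.relIndex_eq_one.mp h)
    omega
  have hdeg1 : charDegree (S.θ : S.C → ℂ) = 1 := Blocks.PrimeDefect.principal_degree hM P hP
  obtain ⟨hdvd, X, Y, δ, ε, hdisj, hmem, hXc, hYc, hε, hδ, ha, hdX, hdY, hrel, -⟩ := S.structure_block
  rw [hSe, hdeg1, Nat.div_self (by omega)] at hdX
  rw [hdeg1, mul_one] at hdY
  rw [hSe] at hXc hYc hdvd
  set t := (p - 1) / e with ht_def
  have het : e * t + 1 = p := by rw [ht_def, Nat.mul_div_cancel' hdvd]; have := hp.one_lt; omega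
  have ht1 : 1 ≤ t := by
    rcases Nat.eq_zero_or_pos t with h | h
    · rw [h, mul_zero] at het; have := hp.one_lt; omega
    · exact h
  have hep : e < p := by have := Nat.le_mul_of_pos_right e ht1; omega
  have hB : ∀ χ ∈ X ∪ Y, χ ∈ principalBlock M G := fun χ hχ => (hmem χ).mpr hχ
  have hone : ¬ p ∣ orderOf (1 : G) := orderOf_one (G := G) ▸ hp.not_dvd_one
  obtain ⟨v, hv, hv1⟩ : ∃ v, v ∈ (P : Subgroup G) ∧ v ≠ 1 := by
    rcases (P : Subgroup G).bot_or_exists_ne_one with h | h
    · rw [h, Subgroup.card_bot] at hP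
      exact absurd hP hp.one_lt.ne
    · exact h
  -- the sum over the exceptional characters
  have hsumY : ∀ u ∈ (P : Subgroup G), u ≠ 1 → ∑ ψ ∈ Y, S.a ψ u = -(ε : ℂ) := by
    intro u hu hu1
    obtain ⟨ψ₀, hψ₀⟩ : Y.Nonempty := Finset.card_pos.mp (by rw [hYc]; exact ht1)
    have h := S.sum_a_mul_regular (v := u) hu hu1 (g := 1) (Blocks.PrimeDefect.Setup.isPRegular_one hp)
    rw [show (Finset.univ.filter fun χ => χ ∈ S.B) = X ∪ Y from
      Finset.ext fun χ => by simp [hmem], Finset.sum_union hdisj] at h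
    have hYdeg : ∀ ψ ∈ Y, (ψ : G → ℂ) 1 = (ψ₀ : G → ℂ) 1 := fun ψ hψ =>
      mul_left_cancel₀ (show (ε : ℂ) ≠ 0 by rcases hε with h | h <;> simp [h])
        ((hrel ψ hψ 1 hone).trans (hrel ψ₀ hψ₀ 1 hone).symm)
    rw [Finset.sum_congr (s₁ := X) rfl (g := fun χ => (δ χ : ℂ) * (χ : G → ℂ) 1) (fun χ hχ => by
        rw [ha χ hχ u hu hu1, value_one, Complex.conj_natCast]),
      ← hrel ψ₀ hψ₀ 1 hone,
      Finset.sum_congr (s₁ := Y) rfl (g := fun ψ => S.a ψ u * (ψ₀ : G → ℂ) 1) (fun ψ hψ => by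
        rw [hYdeg ψ hψ, value_one ψ₀, Complex.conj_natCast]), ← Finset.sum_mul, ← add_mul] at h
    have := (mul_eq_zero.mp h).resolve_right (Char.irr_degree_ne_zero ψ₀.2)
    linear_combination this
  have hvalY : ∑ ψ ∈ Y, (ψ : G → ℂ) v = -(ε : ℂ) := by
    have hT : (Nat.card S.T : ℂ) ≠ 0 := Nat.cast_ne_zero.mpr Nat.card_pos.ne'
    refine mul_left_cancel₀ hT ?_
    rw [Finset.mul_sum]
    have hterm : ∀ ψ ∈ Y, (Nat.card S.T : ℂ) * (ψ : G → ℂ) v =
        ∑ g : G with g ∈ S.N, S.a ψ (g⁻¹ * v * g) := by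
      intro ψ hψ
      have hval := S.value_section (hB ψ (Finset.mem_union_right _ hψ)) hv hv1 (y := 1)
        (Blocks.PrimeDefect.Setup.isPRegular_one hp)
      rw [Subgroup.coe_one, mul_one] at hval
      rw [hval]
      refine Finset.sum_congr rfl fun g _ => ?_
      have h1 : g⁻¹ * 1 * g = 1 := by group
      rw [dif_pos (show g⁻¹ * 1 * g ∈ S.C by rw [h1]; exact one_mem _)]
      exact (mul_one _)
    rw [Finset.sum_congr rfl hterm, Finset.sum_comm,
      Finset.sum_congr rfl (s₁ := Finset.univ.filter fun g : G => g ∈ S.N) (g := fun _ => -(ε : ℂ)) fun g hg => hsumY (g⁻¹ * v * g)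
        ((Subgroup.mem_normalizer_iff''.mp (Finset.mem_filter.mp hg).2 v).mp hv) fun e => hv1 (by
          have := congrArg (fun z => g * z * g⁻¹) e
          simpa [mul_assoc] using this),
      Finset.sum_const, nsmul_eq_mul, ← Fintype.card_subtype, ← Nat.card_eq_fintype_card,
      show Nat.card {g // g ∈ S.N} = Nat.card S.T by rw [hS, Blocks.PrimeDefect.principal_T hM P hP]]
  have hcent : Subgroup.centralizer ({v} : Set G) = S.C := (S.centralizer_eq hv hv1).symm
  -- the degrees divide the index of the centralizer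
  have hdivX : ∀ χ ∈ X, (χ : G → ℂ) v = δ χ → charDegree (χ : G → ℂ) ∣ e * (1 + n * p) := by
    intro χ hχ hval
    refine Char.dvd_of_isIntegral_div (Blocks.irr_degree_eq χ).2.ne' ?_
    have h := Char.isIntegral_omega_irr χ.2 v
    rw [Char.omega, hcent, hidx, hval, value_one] at h
    refine isIntegral_of_sign (hδ χ hχ) ?_
    rwa [div_mul_eq_mul_div]
  have hval : ∀ χ ∈ X ∪ Y, ∀ σ : ℤ, (∀ u ∈ (P : Subgroup G), u ≠ 1 → S.a χ u = σ) →
      ∀ u ∈ (P : Subgroup G), u ≠ 1 → ∀ y ∈ S.C, ¬ p ∣ orderOf y → (χ : G → ℂ) (u * y) = σ :=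
    fun χ hχ σ hσ u hu hu1 y hy hyr =>
      Blocks.PrimeDefect.principal_value hM P hP (hB χ hχ) hσ hu hu1 hy hyr
  -- a character of degree `p - 1` gives a self-centralising subgroup
  have hfinish : ∀ χ ∈ X ∪ Y, (∀ u ∈ (P : Subgroup G), u ≠ 1 → S.a χ u = ((-1 : ℤ) : ℂ)) →
      charDegree (χ : G → ℂ) + 1 = p → Subgroup.centralizer ((P : Subgroup G) : Set G) = (P : Subgroup G) := by
    intro χ hχ hσ hd
    have hne : χ ≠ Blocks.trivIrr G := fun h => by
      rw [h, degree_triv] at hd
      omega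
    have hd' : (χ : G → ℂ) 1 = (p : ℂ) - 1 := by
      rw [value_one, ← hd]; push_cast; ring
    refine le_antisymm (fun c hc => ?_) S.P_le_C
    obtain ⟨x, hx, y, hy, rfl⟩ := S.exists_decompC hc
    have hy1 : y = 1 := faithful_of_simple hne <| value_eq_of_regular (Char.isCharacter_of_isIrr χ.2)
      (P : Subgroup G) hP hd'
      (fun u hu hu1 => by
        have := hval χ hχ _ hσ u hu hu1 1 (one_mem _) hone
        rw [mul_one] at this
        rw [this]; norm_num)
      fun u hu hu1 => by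
        rw [hval χ hχ _ hσ u hu hu1 y (S.V_le_C hy) (S.regular_of_mem_V hy)]; norm_num
    rw [hy1, mul_one]
    exact hx
  have htriv : Blocks.trivIrr G ∈ X ∪ Y := (hmem _).mp (Blocks.trivIrr_mem_principalBlock _)
  have hvalX : ∀ χ ∈ X, (χ : G → ℂ) v = δ χ := fun χ hχ => by
    have := hval χ (Finset.mem_union_left _ hχ) (δ χ) (ha χ hχ) v hv hv1 1 (one_mem _) hone
    rwa [mul_one] at this
  have hmodneg : ∀ χ : IrrCharacter G, ∀ σ : ℤ, σ = -1 → (charDegree (χ : G → ℂ) : ℤ) ≡ σ [ZMOD p] →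
      p ∣ charDegree (χ : G → ℂ) + 1 := fun χ σ h hc => by
    subst h
    have := Int.modEq_iff_dvd.mp hc.symm
    rw [sub_neg_eq_add] at this
    exact_mod_cast this
  have hpos : ∀ χ : IrrCharacter G, χ ≠ Blocks.trivIrr G → charDegree (χ : G → ℂ) ∣ e * (1 + n * p) →
      (charDegree (χ : G → ℂ) : ℤ) ≡ 1 [ZMOD p] → charDegree (χ : G → ℂ) = n * p + 1 := by
    intro χ hne hd hc
    refine pos_deg he2 ht1 het hnr (one_lt_degree_of_simple hcomm hne) ?_ hd
    rw [show (1 : ℤ) = ((1 : ℕ) : ℤ) from rfl, Int.natCast_modEq_iff] at hc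
    rw [hc, Nat.one_mod_eq_one.mpr hp.one_lt.ne']
  -- a signed relation without a character of degree `p - 1` of negative sign forces `1 + n p ∣ 1`
  have hno : ∀ (W : Finset (IrrCharacter G)) (σ : IrrCharacter G → ℤ), W ⊆ X ∪ Y →
      (∀ χ ∈ W, χ ≠ Blocks.trivIrr G → (((1 + n * p : ℕ) : ℤ) ∣ σ χ * charDegree (χ : G → ℂ))) →
      Blocks.trivIrr G ∈ W → σ (Blocks.trivIrr G) = 1 →
      ((1 + n * p : ℕ) : ℤ) ∣ ∑ χ ∈ W, σ χ * charDegree (χ : G → ℂ) → False := by
    intro W σ _ hW hT hσ hsum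
    rw [← Finset.add_sum_erase _ _ hT, hσ, degree_triv] at hsum
    have h := (Int.dvd_add_left (Finset.dvd_sum fun χ hχ =>
      hW χ (Finset.mem_of_mem_erase hχ) (Finset.ne_of_mem_erase hχ))).mp hsum
    have h' : (1 + n * p) ∣ 1 := by exact_mod_cast h
    have := Nat.dvd_one.mp h'
    omega
  have htrivsign : ∀ σ : ℤ, (∀ u ∈ (P : Subgroup G), u ≠ 1 → S.a (Blocks.trivIrr G) u = σ) → σ = 1 :=
    fun σ hσ => by
    have := hval _ htriv σ hσ v hv hv1 1 (one_mem _) hone
    have h : (σ : ℂ) = ((1 : ℤ) : ℂ) := by rw [← this]; simp [Blocks.trivIrr]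
    exact_mod_cast h
  obtain ⟨ψ₀, hψ₀⟩ : Y.Nonempty := Finset.card_pos.mp (by rw [hYc]; exact ht1)
  have hY0 := hrel ψ₀ hψ₀ 1 hone
  simp only [value_one] at hY0
  have hY0' : ε * (charDegree (ψ₀ : G → ℂ) : ℤ) = ∑ χ ∈ X, δ χ * (charDegree (χ : G → ℂ) : ℤ) := by
    exact_mod_cast hY0
  rcases Nat.lt_or_ge t 2 with ht | ht
  · right
    have ht' : t = 1 := by omega
    have he' : e + 1 = p := by rw [ht', mul_one] at het; exact het
    obtain ⟨ψ, hψ⟩ := Finset.card_eq_one.mp (hYc.trans ht')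
    have hψY : ψ ∈ Y := hψ ▸ Finset.mem_singleton_self _
    have hψ0 : ψ₀ = ψ := by rw [hψ, Finset.mem_singleton] at hψ₀; exact hψ₀
    set σ : IrrCharacter G → ℤ := fun χ => if χ ∈ X then δ χ else -ε with hσ
    have hσa : ∀ χ ∈ X ∪ Y, ∀ u ∈ (P : Subgroup G), u ≠ 1 → S.a χ u = σ χ := by
      intro χ hχ u hu hu1
      rcases Finset.mem_union.mp hχ with h | h
      · simp only [hσ, if_pos h]; exact ha χ h u hu hu1
      · have hX : χ ∉ X := fun h' => Finset.disjoint_left.mp hdisj h' h
        rw [hψ, Finset.mem_singleton] at h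
        have := hsumY u hu hu1
        rw [hψ, Finset.sum_singleton, ← h] at this
        simp only [hσ, if_neg hX, this]
        push_cast; ring
    have hσmod : ∀ χ ∈ X ∪ Y, (charDegree (χ : G → ℂ) : ℤ) ≡ σ χ [ZMOD p] := by
      intro χ hχ
      rcases Finset.mem_union.mp hχ with h | h
      · simp only [hσ, if_pos h]
        simpa using hdX χ h
      · simp only [hσ, if_neg fun h' => Finset.disjoint_left.mp hdisj h' h]
        refine (hdY χ h).trans ?_
        rw [Int.modEq_iff_dvd]
        have : (e : ℤ) + 1 = p := by exact_mod_cast he'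
        exact ⟨-ε, by rw [← this]; ring⟩
    have hσ1 : ∀ χ ∈ X ∪ Y, σ χ = 1 ∨ σ χ = -1 := fun χ _ => by
      simp only [hσ]
      split_ifs with h
      · exact hδ χ h
      · rcases hε with h | h <;> simp [h]
    have hdiv : ∀ χ ∈ X ∪ Y, charDegree (χ : G → ℂ) ∣ e * (1 + n * p) := by
      intro χ hχ
      rcases Finset.mem_union.mp hχ with h | h
      · exact hdivX χ h (hvalX χ h)
      · refine Char.dvd_of_isIntegral_div (Blocks.irr_degree_eq χ).2.ne' ?_
        have h' := Char.isIntegral_omega_irr χ.2 v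
        rw [hψ, Finset.mem_singleton] at h
        have hv' := hvalY
        rw [hψ, Finset.sum_singleton, ← h] at hv'
        rw [Char.omega, hcent, hidx, hv', value_one] at h'
        refine isIntegral_of_sign (σ := -ε) (by rcases hε with hd | hd <;> simp [hd]) ?_
        rwa [div_mul_eq_mul_div, Int.cast_neg]
    by_contra hC
    refine hno (X ∪ Y) σ subset_rfl (fun χ hχ hne => ?_) htriv (htrivsign _ (hσa _ htriv)) ?_
    · rcases hσ1 χ hχ with hs | hs
      · have := hpos χ hne (hdiv χ hχ) (hs ▸ hσmod χ hχ)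
        rw [this, hs, one_mul, add_comm]
      · rcases neg_cases he2 ht1 het hnr (hmodneg χ _ hs (hσmod χ hχ)) (hdiv χ hχ) with ⟨h, -⟩ | ⟨-, h⟩
        · exact absurd (hfinish χ hχ (fun u hu hu1 => hs ▸ hσa χ hχ u hu hu1) h) hC
        · rw [h, Nat.cast_mul]
          exact Dvd.dvd.mul_left (dvd_mul_left _ _) _
    · refine ⟨0, ?_⟩
      rw [mul_zero, Finset.sum_union hdisj, hψ, Finset.sum_singleton,
        Finset.sum_congr rfl (g := fun χ => δ χ * (charDegree (χ : G → ℂ) : ℤ)) fun χ h => by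
          simp only [hσ, if_pos h], ← hY0', hψ0]
      simp only [hσ, if_neg fun h' => Finset.disjoint_left.mp hdisj h' hψY]
      ring
  · by_cases hneg : ∃ χ ∈ X, δ χ = -1
    · right
      obtain ⟨χ, hχ, hd⟩ := hneg
      refine hfinish χ (Finset.mem_union_left _ hχ) (fun u hu hu1 => hd ▸ ha χ hχ u hu hu1) ?_
      rcases neg_cases he2 ht1 het hnr (hmodneg χ _ hd (by simpa using hdX χ hχ))
        (hdivX χ hχ (hvalX χ hχ)) with ⟨h, -⟩ | ⟨h, -⟩
      · exact h
      · omega
    left
    push Not at hneg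
    have hd1 : ∀ χ ∈ X, δ χ = 1 := fun χ hχ => (hδ χ hχ).resolve_right (hneg χ hχ)
    have hT : Blocks.trivIrr G ∈ X := by
      rcases Finset.mem_union.mp htriv with h | h
      · exact h
      exfalso
      obtain ⟨ψ', hψ', hne⟩ := Finset.exists_mem_ne (show 1 < Y.card by omega) (Blocks.trivIrr G)
      have h1 := hrel ψ' hψ' 1 hone
      rw [← hrel _ h 1 hone, value_one, value_one, degree_triv] at h1
      have := mul_left_cancel₀ (show (ε : ℂ) ≠ 0 by rcases hε with h | h <;> simp [h]) h1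
      exact (one_lt_degree_of_simple hcomm hne).ne' (by exact_mod_cast this)
    set z := charDegree (ψ₀ : G → ℂ) with hz
    have hsum1 : (1 : ℤ) ≤ ∑ χ ∈ X, δ χ * (charDegree (χ : G → ℂ) : ℤ) := by
      rw [← Finset.add_sum_erase _ _ hT, hd1 _ hT, degree_triv]
      have : (0 : ℤ) ≤ ∑ χ ∈ X.erase (Blocks.trivIrr G), δ χ * (charDegree (χ : G → ℂ) : ℤ) :=
        Finset.sum_nonneg fun χ hχ => by rw [hd1 χ (Finset.mem_of_mem_erase hχ), one_mul]; exact Int.natCast_nonneg _
      simpa using this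
    have hε1 : ε = 1 := hε.resolve_right fun h => by
      rw [h] at hY0'
      omega
    have hYdeg : ∀ ψ ∈ Y, charDegree (ψ : G → ℂ) = z := fun ψ hψ => by
      have h1 := (hrel ψ hψ 1 hone).trans (hrel ψ₀ hψ₀ 1 hone).symm
      rw [hε1, value_one, value_one] at h1
      simpa [hz] using h1
    have hzdvd : z ∣ e * (1 + n * p) := by
      refine Char.dvd_of_isIntegral_div (Blocks.irr_degree_eq ψ₀).2.ne' ?_
      have h : IsIntegral ℤ (∑ ψ ∈ Y, Char.omega ((ψ : IrrCharacter G) : G → ℂ) v) :=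
        IsIntegral.sum _ fun ψ _ => Char.isIntegral_omega_irr ψ.2 v
      rw [Finset.sum_congr (s₁ := Y) rfl
        (g := fun ψ => ((e * (1 + n * p) : ℕ) : ℂ) * (ψ : G → ℂ) v / (z : ℂ))
        fun ψ hψ => by rw [Char.omega, hcent, hidx, value_one, hYdeg ψ hψ],
        ← Finset.sum_div, ← Finset.mul_sum, hvalY, hε1] at h
      convert h.neg using 1
      push_cast; ring
    obtain ⟨y, hy⟩ := hzdvd
    have hzmod : z % p = e := by
      have h := hdY ψ₀ hψ₀
      rw [hε1, one_mul, Int.natCast_modEq_iff] at h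
      exact Eq.trans h (Nat.mod_eq_of_lt hep)
    have hym : y % p = 1 := by
      have h : ((e * y : ℕ) : ℤ) ≡ ((e * 1 : ℕ) : ℤ) [ZMOD p] := by
        rw [Int.natCast_modEq_iff]
        have h1 : (z * y) % p = e % p := by
          rw [← hy, show e * (1 + n * p) = e + (e * n) * p by ring, Nat.add_mul_mod_self_right]
        rw [Nat.mul_mod, hzmod, Nat.mul_mod_mod] at h1
        rw [mul_one]
        exact h1
      rw [Int.natCast_modEq_iff] at h
      have hcop : Nat.gcd p e = 1 := hp.coprime_iff_not_dvd.mpr fun h => by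
        have := Nat.le_of_dvd (by omega) h; omega
      have := Nat.ModEq.cancel_left_of_coprime hcop h
      simpa [Nat.ModEq, Nat.one_mod_eq_one.mpr hp.one_lt.ne'] using this
    rcases Nat.lt_or_ge 1 y with hy1 | hy1
    · have hye := pos_deg he2 ht1 het hnr hy1 hym ⟨z, hy.trans (mul_comm z y)⟩
      have hze : z = e := Nat.eq_of_mul_eq_mul_right (show 0 < y by omega)
        (by rw [← hy, hye, add_comm (n * p)])
      have hne : ψ₀ ≠ Blocks.trivIrr G := fun h => Finset.disjoint_left.mp hdisj hT (h ▸ hψ₀)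
      have hchar := Char.isCharacter_of_isIrr ψ₀.2
      have hfaith : ∀ g, (ψ₀ : G → ℂ) g = (ψ₀ : G → ℂ) 1 → g = 1 := fun g hg => faithful_of_simple hne hg
      have hle := Cfsg.Agent.S4503.result p hp hdvdG hsq hnn _ hchar hfaith
      have h2 : e * 2 ≤ e * t := Nat.mul_le_mul_left _ ht
      obtain ⟨φ⟩ := Cfsg.Agent.S4504.result p hp hdvdG hsq hnn _ hchar hfaith (by omega)
      have hZ : Subgroup.center G = ⊥ := by
        rcases (inferInstance : (Subgroup.center G).Normal).eq_bot_or_eq_top with h | h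
        · exact h
        · exact absurd ⟨⟨fun a b => (Subgroup.mem_center_iff.mp (h ▸ Subgroup.mem_top b)) a⟩⟩ hcomm
      refine Or.inl ⟨ZMod p, inferInstance, inferInstance, ZMod.card p, by omega, ⟨?_⟩⟩
      exact ((QuotientGroup.quotientBot (G := G)).symm.trans
        (QuotientGroup.quotientMulEquivOfEq hZ.symm)).trans φ
    · exfalso
      have hy' : y = 1 := by
        rcases Nat.eq_zero_or_pos y with h | h
        · rw [h, Nat.zero_mod] at hym; omega
        · omega
      rw [hy', mul_one] at hy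
      refine hno X δ Finset.subset_union_left (fun χ hχ hne => ?_) hT (hd1 _ hT) ?_
      · rw [hd1 χ hχ, one_mul, hpos χ hne (hdivX χ hχ (hvalX χ hχ)) (by simpa [hd1 χ hχ] using hdX χ hχ),
          add_comm]
      · rw [← hY0', ← hy, Nat.cast_mul]
        exact Dvd.dvd.mul_left (dvd_mul_left _ _) _

end CfsgLib.BrauerReynolds
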