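import Cfsg.Agent.S0727
import Cfsg.Agent.S0265
import Mathlib.GroupTheory.Sylow
import Mathlib.Tactic.Linarith

/-!
# Groups of order `(q + 1) q (q - 1)` with elementary abelian involution centralisers of order `q`

Such a group acts sharply 3-transitively on its Sylow 2-subgroups, so it is `PSL(2, q)`.
-/

set_option autoImplicit false
set_option linter.unusedSectionVars false
set_option linter.style.haveILetI false

open scoped Classical

namespace CfsgLib.BrauerReynolds

open MulAction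

universe u

variable {G : Type u} [Group G] [Finite G]

theorem center_SL_two_of_char_two {F : Type*} [Field F] [CharP F 2] :
    Subgroup.center (Matrix.SpecialLinearGroup (Fin 2) F) = ⊥ := by
  rw [eq_bot_iff]
  intro A hA
  obtain ⟨r, hr, hA'⟩ := Matrix.SpecialLinearGroup.mem_center_iff.mp hA
  rw [Subgroup.mem_bot]
  have h1 : r = 1 := by
    rw [Fintype.card_fin] at hr
    have : (r - 1) ^ 2 = 0 := by
      rw [sub_pow_char, hr, one_pow, sub_self]
    exact sub_eq_zero.mp (pow_eq_zero_iff (by norm_num) |>.mp this)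
  refine Subtype.ext ?_
  rw [← hA', h1]
  simp

theorem psl_equiv_of_even {F : Type} [Field F] [Fintype F] {m : ℕ} (hm : 1 ≤ m)
    (hF : Fintype.card F = 2 ^ m) {X : Type*} [Group X]
    (e : X ≃* Matrix.ProjGenLinGroup (Fin 2) F) :
    Nonempty (X ≃* Matrix.ProjectiveSpecialLinearGroup (Fin 2) F) := by
  haveI : Fact (Nat.Prime 2) := ⟨Nat.prime_two⟩
  haveI : CharP F 2 := charP_of_card_eq_prime_pow (f := m) hF
  haveI : Finite (Matrix.ProjGenLinGroup (Fin 2) F) := Quotient.finite _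
  have hbij : Function.Bijective
      (Matrix.ProjectiveSpecialLinearGroup.toPGL :
        Matrix.ProjectiveSpecialLinearGroup (Fin 2) F →* _) := by
    refine (Nat.bijective_iff_injective_and_card _).mpr
      ⟨Matrix.ProjectiveSpecialLinearGroup.toPGL_injective, ?_⟩
    rw [Cfsg.Agent.S0265.result 2]
    show Nat.card (_ ⧸ Subgroup.center (Matrix.SpecialLinearGroup (Fin 2) F)) = _
    rw [← Subgroup.index_eq_card, center_SL_two_of_char_two, Subgroup.index_bot]
  exact ⟨e.trans (MulEquiv.ofBijective _ hbij).symm⟩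

/-- The identification. -/
theorem psl_of_involution_centralizers {m : ℕ} (hm : 1 ≤ m)
    (hcard : Nat.card G = (2 ^ m + 1) * 2 ^ m * (2 ^ m - 1))
    (hC : ∀ x : G, orderOf x = 2 → Nat.card (Subgroup.centralizer ({x} : Set G)) = 2 ^ m ∧
      ∀ y ∈ Subgroup.centralizer ({x} : Set G), y * y = 1)
    (hinv : Nat.card {x : G // orderOf x = 2} = 2 ^ m * 2 ^ m - 1) :
    ∃ (F : Type) (_ : Field F) (_ : Fintype F), Fintype.card F = 2 ^ m ∧
      Nonempty (G ≃* Matrix.ProjectiveSpecialLinearGroup (Fin 2) F) := by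
  haveI : Fact (Nat.Prime 2) := ⟨Nat.prime_two⟩
  letI : Fintype G := Fintype.ofFinite G
  set q := 2 ^ m with hq
  have hq2 : 2 ≤ q := by
    calc 2 = 2 ^ 1 := rfl
      _ ≤ q := Nat.pow_le_pow_right (by norm_num) hm
  have hqe : 2 ∣ q := dvd_pow_self 2 (by omega)
  -- the Sylow 2-subgroups are the centralisers of involutions
  have hfac : (Nat.card G).factorization 2 = m := by
    rw [hcard, Nat.factorization_mul (Nat.mul_ne_zero (by omega) (by omega)) (by omega),
      Nat.factorization_mul (by omega) (by omega)]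
    simp only [Finsupp.add_apply]
    rw [Nat.factorization_eq_zero_of_not_dvd (show ¬ 2 ∣ q + 1 by omega),
      Nat.factorization_eq_zero_of_not_dvd (show ¬ 2 ∣ q - 1 by omega), hq,
      Nat.Prime.factorization_pow Nat.prime_two]
    simp
  let SC : {x : G // orderOf x = 2} → Sylow 2 G := fun x =>
    Sylow.ofCard (Subgroup.centralizer ({x.1} : Set G)) (by rw [(hC x.1 x.2).1, hfac])
  have hSC : ∀ x, (SC x : Subgroup G) = Subgroup.centralizer ({x.1} : Set G) := fun x => rfl
  have hcardQ : ∀ Q : Sylow 2 G, Nat.card (Q : Subgroup G) = q := fun Q => by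
    rw [Sylow.card_eq_multiplicity, hfac]
  have hexp : ∀ Q : Sylow 2 G, ∀ y ∈ Q, y * y = 1 := by
    intro Q y hy
    obtain ⟨x, hx⟩ := exists_prime_orderOf_dvd_card' 2 (show 2 ∣ Nat.card (Q : Subgroup G) by
      rw [hcardQ]; exact hqe)
    have hx2 : orderOf (x : G) = 2 := (Subgroup.orderOf_coe x).trans hx
    obtain ⟨c, hc⟩ := MulAction.exists_smul_eq G Q (SC ⟨x, hx2⟩)
    have hm' : c * y * c⁻¹ ∈ Subgroup.centralizer ({(x : G)} : Set G) := by
      rw [← hSC ⟨x, hx2⟩, ← hc, Sylow.coe_subgroup_smul]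
      exact Subgroup.smul_mem_pointwise_smul y (MulAut.conj c) _ hy
    have := (hC _ hx2).2 _ hm'
    rw [show c * y * c⁻¹ * (c * y * c⁻¹) = c * (y * y) * c⁻¹ by group, conj_eq_one_iff] at this
    exact this
  have hord : ∀ Q : Sylow 2 G, ∀ y ∈ Q, y ≠ 1 → orderOf y = 2 := fun Q y hy hy1 =>
    orderOf_eq_prime (by rw [pow_two]; exact hexp Q y hy) hy1
  have hcent : ∀ Q : Sylow 2 G, ∀ y, y ∈ Q → y ≠ 1 →
      Subgroup.centralizer ({y} : Set G) = (Q : Subgroup G) := by
    intro Q y hy hy1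
    refine (Subgroup.eq_of_le_of_card_ge (fun z hz => ?_)
      (by rw [hcardQ, (hC y (hord Q y hy hy1)).1])).symm
    rw [Subgroup.mem_centralizer_singleton_iff]
    have h1 := hexp Q _ (mul_mem hz hy)
    have h2 := hexp Q _ hz
    have h3 := hexp Q _ hy
    calc z * y = (z * y)⁻¹ := eq_inv_of_mul_eq_one_left h1
      _ = y⁻¹ * z⁻¹ := mul_inv_rev z y
      _ = y * z := by rw [← eq_inv_of_mul_eq_one_left h2, ← eq_inv_of_mul_eq_one_left h3]
  have hTI : ∀ Q Q' : Sylow 2 G, ∀ y, y ∈ Q → y ∈ Q' → y ≠ 1 → Q = Q' := fun Q Q' y h h' h1 =>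
    Sylow.ext ((hcent Q y h h1).symm.trans (hcent Q' y h' h1))
  have hnum : Nat.card (Sylow 2 G) = q + 1 := by
    let f : (Σ Q : Sylow 2 G, {y : (Q : Subgroup G) // y ≠ 1}) → {x : G // orderOf x = 2} :=
      fun a => ⟨a.2.1.1, hord a.1 _ a.2.1.2 fun h => a.2.2 (Subtype.ext h)⟩
    have hf : Function.Bijective f := by
      refine ⟨?_, fun x => ⟨⟨SC x, ⟨x.1, ?_⟩, ?_⟩, rfl⟩⟩
      · rintro ⟨Q, ⟨y, hy⟩, hy1⟩ ⟨Q', ⟨y', hy'⟩, hy1'⟩ he
        have he' : y = y' := congrArg Subtype.val he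
        subst he'
        have := hTI Q Q' y hy hy' fun h => hy1 (Subtype.ext h)
        subst this
        rfl
      · show x.1 ∈ Subgroup.centralizer ({x.1} : Set G)
        exact Subgroup.mem_centralizer_singleton_iff.mpr rfl
      · intro h
        have : x.1 = 1 := congrArg Subtype.val h
        have h2 := x.2
        rw [this, orderOf_one] at h2
        omega
    have h := Nat.card_eq_of_bijective f hf
    letI : Fintype (Sylow 2 G) := Fintype.ofFinite _
    rw [hinv, Nat.card_sigma, Finset.sum_congr rfl fun Q _ => show _ = q - 1 by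
      rw [Nat.card_eq_fintype_card, Fintype.card_subtype_compl, Fintype.card_subtype_eq,
        ← Nat.card_eq_fintype_card, hcardQ Q],
      Finset.sum_const, Finset.card_univ, smul_eq_mul, ← Nat.card_eq_fintype_card] at h
    refine Nat.eq_of_mul_eq_mul_right (show 0 < q - 1 by omega) (h.trans ?_)
    simpa using (Nat.mul_self_sub_mul_self_eq q 1)
  -- each Sylow subgroup is regular on the others
  have hfree : ∀ Q Q' : Sylow 2 G, Q' ≠ Q → ∀ x ∈ Q, x • Q' = Q' → x = 1 := by
    intro Q Q' hne x hx hfix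
    by_contra hx1
    have hn := Sylow.smul_eq_iff_mem_normalizer.mp hfix
    have this : x ∈ (Q : Subgroup G) ⊓ (Q' : Subgroup G) := (Q.2.inf_normalizer_sylow Q').le ⟨hx, hn⟩
    exact hne (hTI Q' Q x this.2 hx hx1)
  have hself : ∀ Q : Sylow 2 G, ∀ x ∈ Q, x • Q = Q := fun Q x hx =>
    Sylow.smul_eq_iff_mem_normalizer.mpr (Subgroup.le_normalizer hx)
  have hreg : ∀ Q Q' Q'' : Sylow 2 G, Q' ≠ Q → Q'' ≠ Q → ∃ x ∈ Q, x • Q' = Q'' := by
    intro Q Q' Q'' h' h''
    let f : ↥(Q : Subgroup G) → {R : Sylow 2 G // R ≠ Q} := fun x => ⟨(x : G) • Q', fun he => h' (by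
      have := congrArg ((x : G)⁻¹ • ·) he
      simpa [hself Q _ (inv_mem x.2)] using this)⟩
    have hinj : Function.Injective f := fun x y hxy => by
      have he : (x : G) • Q' = (y : G) • Q' := congrArg Subtype.val hxy
      have := hfree Q Q' h' _ (mul_mem (inv_mem y.2) x.2) (by rw [mul_smul, he, inv_smul_smul])
      exact Subtype.ext (inv_mul_eq_one.mp this).symm
    haveI : Fintype (Sylow 2 G) := Fintype.ofFinite _
    have hb : Function.Bijective f := by
      refine (Nat.bijective_iff_injective_and_card f).mpr ⟨hinj, ?_⟩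
      rw [hcardQ, Nat.card_eq_fintype_card, Fintype.card_subtype_compl, Fintype.card_subtype_eq,
        ← Nat.card_eq_fintype_card, hnum]
      omega
    obtain ⟨x, hx⟩ := hb.2 ⟨Q'', h''⟩
    exact ⟨x, x.2, congrArg Subtype.val hx⟩
  have hthree : ∀ (d : G) (Q₁ Q₂ Q₃ : Sylow 2 G), Q₁ ≠ Q₂ → Q₂ ≠ Q₃ → Q₁ ≠ Q₃ →
      d • Q₁ = Q₁ → d • Q₂ = Q₂ → d • Q₃ = Q₃ → d = 1 := by
    intro d Q₁ Q₂ Q₃ h12 h23 h13 e1 e2 e3
    obtain ⟨x, hx, hx23⟩ := hreg Q₁ Q₂ Q₃ (Ne.symm h12) (Ne.symm h13)
    have hx1 : x ≠ 1 := fun h => h23 (by rw [← hx23, h, one_smul])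
    have hd : d * x * d⁻¹ ∈ Q₁ := by
      have := (Subgroup.mem_normalizer_iff.mp (Sylow.smul_eq_iff_mem_normalizer.mp e1) x).mp hx
      exact this
    have he : (x⁻¹ * (d * x * d⁻¹)) • Q₂ = Q₂ := by
      have e2' : d⁻¹ • Q₂ = Q₂ := by rw [inv_smul_eq_iff, e2]
      rw [mul_smul, mul_smul, mul_smul, e2', hx23, e3, inv_smul_eq_iff, hx23]
    have h1 := inv_mul_eq_one.mp (hfree Q₁ Q₂ (Ne.symm h12) _ (mul_mem (inv_mem hx) hd) he)
    have hdc : d ∈ Subgroup.centralizer ({x} : Set G) := Subgroup.mem_centralizer_singleton_iff.mpr (by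
      calc d * x = (d * x * d⁻¹) * d := by group
        _ = x * d := by rw [← h1])
    rw [hcent Q₁ x hx hx1] at hdc
    exact hfree Q₁ Q₂ (Ne.symm h12) d hdc e2
  -- the permutation group
  haveI : Fintype (Sylow 2 G) := Fintype.ofFinite _
  have hα : Fintype.card (Sylow 2 G) = 2 ^ m + 1 := by rw [← Nat.card_eq_fintype_card, hnum]
  set φ := MulAction.toPermHom G (Sylow 2 G) with hφ
  obtain ⟨Q₁, Q₂, Q₃, n12, n13, n23⟩ := Fintype.two_lt_card_iff.mp (show 2 < Fintype.card (Sylow 2 G) by omega)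
  have hinjφ : Function.Injective φ := (injective_iff_map_eq_one φ).mpr fun d hd => by
    have hd' : ∀ Q : Sylow 2 G, d • Q = Q := fun Q => by
      have := congrArg (fun σ : Equiv.Perm (Sylow 2 G) => σ Q) hd
      simpa [hφ] using this
    exact hthree d Q₁ Q₂ Q₃ n12 n23 n13 (hd' _) (hd' _) (hd' _)
  have horb : ∀ x : Fin 3 ↪ Sylow 2 G, ∀ d : G, d • x = x → d = 1 := by
    intro x d hd
    refine hthree d (x 0) (x 1) (x 2) (x.injective.ne (by decide)) (x.injective.ne (by decide))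
      (x.injective.ne (by decide)) ?_ ?_ ?_ <;> exact congrFun (congrArg DFunLike.coe hd) _
  have hG3 : ∀ x y : Fin 3 ↪ Sylow 2 G, ∃ g : G, g • x = y := by
    intro x
    have hb : Function.Bijective (fun g : G => g • x) := by
      refine (Nat.bijective_iff_injective_and_card _).mpr ⟨fun g g' h => ?_, ?_⟩
      · have := horb x (g'⁻¹ * g) (by rw [mul_smul, show g • x = g' • x from h, inv_smul_smul])
        exact (inv_mul_eq_one.mp this).symm
      · rw [hcard, Nat.card_eq_fintype_card, Fintype.card_embedding_eq, hα, Fintype.card_fin,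
          ← hq]
        simp only [Nat.descFactorial_succ, Nat.descFactorial_zero, mul_one, Nat.sub_zero]
        rw [show q + 1 - 1 = q by omega, show q + 1 - 2 = q - 1 by omega]
        ring
    intro y
    exact hb.2 y
  have h3 : MulAction.IsMultiplyPretransitive φ.range (Sylow 2 G) 3 :=
    ⟨fun x y => by
      obtain ⟨g, hg⟩ := hG3 x y
      exact ⟨⟨φ g, g, rfl⟩, hg⟩⟩
  have hsharp : ∀ x : Fin 3 ↪ Sylow 2 G, MulAction.stabilizer φ.range x = ⊥ := by
    intro x
    rw [eq_bot_iff]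
    rintro ⟨σ, g, rfl⟩ hσ
    have : g • x = x := hσ
    rw [Subgroup.mem_bot]
    exact Subtype.ext ((congrArg φ (horb x g this)).trans (map_one φ))
  obtain ⟨F, iF, fF, hFc, ⟨e⟩⟩ := Cfsg.Agent.S0727.result hm hα φ.range h3 hsharp
  exact ⟨F, iF, fF, hFc, psl_equiv_of_even hm hFc ((MonoidHom.ofInjective hinjφ).trans e)⟩

end CfsgLib.BrauerReynolds
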