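import Mathlib.Data.Nat.Prime.Basic
import Mathlib.Data.Nat.GCD.Basic
import Mathlib.Tactic.Linarith
import Mathlib.Tactic.Ring
import Mathlib.Tactic.LinearCombination
import Mathlib.Data.Int.GCD
import Mathlib.Data.Nat.ModEq
import Mathlib.Data.Int.ModEq
import Mathlib.RingTheory.Coprime.Lemmas
import Mathlib.Tactic.IntervalCases
import Mathlib.Tactic.NormNum.Prime

/-!
# The arithmetic of the Brauer-Reynolds theorem

`p = e t + 1`, the group has order `e p (1 + n p)` with `NonRep p n`; the possible degrees in the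
principal block.
-/

set_option autoImplicit false

namespace CfsgLib.BrauerReynolds

variable {p e t n : ℕ}

/-- With `2 n ≤ p + 2` a divisor `> 1` of `e (1 + n p)` congruent to `1` modulo `p` equals `1 + n p`. -/
theorem pos_deg_of_small (he : 2 ≤ e) (ht : 1 ≤ t) (het : e * t + 1 = p) (hn2 : 2 * n ≤ p + 2) {x : ℕ}
    (hx1 : 1 < x) (hmod : x % p = 1) (hdvd : x ∣ e * (1 + n * p)) : x = n * p + 1 := by
  obtain ⟨y, hy⟩ := hdvd
  have hep : e < p := by nlinarith
  have hym : y % p = e := by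
    have h1 : (x * y) % p = e := by
      rw [← hy, show e * (1 + n * p) = e + (e * n) * p by ring, Nat.add_mul_mod_self_right,
        Nat.mod_eq_of_lt hep]
    rwa [Nat.mul_mod, hmod, one_mul, Nat.mod_mod] at h1
  obtain ⟨u, hu⟩ : ∃ u, x = u * p + 1 := ⟨x / p, by
    have := Nat.div_add_mod x p; rw [hmod] at this; linarith⟩
  obtain ⟨v, hv⟩ : ∃ v, y = v * p + e := ⟨y / p, by
    have := Nat.div_add_mod y p; rw [hym] at this; linarith⟩
  have hu1 : 1 ≤ u := by rcases Nat.eq_zero_or_pos u with h | h <;> [(subst h; omega); exact h]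
  subst hu hv
  have key : u * v * p + u * e + v = e * n := by
    have : p * (u * v * p + u * e + v) = p * (e * n) := by linarith
    exact Nat.eq_of_mul_eq_mul_left (by omega) this
  set h : ℤ := (n : ℤ) - u - u * v * t with hh
  have hkey : (v : ℤ) * (u + 1) = e * h := by
    have k : (u : ℤ) * v * p + u * e + v = e * n := by exact_mod_cast key
    have q : (e : ℤ) * t + 1 = p := by exact_mod_cast het
    rw [hh]
    linear_combination k + (u : ℤ) * v * q
  have hh0 : 0 ≤ h := by
    by_contra hlt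
    nlinarith
  rcases hh0.eq_or_lt with h0 | h1
  · rw [← h0, mul_zero] at hkey
    have hv0 : v = 0 := by
      rcases mul_eq_zero.mp hkey with h' | h'
      · exact_mod_cast h'
      · omega
    subst hv0
    have : u * e = n * e := by linarith
    rw [Nat.eq_of_mul_eq_mul_right (by omega) this]
  · exfalso
    have q : (e : ℤ) * t + 1 = p := by exact_mod_cast het
    have hn2' : 2 * (n : ℤ) ≤ p + 2 := by exact_mod_cast hn2
    have hnu : (n : ℤ) * (u + 1) = (u + 1) * (u + h) + u * h * (p - 1) := by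
      rw [hh] at hkey ⊢
      linear_combination (u : ℤ) * t * hkey + u * ((n : ℤ) - u - u * v * t) * q
    have hu1' : (1 : ℤ) ≤ u := by exact_mod_cast hu1
    have hp3 : (3 : ℤ) ≤ p := by
      have : 2 * 1 ≤ e * t := Nat.mul_le_mul he ht
      omega
    have a1 : ((u : ℤ) + 1) * (2 * n) ≤ (u + 1) * (p + 2) := mul_le_mul_of_nonneg_left hn2' (by omega)
    have a2 : ((u : ℤ) + 1) * (u + 1) ≤ (u + 1) * (u + h) := mul_le_mul_of_nonneg_left (by omega) (by omega)
    have a3 : (u : ℤ) * 1 * (p - 1) ≤ u * h * (p - 1) :=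
      mul_le_mul_of_nonneg_right (mul_le_mul_of_nonneg_left (by omega) (by omega)) (by omega)
    nlinarith

/-- `1 + n p` has no proper factor `1 + u p` in `(p - 1) (1 + n p)`. -/
def NonRep (p n : ℕ) : Prop :=
  ∀ x, 1 < x → x % p = 1 → x ∣ (p - 1) * (1 + n * p) → 1 + n * p ≤ x

theorem nonRep_of_small (hp : p.Prime) (hn2 : 2 * n ≤ p + 2) : NonRep p n := by
  intro x hx1 hmod hdvd
  rcases hp.two_le.eq_or_lt with rfl | hp3
  · rw [show (2 : ℕ) - 1 = 1 from rfl, one_mul] at hdvd
    have hn : n ≤ 2 := by omega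
    have hle := Nat.le_of_dvd (by omega) hdvd
    interval_cases n <;> interval_cases x <;> norm_num at *
  · have := pos_deg_of_small (e := p - 1) (t := 1) (by omega) le_rfl (by omega) hn2 hx1 hmod hdvd
    omega

theorem dvd_pred_mul (het : e * t + 1 = p) {x : ℕ} (h : x ∣ e * (1 + n * p)) :
    x ∣ (p - 1) * (1 + n * p) := by
  subst het
  rw [Nat.add_sub_cancel]
  exact h.trans (Nat.mul_dvd_mul_right (dvd_mul_right e t) _)

/-- A divisor `> 1` of `e (1 + n p)` congruent to `1` modulo `p` equals `1 + n p`. -/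
theorem pos_deg (he : 2 ≤ e) (ht : 1 ≤ t) (het : e * t + 1 = p) (hnr : NonRep p n) {x : ℕ}
    (hx1 : 1 < x) (hmod : x % p = 1) (hdvd : x ∣ e * (1 + n * p)) : x = n * p + 1 := by
  have hle := hnr x hx1 hmod (dvd_pred_mul het hdvd)
  have hep : e < p := by nlinarith
  obtain ⟨y, hy⟩ := hdvd
  have hym : y % p = e := by
    have h1 : (x * y) % p = e := by
      rw [← hy, show e * (1 + n * p) = e + (e * n) * p by ring, Nat.add_mul_mod_self_right,
        Nat.mod_eq_of_lt hep]
    rwa [Nat.mul_mod, hmod, one_mul, Nat.mod_mod] at h1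
  have hye : y ≤ e := Nat.le_of_mul_le_mul_left (c := 1 + n * p)
    (by rw [mul_comm _ e, hy]; exact Nat.mul_le_mul_right y hle) (by omega)
  rw [Nat.mod_eq_of_lt (by omega)] at hym
  subst hym
  have : x = 1 + n * p := Nat.eq_of_mul_eq_mul_left (show 0 < y by omega) (by rw [hy, mul_comm])
  omega

/-- A divisor of `e (1 + n p)` congruent to `-1` modulo `p`. -/
theorem neg_cases (he : 2 ≤ e) (ht : 1 ≤ t) (het : e * t + 1 = p) (hnr : NonRep p n)
    {x : ℕ} (hmod : p ∣ x + 1) (hdvd : x ∣ e * (1 + n * p)) :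
    (x + 1 = p ∧ ∃ v, n + 1 = v * t) ∨ (t = 1 ∧ x = e * (1 + n * p)) := by
  obtain ⟨y, hy⟩ := hdvd
  have hp3 : 3 ≤ p := by
    have : 2 * 1 ≤ e * t := Nat.mul_le_mul he ht
    omega
  have hY : (y * t) % p = 1 := by
    have h : ((y * t : ℕ) : ℤ) ≡ ((1 : ℕ) : ℤ) [ZMOD p] := by
      obtain ⟨k, hk⟩ := hmod
      have hk' : (x : ℤ) + 1 = p * k := by exact_mod_cast hk
      have hy' : (e : ℤ) * (1 + n * p) = x * y := by exact_mod_cast hy
      have q : (e : ℤ) * t + 1 = p := by exact_mod_cast het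
      rw [Int.modEq_iff_dvd]
      exact ⟨-(k : ℤ) * y * t + 1 + (e : ℤ) * t * n, by
        push_cast
        linear_combination -(y : ℤ) * t * hk' + (t : ℤ) * -hy' + q⟩
    rw [Int.natCast_modEq_iff, Nat.ModEq, Nat.one_mod_eq_one.mpr (by omega)] at h
    exact h
  have hm : (p - 1) * (1 + n * p) = x * (y * t) := by
    rw [← mul_assoc, ← hy, ← het, Nat.add_sub_cancel]
    ring
  rcases Nat.lt_or_ge 1 (y * t) with h1 | h1
  · refine Or.inl ?_
    have hle := hnr (y * t) h1 hY (hm ▸ dvd_mul_left _ x)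
    have hxp : x ≤ p - 1 := Nat.le_of_mul_le_mul_left (c := y * t)
      (by rw [mul_comm _ x, ← hm, mul_comm _ (p - 1)]; exact Nat.mul_le_mul_left _ hle) (by omega)
    have hxe : x + 1 = p := le_antisymm (by omega) (Nat.le_of_dvd (by omega) hmod)
    refine ⟨hxe, ?_⟩
    have hy0 : 0 < y := Nat.pos_of_ne_zero fun h => by simp [h] at h1
    have hm' : 1 + n * p = y * t := Nat.eq_of_mul_eq_mul_left (show 0 < p - 1 by omega)
      (by rw [hm]; congr 1; omega)
    have hdv : t ∣ 1 + n * p := hm' ▸ dvd_mul_left t y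
    have he1 : 1 + n * p = n + 1 + (e * n) * t := by rw [← het]; ring
    rw [he1] at hdv
    obtain ⟨v, hv⟩ := (Nat.dvd_add_left (dvd_mul_left t (e * n))).mp hdv
    exact ⟨v, hv.trans (mul_comm t v)⟩
  · have h0 : y * t ≠ 0 := fun h => by rw [h, Nat.zero_mod] at hY; omega
    have h11 : y * t = 1 := by omega
    have hy1 : y = 1 := Nat.eq_one_of_mul_eq_one_right h11
    have ht1 : t = 1 := Nat.eq_one_of_mul_eq_one_left h11
    exact Or.inr ⟨ht1, by rw [hy, hy1, mul_one]⟩

/-- A divisor of `e (1 + n p)` congruent to `-1` with small square equals `p - 1`, and `t ∣ n + 1`. -/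
theorem neg_deg (he : 2 ≤ e) (ht : 1 ≤ t) (het : e * t + 1 = p) (hn : 1 ≤ n) (hnr : NonRep p n)
    {x : ℕ} (hmod : p ∣ x + 1) (hdvd : x ∣ e * (1 + n * p))
    (hsq : x * x ≤ e * p * (1 + n * p)) :
    x + 1 = p ∧ ∃ v, n + 1 = v * t := by
  refine (neg_cases he ht het hnr hmod hdvd).resolve_right ?_
  rintro ⟨-, rfl⟩
  have h1 : e * (1 + n * p) * (e * (1 + n * p)) ≤ p * (e * (1 + n * p)) := by linarith
  have h2 : e * (1 + n * p) ≤ p := Nat.le_of_mul_le_mul_right h1 (by positivity)
  have : 1 * p ≤ n * p := Nat.mul_le_mul_right p hn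
  nlinarith

/-- A divisor of `e (1 + n p)` congruent to `e` with small square equals `e`. -/
theorem exc_pos_deg (he : 2 ≤ e) (ht : 2 ≤ t) (het : e * t + 1 = p) (hn : 1 ≤ n)
    (hnr : NonRep p n) {z : ℕ} (hmod : z % p = e) (hdvd : z ∣ e * (1 + n * p))
    (hsq : z * z ≤ e * p * (1 + n * p)) : z = e := by
  obtain ⟨y, hy⟩ := hdvd
  have hep : e < p := by nlinarith
  have hp1 : 1 < p := by omega
  have hym : y % p = 1 := by
    have h1 : (z * y) % p = e := by
      rw [← hy, show e * (1 + n * p) = e + (e * n) * p by ring, Nat.add_mul_mod_self_right,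
        Nat.mod_eq_of_lt hep]
    rw [Nat.mul_mod, hmod] at h1
    have hy' : y % p < p := Nat.mod_lt _ (by omega)
    -- `e * (y % p) ≡ e`, hence `y % p = 1`
    have h2 : (e * (y % p)) % p = (e * 1) % p := by rw [h1, mul_one, Nat.mod_eq_of_lt hep]
    have hcop : Nat.gcd p e = 1 := by
      have hg : Nat.gcd p e ∣ 1 := by
        have a := Nat.gcd_dvd_left p e
        rw [← het] at a ⊢
        exact (Nat.dvd_add_right ((Nat.gcd_dvd_right _ e).mul_right t)).mp a
      exact Nat.dvd_one.mp hg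
    have h3 := Nat.ModEq.cancel_left_of_coprime hcop h2
    simpa [Nat.ModEq, Nat.mod_eq_of_lt hy', Nat.mod_eq_of_lt hp1] using h3
  rcases Nat.lt_or_ge 1 y with hy1 | hy1
  · have := pos_deg he (by omega) het hnr hy1 hym (Dvd.intro_left z hy.symm)
    subst this
    have : (n * p + 1) * z = (n * p + 1) * e := by linarith
    exact Nat.eq_of_mul_eq_mul_left (by omega) this
  · exfalso
    have hy' : y = 1 := by
      rcases Nat.eq_zero_or_pos y with h | h
      · subst h; simp at hym
      · omega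
    subst hy'
    rw [mul_one] at hy
    subst hy
    have h1 : e * (1 + n * p) * (e * (1 + n * p)) ≤ p * (e * (1 + n * p)) := by linarith
    have h2 : e * (1 + n * p) ≤ p := Nat.le_of_mul_le_mul_right h1 (by positivity)
    have : 1 * p ≤ n * p := Nat.mul_le_mul_right p hn
    nlinarith

/-- The two parameters of the exceptional degree agree. -/
theorem exc_neg_deg (he : 2 ≤ e) (ht : 2 ≤ t) (het : e * t + 1 = p) (hnr : NonRep p n) {w g : ℕ}
    (hg : g + e = w * p) (hdvd : g ∣ e * (1 + n * p)) : n + 1 = w * t := by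
  obtain ⟨y, hy⟩ := hdvd
  have hcop : IsCoprime (p : ℤ) (e : ℤ) := ⟨1, -t, by
    have : (e : ℤ) * t + 1 = p := by exact_mod_cast het
    linear_combination -this⟩
  have hym : p ∣ y + 1 := by
    have h1 : (p : ℤ) ∣ (e : ℤ) * ((y : ℤ) + 1) := by
      have hg' : (g : ℤ) + e = w * p := by exact_mod_cast hg
      have hy' : (e : ℤ) * (1 + n * p) = g * y := by exact_mod_cast hy
      exact ⟨(w : ℤ) * y - (e : ℤ) * n, by linear_combination (y : ℤ) * hg' + hy'⟩
    exact_mod_cast hcop.dvd_of_dvd_mul_left h1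
  rcases neg_cases he (by omega) het hnr hym ⟨g, hy.trans (mul_comm g y)⟩ with ⟨h, -⟩ | ⟨h, -⟩
  · have hgt : g * t = 1 + n * p := Nat.eq_of_mul_eq_mul_left (show 0 < e by omega) (by
      rw [hy, show y = e * t by omega]; ring)
    have key : (n + 1) * p = w * t * p := by
      have : g * t + e * t = w * t * p := by rw [← Nat.add_mul, hg]; ring
      rw [Nat.add_mul, one_mul]
      omega
    exact Nat.eq_of_mul_eq_mul_right (show 0 < p by nlinarith) key
  · omega

/-- The size of the normalizer of a complement forces `w = 1`. -/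
theorem w_eq_one (ht : 1 ≤ t) (het : e * t + 1 = p) (hp : p.Prime) (hepos : 0 < e) {a w : ℕ}
    (hew : a * (n + 1) + w + 1 = e) (hv : n + 1 = w * t)
    (hdvd : e * (n + 1) ∣ e * p * (1 + n * p)) : w = 1 := by
  have h1 : (n + 1) ∣ p * (1 + n * p) := by
    refine (Nat.mul_dvd_mul_iff_left hepos).mp ?_
    rwa [← mul_assoc]
  have hZ : ((w * t : ℕ) : ℤ) ∣ ((p * (1 + n * p) : ℕ) : ℤ) := by
    exact_mod_cast hv ▸ h1
  have e1 : ((p * (1 + n * p) : ℕ) : ℤ) = (t : ℤ) * ((p : ℤ) * (w * p - e)) := by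
    have hn' : (n : ℤ) = w * t - 1 := by
      have : (n : ℤ) + 1 = w * t := by exact_mod_cast hv
      linarith
    have q : (e : ℤ) * t + 1 = p := by exact_mod_cast het
    push_cast
    rw [hn']
    linear_combination (p : ℤ) * q
  rw [e1, Nat.cast_mul, mul_comm (w : ℤ)] at hZ
  have h2 : (w : ℤ) ∣ (p : ℤ) * (w * p - e) :=
    (mul_dvd_mul_iff_left (by exact_mod_cast (show t ≠ 0 by omega))).mp hZ
  have h3 : (w : ℤ) ∣ (p : ℤ) * e := by
    have := Int.dvd_sub (dvd_mul_right (w : ℤ) (p * p)) h2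
    rwa [show (w : ℤ) * (p * p) - p * (w * p - e) = p * e by ring] at this
  have h4 : w ∣ p * e := by exact_mod_cast h3
  have hwp : Nat.Coprime w p := (hp.coprime_iff_not_dvd.mpr fun h => by
    have hep : e ≤ e * t := Nat.le_mul_of_pos_right e ht
    rcases Nat.eq_zero_or_pos w with h0 | h0
    · subst h0; simp at hv
    · have := Nat.le_of_dvd h0 h
      omega).symm
  have h5 : w ∣ e := hwp.dvd_of_dvd_mul_left h4
  have h6 : w ∣ a * (n + 1) + w := Nat.dvd_add (Dvd.dvd.mul_left (hv ▸ dvd_mul_right w t) a) dvd_rfl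
  rw [← hew] at h5
  exact Nat.dvd_one.mp ((Nat.dvd_add_right h6).mp h5)

end CfsgLib.BrauerReynolds
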