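import Cfsg.Agent.Lib.BrauerReynolds.Setting
import Cfsg.Agent.Lib.Char.Kernel
import Cfsg.Agent.Lib.SmallOrder.Exclude
import Cfsg.Agent.S4503
import Cfsg.Agent.S4504

/-!
# The degrees in the principal block
-/

set_option autoImplicit false
set_option linter.unusedSectionVars false
set_option linter.style.haveILetI false

namespace CfsgLib.BrauerReynolds

open Cfsg
open scoped ComplexConjugate CfsgLib.Char
open CfsgLib
open scoped Classical

universe u

/-- The conclusion of the Brauer-Reynolds theorem. -/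
def Concl (G : Type u) [Group G] (p : ℕ) : Prop :=
  (∃ (F : Type) (_ : Field F) (_ : Fintype F), Fintype.card F = p ∧ 3 < p ∧
      Nonempty (G ≃* Matrix.ProjectiveSpecialLinearGroup (Fin 2) F)) ∨
    (∃ (m : ℕ) (F : Type) (_ : Field F) (_ : Fintype F), Fintype.card F = 2 ^ m ∧ p = 2 ^ m + 1 ∧
      3 < p ∧ Nonempty (G ≃* Matrix.ProjectiveSpecialLinearGroup (Fin 2) F))

variable {G : Type u} [Group G] [Finite G] {p : ℕ} [Fact p.Prime]

local notation "deg" => fun χ : IrrCharacter G => charDegree (χ : G → ℂ)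

theorem value_one (χ : IrrCharacter G) : (χ : G → ℂ) 1 = (charDegree (χ : G → ℂ) : ℂ) :=
  (Blocks.irr_degree_eq χ).1

theorem degree_dvd (χ : IrrCharacter G) : charDegree (χ : G → ℂ) ∣ Nat.card G := by
  obtain ⟨n, h1, -, h3⟩ := Char.exists_degree_dvd_card χ.2
  rw [value_one] at h1
  rwa [Nat.cast_injective h1]

theorem degree_sq_le (χ : IrrCharacter G) :
    charDegree (χ : G → ℂ) * charDegree (χ : G → ℂ) ≤ Nat.card G := by
  have h := Char.sum_sq_degree (G := G)
  simp only [value_one, ← Nat.cast_pow, ← Nat.cast_sum, Nat.cast_inj] at h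
  rw [← h, ← pow_two]
  exact Finset.single_le_sum (f := fun ξ : IrrCharacter G => charDegree (ξ : G → ℂ) ^ 2)
    (fun _ _ => Nat.zero_le _) (Finset.mem_univ χ)

theorem degree_triv : charDegree (Blocks.trivIrr G : G → ℂ) = 1 := by
  show ⌊((1 : ℂ)).re⌋₊ = 1
  simp

namespace Hyp

variable (H : Hyp G p)
include H

theorem not_comm : ¬ IsMulCommutative G := by
  intro hc
  haveI := H.simple
  let _ : CommGroup G := { ‹Group G› with mul_comm := fun a b => hc.is_comm.comm a b }
  exact H.noncomm inferInstance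

/-- Non-trivial characters are faithful. -/
theorem faithful {χ : IrrCharacter G} (hχ : χ ≠ Blocks.trivIrr G) {g : G}
    (hg : (χ : G → ℂ) g = (χ : G → ℂ) 1) : g = 1 := by
  haveI := H.simple
  letI : Fintype G := Fintype.ofFinite G
  obtain ⟨K, hK, hmem, -⟩ := Char.exists_kernel (Char.isCharacter_of_isIrr χ.2)
  rcases hK.eq_bot_or_eq_top with h | h
  · have := (hmem g).mpr hg
    rwa [h, Subgroup.mem_bot] at this
  · exfalso
    refine hχ ?_
    by_contra hne
    have h0 := Char.classInner_coe χ (Blocks.trivIrr G)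
    rw [if_neg hne] at h0
    rw [classInner, Finset.sum_congr rfl fun x _ => show _ = (χ : G → ℂ) 1 by
      rw [(hmem x).mp (h ▸ Subgroup.mem_top x)]; simp [Blocks.trivIrr],
      Finset.sum_const, Finset.card_univ, nsmul_eq_mul, Nat.card_eq_fintype_card,
      inv_mul_cancel_left₀ (Nat.cast_ne_zero.mpr Fintype.card_ne_zero)] at h0
    exact Char.irr_degree_ne_zero χ.2 h0

theorem one_lt_degree {χ : IrrCharacter G} (hχ : χ ≠ Blocks.trivIrr G) :
    1 < charDegree (χ : G → ℂ) := by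
  haveI := H.simple
  have hpos := (Blocks.irr_degree_eq χ).2
  rcases Nat.lt_or_ge 1 (charDegree (χ : G → ℂ)) with h | h
  · exact h
  exfalso
  have h1 : (χ : G → ℂ) 1 = 1 := by rw [value_one]; exact_mod_cast (show _ = 1 by omega)
  have hc := Char.isCharacter_of_isIrr χ.2
  refine H.not_comm ⟨⟨fun a b => ?_⟩⟩
  have hinj : ∀ x, Char.linearHom hc h1 x = 1 → x = 1 := fun x hx => H.faithful hχ (by
    rw [h1, ← Char.linearHom_apply hc h1 x, hx]; rfl)
  exact (injective_iff_map_eq_one _).mpr hinj (by rw [map_mul, map_mul, mul_comm])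

end Hyp

namespace Data

variable {H : Hyp G p} (D : Data H)
include D

theorem t_pos : 1 ≤ D.t := by
  have := D.het
  have := (Fact.out : p.Prime).one_lt
  rcases Nat.eq_zero_or_pos D.t with h | h
  · have h' := D.het
    rw [h, mul_zero] at h'
    omega
  · exact h

theorem e_lt : H.e < p := by
  have := Nat.mul_le_mul_left H.e D.t_pos
  have := D.het
  omega

theorem p_ge : 3 ≤ p := by
  have := D.e_lt
  have := H.two_le_e
  omega

theorem dvd_of_mem {χ : IrrCharacter G} (hχ : χ ∈ D.X ∪ D.Y) :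
    charDegree (χ : G → ℂ) ∣ H.e * (1 + H.n * p) := by
  have h := degree_dvd χ
  rw [H.card_G, show H.e * p * (1 + H.n * p) = p * (H.e * (1 + H.n * p)) by ring] at h
  exact ((Fact.out : p.Prime).coprime_iff_not_dvd.mpr (D.not_out χ hχ)).symm.dvd_of_dvd_mul_left h

theorem sq_le (χ : IrrCharacter G) :
    charDegree (χ : G → ℂ) * charDegree (χ : G → ℂ) ≤ H.e * p * (1 + H.n * p) :=
  H.card_G ▸ degree_sq_le χ

theorem triv_mem : Blocks.trivIrr G ∈ D.X ∪ D.Y := by
  by_contra h
  simp only [Finset.mem_union, not_or] at h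
  have := (D.out _ h.1 h.2).1
  rw [show charDegree (Blocks.trivIrr G : G → ℂ) = 1 by
    show ⌊((1 : ℂ)).re⌋₊ = 1
    simp] at this
  exact (Fact.out : p.Prime).not_dvd_one this

theorem sum_split {f : IrrCharacter G → ℂ} :
    ∑ χ : IrrCharacter G, f χ = ∑ χ ∈ D.X, f χ + ∑ χ ∈ D.Y, f χ +
      ∑ χ ∈ (D.X ∪ D.Y)ᶜ, f χ := by
  rw [← Finset.sum_union D.disj, Finset.sum_add_sum_compl]

theorem sum_block {f : IrrCharacter G → ℂ} (hf : ∀ χ, χ ∉ D.X → χ ∉ D.Y → f χ = 0) :
    ∑ χ : IrrCharacter G, f χ = ∑ χ ∈ D.X, f χ + ∑ χ ∈ D.Y, f χ := by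
  rw [D.sum_split, Finset.sum_eq_zero (s := (D.X ∪ D.Y)ᶜ) fun χ hχ => by
    simp only [Finset.mem_compl, Finset.mem_union, not_or] at hχ
    exact hf χ hχ.1 hχ.2, add_zero]

theorem degree_eq {ψ ψ' : IrrCharacter G} (hψ : ψ ∈ D.Y) (hψ' : ψ' ∈ D.Y) :
    charDegree (ψ : G → ℂ) = charDegree (ψ' : G → ℂ) := by
  have h1 := D.rel ψ hψ 1 (by simpa using (Fact.out : p.Prime).one_lt.ne')
  have h2 := D.rel ψ' hψ' 1 (by simpa using (Fact.out : p.Prime).one_lt.ne')
  rw [← h2, value_one, value_one] at h1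
  exact_mod_cast mul_left_cancel₀ (show (D.ε : ℂ) ≠ 0 by rcases D.hε with h | h <;> simp [h]) h1

/-- The exceptional values sum to `-ε`. -/
theorem sum_Y {v : G} (hv : v ∈ (H.P : Subgroup G)) (hv1 : v ≠ 1) :
    ∑ ψ ∈ D.Y, (ψ : G → ℂ) v = -(D.ε : ℂ) := by
  obtain ⟨ψ₀, hψ₀⟩ : D.Y.Nonempty := Finset.card_pos.mp (by rw [D.card_Y]; exact D.t_pos)
  have h := Char.sum_degree_mul_irr v
  rw [if_neg hv1, D.sum_split,
    Finset.sum_eq_zero (s := (D.X ∪ D.Y)ᶜ) fun χ hχ => by
      simp only [Finset.mem_compl, Finset.mem_union, not_or] at hχ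
      rw [(D.out χ hχ.1 hχ.2).2 v hv hv1, mul_zero],
    add_zero, Finset.sum_congr (s₁ := D.Y) rfl (g := fun ψ =>
      (charDegree (ψ₀ : G → ℂ) : ℂ) * (ψ : G → ℂ) v) (fun ψ hψ => by
        rw [value_one, D.degree_eq hψ hψ₀]),
    ← Finset.mul_sum] at h
  have hr := D.rel ψ₀ hψ₀ 1 (by simpa using (Fact.out : p.Prime).one_lt.ne')
  rw [value_one, Finset.sum_congr rfl (g := fun χ : IrrCharacter G => (χ : G → ℂ) 1 * (χ : G → ℂ) v)
    (fun χ hχ => by rw [D.val χ hχ v hv hv1, mul_comm])] at hr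
  rw [← hr] at h
  have hd : (charDegree (ψ₀ : G → ℂ) : ℂ) ≠ 0 := by
    rw [← value_one]; exact Char.irr_degree_ne_zero ψ₀.2
  have : (charDegree (ψ₀ : G → ℂ) : ℂ) * ((D.ε : ℂ) + ∑ ψ ∈ D.Y, (ψ : G → ℂ) v) = 0 := by
    linear_combination h
  linear_combination (mul_eq_zero.mp this).resolve_left hd

theorem pos_degree {χ : IrrCharacter G} (hχ : χ ∈ D.X) (hne : χ ≠ Blocks.trivIrr G)
    (hδ : D.δ χ = 1) : charDegree (χ : G → ℂ) = H.n * p + 1 := by
  refine pos_deg H.two_le_e D.t_pos D.het H.nonrep (H.one_lt_degree hne) ?_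
    (D.dvd_of_mem (Finset.mem_union_left _ hχ))
  have h := D.degX χ hχ
  rw [hδ, show (1 : ℤ) = ((1 : ℕ) : ℤ) from rfl, Int.natCast_modEq_iff] at h
  rw [h, Nat.one_mod_eq_one.mpr (Fact.out : p.Prime).one_lt.ne']

theorem neg_degree {χ : IrrCharacter G} (hχ : χ ∈ D.X) (hδ : D.δ χ = -1) :
    charDegree (χ : G → ℂ) + 1 = p ∧ ∃ v, H.n + 1 = v * D.t := by
  refine neg_deg H.two_le_e D.t_pos D.het H.n_pos H.nonrep ?_
    (D.dvd_of_mem (Finset.mem_union_left _ hχ)) (D.sq_le χ)
  have h := D.degX χ hχ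
  rw [hδ] at h
  have := (Int.modEq_iff_dvd.mp h.symm)
  rw [sub_neg_eq_add] at this
  exact_mod_cast this

/-- The two rows swapped when there is only one exceptional character. -/
noncomputable def swap (ht : D.t = 1) {ψ χ₀ : IrrCharacter G} (hψ : D.Y = {ψ}) (hχ₀ : χ₀ ∈ D.X) :
    Data H where
  X := insert ψ (D.X.erase χ₀)
  Y := {χ₀}
  δ := fun χ => if χ = ψ then -D.ε else D.δ χ
  ε := -D.δ χ₀
  t := 1
  disj := by
    rw [Finset.disjoint_singleton_right, Finset.mem_insert, Finset.mem_erase]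
    rintro (rfl | ⟨h, -⟩)
    · exact Finset.disjoint_left.mp D.disj hχ₀ (by rw [hψ]; exact Finset.mem_singleton_self _)
    · exact h rfl
  het := ht ▸ D.het
  card_X := by
    rw [Finset.card_insert_of_notMem fun h => Finset.disjoint_left.mp D.disj
      (Finset.mem_of_mem_erase h) (by rw [hψ]; exact Finset.mem_singleton_self _),
      Finset.card_erase_of_mem hχ₀, D.card_X]
    have := H.two_le_e
    omega
  card_Y := Finset.card_singleton _
  hε := by rcases D.hδ χ₀ hχ₀ with h | h <;> simp [h]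
  hδ := fun χ hχ => by
    rcases Finset.mem_insert.mp hχ with rfl | h
    · rcases D.hε with h | h <;> simp [h]
    · have hne : χ ≠ ψ := fun e => Finset.disjoint_left.mp D.disj (Finset.mem_of_mem_erase h)
        (by rw [hψ, e]; exact Finset.mem_singleton_self _)
      simp only [if_neg hne]
      exact D.hδ χ (Finset.mem_of_mem_erase h)
  val := fun χ hχ v hv hv1 => by
    rcases Finset.mem_insert.mp hχ with rfl | h
    · have := D.sum_Y hv hv1
      rw [hψ, Finset.sum_singleton] at this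
      simp [this]
    · have hne : χ ≠ ψ := fun e => Finset.disjoint_left.mp D.disj (Finset.mem_of_mem_erase h)
        (by rw [hψ, e]; exact Finset.mem_singleton_self _)
      simp only [if_neg hne]
      exact D.val χ (Finset.mem_of_mem_erase h) v hv hv1
  degX := fun χ hχ => by
    rcases Finset.mem_insert.mp hχ with rfl | h
    · simp only [if_true]
      refine (D.degY χ (by rw [hψ]; exact Finset.mem_singleton_self _)).trans ?_
      have : (H.e : ℤ) + 1 = p := by exact_mod_cast (show H.e + 1 = p by simpa [ht] using D.het)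
      rw [Int.modEq_iff_dvd]
      exact ⟨-D.ε, by rw [← this]; ring⟩
    · have hne : χ ≠ ψ := fun e => Finset.disjoint_left.mp D.disj (Finset.mem_of_mem_erase h)
        (by rw [hψ, e]; exact Finset.mem_singleton_self _)
      simp only [if_neg hne]
      exact D.degX χ (Finset.mem_of_mem_erase h)
  degY := fun χ hχ => by
    rw [Finset.mem_singleton.mp hχ]
    refine (D.degX χ₀ hχ₀).trans ?_
    have : (H.e : ℤ) + 1 = p := by exact_mod_cast (show H.e + 1 = p by simpa [ht] using D.het)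
    rw [Int.modEq_iff_dvd]
    exact ⟨-D.δ χ₀, by rw [← this]; ring⟩
  rel := fun χ hχ g hg => by
    rw [Finset.mem_singleton.mp hχ]
    have hψY : ψ ∈ D.Y := by rw [hψ]; exact Finset.mem_singleton_self _
    rw [Finset.sum_insert fun h => Finset.disjoint_left.mp D.disj (Finset.mem_of_mem_erase h) hψY,
      Finset.sum_congr rfl fun χ h => show _ = (D.δ χ : ℂ) * (χ : G → ℂ) g by
        rw [if_neg fun e => Finset.disjoint_left.mp D.disj (Finset.mem_of_mem_erase h)
          (by rw [e]; exact hψY)],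
      if_pos rfl]
    have h := D.rel ψ hψY g hg
    rw [← Finset.add_sum_erase _ _ hχ₀] at h
    push_cast
    linear_combination h
  out := fun χ hX hY => by
    simp only [Finset.mem_insert, Finset.mem_erase, Finset.mem_singleton, not_or, not_and] at hX hY
    exact D.out χ (hX.2 hY) (by rw [hψ, Finset.mem_singleton]; exact hX.1)
  not_out := fun χ hχ => by
    refine D.not_out χ ?_
    rw [hψ]
    simp only [Finset.mem_union, Finset.mem_insert, Finset.mem_erase, Finset.mem_singleton] at hχ ⊢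
    rcases hχ with (h | h) | h
    · exact Or.inr h
    · exact Or.inl h.2
    · exact Or.inl (h ▸ hχ₀)

theorem delta_triv (hT : Blocks.trivIrr G ∈ D.X) : D.δ (Blocks.trivIrr G) = 1 := by
  obtain ⟨v, hv, hv1⟩ := H.exists_mem_ne_one
  have h := D.val _ hT v hv hv1
  have : ((1 : ℤ) : ℂ) = (D.δ (Blocks.trivIrr G) : ℂ) := by rw [← h]; simp [Blocks.trivIrr]
  exact_mod_cast this.symm

end Data

/-- A normalised set of data exists. -/
theorem exists_norm (H : Hyp G p) :
    ∃ D : Data H, Blocks.trivIrr G ∈ D.X ∧ (D.t = 1 → D.ε = -1) := by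
  obtain ⟨D⟩ := nonempty_data H
  by_cases ht : D.t = 1
  swap
  · refine ⟨D, ?_, fun h => absurd h ht⟩
    rcases Finset.mem_union.mp D.triv_mem with h | h
    · exact h
    exfalso
    obtain ⟨ψ, hψ, hne⟩ := Finset.exists_mem_ne (show 1 < D.Y.card by
      have := D.t_pos; rw [D.card_Y]; omega) (Blocks.trivIrr G)
    have h1 := D.degree_eq hψ h
    rw [degree_triv] at h1
    exact (H.one_lt_degree hne).ne' h1
  -- first put the trivial character into `X`
  obtain ⟨D₁, hT, ht1⟩ : ∃ D₁ : Data H, Blocks.trivIrr G ∈ D₁.X ∧ D₁.t = 1 := by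
    rcases Finset.mem_union.mp D.triv_mem with h | h
    · exact ⟨D, h, ht⟩
    obtain ⟨χ₀, hχ₀⟩ : D.X.Nonempty := Finset.card_pos.mp (by
      rw [D.card_X]; have := H.two_le_e; omega)
    obtain ⟨ψ, hψ⟩ := Finset.card_eq_one.mp (D.card_Y.trans ht)
    rw [hψ, Finset.mem_singleton] at h
    exact ⟨D.swap ht hψ hχ₀, by rw [h]; exact Finset.mem_insert_self _ _, rfl⟩
  by_cases hε : D₁.ε = -1
  · exact ⟨D₁, hT, fun _ => hε⟩
  have hε1 : D₁.ε = 1 := D₁.hε.resolve_right hε
  obtain ⟨ψ, hψ⟩ := Finset.card_eq_one.mp (D₁.card_Y.trans ht1)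
  by_cases hex : ∃ χ ∈ D₁.X, χ ≠ Blocks.trivIrr G ∧ D₁.δ χ = 1
  · obtain ⟨χ₀, h0, hne, hd⟩ := hex
    refine ⟨D₁.swap ht1 hψ h0, ?_, fun _ => ?_⟩
    · exact Finset.mem_insert_of_mem (Finset.mem_erase.mpr ⟨hne.symm, hT⟩)
    · show -D₁.δ χ₀ = -1
      rw [hd]
  exfalso
  push Not at hex
  have hr := D₁.rel ψ (by rw [hψ]; exact Finset.mem_singleton_self _) 1
    (by simpa using (Fact.out : p.Prime).one_lt.ne')
  rw [hε1, ← Finset.add_sum_erase _ _ hT, D₁.delta_triv hT, Finset.sum_congr rfl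
    (s₁ := D₁.X.erase (Blocks.trivIrr G)) (g := fun χ => -(charDegree (χ : G → ℂ) : ℂ)) fun χ hχ => by
      rw [(D₁.hδ χ (Finset.mem_of_mem_erase hχ)).resolve_left
        (hex χ (Finset.mem_of_mem_erase hχ) (Finset.ne_of_mem_erase hχ)), value_one]
      push_cast; ring,
    value_one, value_one, degree_triv, Finset.sum_neg_distrib] at hr
  push_cast at hr
  simp only [one_mul] at hr
  have h2 : charDegree (ψ : G → ℂ) + ∑ χ ∈ D₁.X.erase (Blocks.trivIrr G), charDegree (χ : G → ℂ) = 1 := by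
    have : ((charDegree (ψ : G → ℂ) + ∑ χ ∈ D₁.X.erase (Blocks.trivIrr G),
        charDegree (χ : G → ℂ) : ℕ) : ℂ) = ((1 : ℕ) : ℂ) := by
      push_cast; linear_combination hr
    exact_mod_cast this
  obtain ⟨χ, hχ⟩ : (D₁.X.erase (Blocks.trivIrr G)).Nonempty := Finset.card_pos.mp (by
    rw [Finset.card_erase_of_mem hT, D₁.card_X]; have := H.two_le_e; omega)
  have := H.one_lt_degree (Finset.ne_of_mem_erase hχ)
  have := Finset.single_le_sum (f := fun χ : IrrCharacter G => charDegree (χ : G → ℂ))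
    (fun _ _ => Nat.zero_le _) hχ
  omega

/-- The parameters of the main case. -/
structure Main {H : Hyp G p} (D : Data H) (a w z : ℕ) : Prop where
  triv : Blocks.trivIrr G ∈ D.X
  eps : D.ε = -1
  w_pos : 1 ≤ w
  he : a * (H.n + 1) + w + 1 = H.e
  hn : H.n + 1 = w * D.t
  degY : ∀ ψ ∈ D.Y, charDegree (ψ : G → ℂ) = z
  hz : z + H.e = w * p
  count : (D.X.filter fun χ => χ ≠ Blocks.trivIrr G ∧ D.δ χ = 1).card = a

/-- Either the group is `PSL(2, p)` already, or we are in the main case. -/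
theorem dichotomy (H : Hyp G p) : Concl G p ∨ ∃ (D : Data H) (a w z : ℕ), Main D a w z := by
  have hp : p.Prime := Fact.out
  obtain ⟨D, hT, ht1⟩ := exists_norm H
  obtain ⟨ψ₀, hψ₀⟩ : D.Y.Nonempty := Finset.card_pos.mp (by rw [D.card_Y]; exact D.t_pos)
  have hdY := D.degY ψ₀ hψ₀
  have hY' := Finset.mem_union_right D.X hψ₀
  rcases D.hε with hε | hε
  · left
    have ht2 : 2 ≤ D.t := by
      have := D.t_pos
      by_contra h
      have := ht1 (by omega)
      rw [hε] at this
      omega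
    rw [hε, one_mul, Int.natCast_modEq_iff] at hdY
    have hmod : charDegree (ψ₀ : G → ℂ) % p = H.e :=
      Eq.trans hdY (Nat.mod_eq_of_lt D.e_lt)
    have hz := exc_pos_deg H.two_le_e ht2 D.het H.n_pos H.nonrep hmod (D.dvd_of_mem hY') (D.sq_le ψ₀)
    have hne : ψ₀ ≠ Blocks.trivIrr G := fun e => Finset.disjoint_left.mp D.disj hT (e ▸ hψ₀)
    haveI := H.simple
    have hnn : ∀ K : Subgroup G, K.Normal → Nat.card K ≠ p := by
      intro K hK hc
      rcases hK.eq_bot_or_eq_top with h | h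
      · rw [h, Subgroup.card_bot] at hc
        exact hp.one_lt.ne hc
      · rw [h, Subgroup.card_top] at hc
        exact H.noncomm (isCyclic_of_prime_card hc)
    have hle := Cfsg.Agent.S4503.result p hp H.dvd_card H.sq_not_dvd hnn _
      (Char.isCharacter_of_isIrr ψ₀.2) fun g hg => H.faithful hne hg
    have het := D.het
    have h2 : H.e * 2 ≤ H.e * D.t := Nat.mul_le_mul_left _ ht2
    obtain ⟨φ⟩ := Cfsg.Agent.S4504.result p hp H.dvd_card H.sq_not_dvd hnn _
      (Char.isCharacter_of_isIrr ψ₀.2) (fun g hg => H.faithful hne hg) (by omega)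
    have hZ : Subgroup.center G = ⊥ := by
      rcases (inferInstance : (Subgroup.center G).Normal).eq_bot_or_eq_top with h | h
      · exact h
      · exact absurd ⟨⟨fun a b => (Subgroup.mem_center_iff.mp (h ▸ Subgroup.mem_top b)) a⟩⟩ H.not_comm
    refine Or.inl ⟨ZMod p, inferInstance, inferInstance, ZMod.card p, ?_, ⟨?_⟩⟩
    · have := H.two_le_e
      omega
    · exact ((QuotientGroup.quotientBot (G := G)).symm.trans
        (QuotientGroup.quotientMulEquivOfEq hZ.symm)).trans φ
  right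
  set z := charDegree (ψ₀ : G → ℂ) with hzdef
  set S := D.X.filter fun χ => χ ≠ Blocks.trivIrr G ∧ D.δ χ = 1 with hS
  set B := D.X.filter fun χ => D.δ χ = -1 with hB
  have hsplit : D.X = insert (Blocks.trivIrr G) (S ∪ B) := by
    ext χ
    simp only [hS, hB, Finset.mem_insert, Finset.mem_union, Finset.mem_filter]
    constructor
    · intro hχ
      by_cases h : χ = Blocks.trivIrr G
      · exact Or.inl h
      · rcases D.hδ χ hχ with h' | h'
        · exact Or.inr (Or.inl ⟨hχ, h, h'⟩)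
        · exact Or.inr (Or.inr ⟨hχ, h'⟩)
    · rintro (rfl | ⟨h, -⟩ | ⟨h, -⟩) <;> assumption
  have hdisjSB : Disjoint S B := Finset.disjoint_left.mpr fun χ h1 h2 => by
    rw [hS, Finset.mem_filter] at h1
    rw [hB, Finset.mem_filter, h1.2.2] at h2
    omega
  have hTnot : Blocks.trivIrr G ∉ S ∪ B := by
    rw [Finset.mem_union, hS, hB, Finset.mem_filter, Finset.mem_filter, D.delta_triv hT]
    rintro (⟨-, h, -⟩ | ⟨-, h⟩)
    · exact h rfl
    · omega
  have hcard : S.card + B.card + 1 = H.e := by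
    rw [← D.card_X, hsplit, Finset.card_insert_of_notMem hTnot, Finset.card_union_of_disjoint hdisjSB]
  have hp1 : ¬ p ∣ orderOf (1 : G) := orderOf_one (G := G) ▸ hp.not_dvd_one
  have hrel : (z : ℤ) + (S.card : ℤ) * (H.n * p + 1) + 1 = B.card * ((p : ℤ) - 1) := by
    have h := D.rel ψ₀ hψ₀ 1 hp1
    rw [hε, hsplit, Finset.sum_insert hTnot, Finset.sum_union hdisjSB, D.delta_triv hT] at h
    rw [Finset.sum_congr rfl (g := fun _ => (((H.n * p + 1 : ℕ) : ℤ) : ℂ)) (s₁ := S) fun χ hχ => by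
      rw [hS, Finset.mem_filter] at hχ
      rw [hχ.2.2, value_one, D.pos_degree hχ.1 hχ.2.1 hχ.2.2]
      push_cast; ring,
      Finset.sum_congr rfl (g := fun _ => (((-((p : ℤ) - 1)) : ℤ) : ℂ)) (s₁ := B) fun χ hχ => by
      rw [hB, Finset.mem_filter] at hχ
      obtain ⟨hd, -⟩ := D.neg_degree hχ.1 hχ.2
      rw [hχ.2, value_one, ← hd]
      push_cast; ring] at h
    rw [value_one, value_one, degree_triv, Finset.sum_const, Finset.sum_const] at h
    simp only [nsmul_eq_mul] at h
    push_cast at h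
    have : (((z : ℤ) + (S.card : ℤ) * (H.n * p + 1) + 1 : ℤ) : ℂ) =
        ((B.card * ((p : ℤ) - 1) : ℤ) : ℂ) := by
      push_cast
      linear_combination -h
    exact_mod_cast this
  obtain ⟨v, hv⟩ : ∃ v, H.n + 1 = v * D.t := by
    obtain ⟨χ, hχ⟩ : B.Nonempty := by
      rw [Finset.nonempty_iff_ne_empty]
      intro h0
      rw [h0, Finset.card_empty] at hrel
      push_cast at hrel
      have : (0 : ℤ) ≤ (S.card : ℤ) * (H.n * p + 1) :=
        mul_nonneg (Int.natCast_nonneg _) (add_nonneg (mul_nonneg (Int.natCast_nonneg _) (Int.natCast_nonneg _)) zero_le_one)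
      linarith
    rw [hB, Finset.mem_filter] at hχ
    exact (D.neg_degree hχ.1 hχ.2).2
  obtain ⟨w, hw⟩ : ∃ w, z + H.e = w * p := by
    rw [hε] at hdY
    have h := Int.modEq_iff_dvd.mp hdY.symm
    rw [show (z : ℤ) - -1 * H.e = ((z + H.e : ℕ) : ℤ) by push_cast; ring,
      Int.natCast_dvd_natCast] at h
    obtain ⟨w, hw⟩ := h
    exact ⟨w, hw.trans (mul_comm _ _)⟩
  have hw1 : 1 ≤ w := by
    rcases Nat.eq_zero_or_pos w with h | h
    · subst h
      have := H.two_le_e
      omega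
    · exact h
  have hew : S.card * (H.n + 1) + w + 1 = H.e := by
    have h1 : ((S.card * (H.n + 1) + w + 1 : ℕ) : ℤ) * p = (H.e : ℤ) * p := by
      have hw' : (z : ℤ) + H.e = w * p := by exact_mod_cast hw
      have hc' : (S.card : ℤ) + B.card + 1 = H.e := by exact_mod_cast hcard
      push_cast
      linear_combination hrel - hw' + ((p : ℤ) - 1) * hc'
    exact_mod_cast mul_right_cancel₀ (by exact_mod_cast hp.ne_zero) h1
  refine ⟨D, S.card, w, z, hT, hε, hw1, hew, ?_, fun ψ hψ => D.degree_eq hψ hψ₀, hw, rfl⟩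
  rcases Nat.lt_or_ge D.t 2 with ht | ht
  · have ht' : D.t = 1 := by have := D.t_pos; omega
    have he1 : H.e + 1 = p := by simpa [ht'] using D.het
    have hne : ψ₀ ≠ Blocks.trivIrr G := fun e => Finset.disjoint_left.mp D.disj hT (e ▸ hψ₀)
    have hz1 : z % p = 1 := by
      have : z + H.e = (w - 1) * p + 1 + H.e := by
        obtain ⟨w', rfl⟩ : ∃ w', w = w' + 1 := ⟨w - 1, by omega⟩
        rw [Nat.add_mul, one_mul] at hw
        rw [Nat.add_sub_cancel]
        omega
      rw [show z = (w - 1) * p + 1 by omega, Nat.mul_add_mod_self_right,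
        Nat.one_mod_eq_one.mpr hp.one_lt.ne']
    have := pos_deg H.two_le_e D.t_pos D.het H.nonrep (H.one_lt_degree hne) hz1 (D.dvd_of_mem hY')
    rw [ht', mul_one]
    have : (H.n + 1) * p = w * p := by
      rw [← hw, show z = H.n * p + 1 from this, Nat.add_mul, one_mul]
      omega
    exact Nat.eq_of_mul_eq_mul_right hp.pos this
  · exact exc_neg_deg H.two_le_e ht D.het H.nonrep hw (D.dvd_of_mem hY')

end CfsgLib.BrauerReynolds
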