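import Cfsg.Agent.Lib.BrauerReynolds.Mult
import Cfsg.Agent.Lib.Char.Counting

/-!
# The fixed points of the complement
-/

set_option autoImplicit false
set_option linter.unusedSectionVars false
set_option linter.style.haveILetI false

open scoped Classical

namespace CfsgLib.BrauerReynolds

open Cfsg
open scoped ComplexConjugate CfsgLib.Char
open CfsgLib

universe u

variable {G : Type u} [Group G] [Fintype G] {p : ℕ} [Fact p.Prime] {H : Hyp G p} {D : Data H}
  {a w z : ℕ} {M : Main D a w z} {F : Frob H}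

theorem indFun_one_eq {X : Type*} [MulAction G X] [Finite X] [MulAction.IsPretransitive G X]
    (x : X) (K : Subgroup G) (hK : K = MulAction.stabilizer G x) (g : G) :
    indFun K (fun _ => (1 : ℂ)) g = (Nat.card (MulAction.fixedBy X g) : ℂ) := by
  subst hK
  exact (congrFun (Char.perm_eq_indFun X x) g).symm

/-- The stabilizer of the distinguished point and a further point. -/
abbrev Hyp.K (H : Hyp G p) (β : G ⧸ H.N) : Subgroup G := H.N ⊓ MulAction.stabilizer G β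

theorem Hyp.K_inter (H : Hyp G p) {β : G ⧸ H.N} (hβ : β ≠ H.pt) :
    ∀ x ∈ H.K β, x ∈ (H.P : Subgroup G) → x = 1 := fun x hx hxP => by
  by_contra h
  exact hβ (H.fixed_P hxP h (MulAction.mem_stabilizer_iff.mp (Subgroup.mem_inf.mp hx).2))

namespace Counts

variable (C : Counts M F)
include C

theorem ind_triv (g : G) : F.ind (Blocks.trivIrr ↥F.E) g = (H.pi g : ℂ) :=
  indFun_one_eq H.pt H.N (MulAction.stabilizer_quotient H.N).symm g

theorem pi_inner {θ : IrrCharacter ↥F.E} (hθ : θ ≠ Blocks.trivIrr ↥F.E) :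
    ∑ g : ↥H.N, (H.pi g : ℂ) * conj ((θ : ↥F.E → ℂ) (F.r g)) = 0 := by
  have h := F.inner_res_ind (Blocks.trivIrr ↥F.E) θ
  rw [Finset.sum_eq_zero fun χ _ => by rw [← Nat.cast_mul, C.orth θ hθ χ, Nat.cast_zero]] at h
  rw [classInner, mul_eq_zero] at h
  have h' := h.resolve_left (inv_ne_zero (Nat.cast_ne_zero.mpr Nat.card_pos.ne'))
  simp only [C.ind_triv] at h'
  exact h'

/-- Every non-trivial element of the complement has `n + 1` fixed points. -/
theorem pi_E {τ : G} (hτ : τ ∈ F.E) (hτ1 : τ ≠ 1) : H.pi τ = H.n + 1 := by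
  let S : ↥F.E → ℂ := fun σ => ∑ g ∈ Finset.univ.filter (fun g : ↥H.N => F.r g = σ), (H.pi g : ℂ)
  haveI : Fintype ↥F.E := Fintype.ofFinite _
  have horth : ∀ θ : IrrCharacter ↥F.E, θ ≠ Blocks.trivIrr ↥F.E → classInner S (θ : ↥F.E → ℂ) = 0 := by
    intro θ hθ
    have h := C.pi_inner hθ
    rw [← Finset.sum_fiberwise Finset.univ (fun g : ↥H.N => F.r g)] at h
    rw [classInner, show (∑ σ : ↥F.E, S σ * conj ((θ : ↥F.E → ℂ) σ)) = 0 from ?_, mul_zero]
    refine Eq.trans (Finset.sum_congr rfl fun σ _ => ?_) h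
    rw [Finset.sum_mul]
    exact Finset.sum_congr rfl fun g hg => by rw [(Finset.mem_filter.mp hg).2]
  have hS : IsClassFunction ↥F.E S := fun x y => by
    rw [F.comm_E y x, mul_inv_cancel_right]
  have hexp := Char.classFunction_expansion hS
  rw [Finset.sum_eq_single (Blocks.trivIrr ↥F.E) (fun θ _ h => by rw [horth θ h, zero_smul])
    fun h => absurd (Finset.mem_univ _) h] at hexp
  have hconst : S ⟨τ, hτ⟩ = S 1 := by
    rw [hexp]; rfl
  have h1 : S 1 = ((p * (H.n + 1) : ℕ) : ℂ) := by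
    show ∑ g ∈ Finset.univ.filter (fun g : ↥H.N => F.r g = 1), (H.pi g : ℂ) = _
    simp only [F.r_eq_one]
    rw [Frob.sum_P (H := H) (fun g => (H.pi g : ℂ)) (δ := 1) fun v hv hv1 => by
      rw [H.pi_P hv hv1, Nat.cast_one], H.pi_one]
    push_cast
    ring
  have h2 : S ⟨τ, hτ⟩ = ((p * H.pi τ : ℕ) : ℂ) := by
    show ∑ g ∈ Finset.univ.filter (fun g : ↥H.N => F.r g = ⟨τ, hτ⟩), (H.pi g : ℂ) = _
    rw [Finset.sum_congr rfl (g := fun _ => (H.pi τ : ℂ)) fun g hg => by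
      have hg' := (Finset.mem_filter.mp hg).2
      have hgP : (g : G) ∉ (H.P : Subgroup G) := fun h => hτ1 (by
        have := (F.r_eq_one g).mpr h
        rw [hg'] at this
        exact congrArg Subtype.val this)
      rw [F.pi_eq g hgP, hg'], Finset.sum_const, F.card_fibre, nsmul_eq_mul]
    push_cast; ring
  rw [hconst, h1] at h2
  have h3 : p * (H.n + 1) = p * H.pi τ := by exact_mod_cast h2
  exact (Nat.eq_of_mul_eq_mul_left (Fact.out : p.Prime).pos h3).symm

theorem pi_out {g : ↥H.N} (hg : (g : G) ∉ (H.P : Subgroup G)) : H.pi (g : G) = H.n + 1 := by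
  rw [F.pi_eq g hg]
  exact C.pi_E (F.r g).2 (F.r_ne_one hg)

/-- Every two-point stabilizer has order `e`. -/
theorem card_K {β : G ⧸ H.N} (hβ : β ≠ H.pt) : Nat.card (H.K β) = H.e := by
  set B := Finset.univ.erase H.pt with hB
  set O := Finset.univ.filter (fun g : ↥H.N => (g : G) ∉ (H.P : Subgroup G)) with hO
  have hA : ∀ g ∈ O, (B.filter fun γ => (g : G) • γ = γ).card = H.n := by
    intro g hg
    have h := C.pi_out (Finset.mem_filter.mp hg).2
    rw [Hyp.pi, Nat.card_eq_fintype_card, Fintype.card_subtype] at h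
    rw [hB, Finset.filter_erase, Finset.card_erase_of_mem ((Finset.mem_filter (p := fun γ : G ⧸ H.N => (g : G) • γ = γ)).mpr
      ⟨Finset.mem_univ _, H.mem_N_iff.mpr g.2⟩), h]
    omega
  have hKB : ∀ γ ∈ B, (O.filter fun g : ↥H.N => (g : G) • γ = γ).card + 1 = Nat.card (H.K γ) := by
    intro γ hγ
    have hγ' := Finset.ne_of_mem_erase hγ
    let f : {g : ↥H.N // (g : G) • γ = γ} ≃ ↥(H.K γ) :=
      { toFun := fun g => ⟨g.1.1, g.1.2, g.2⟩
        invFun := fun k => ⟨⟨k.1, k.2.1⟩, k.2.2⟩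
        left_inv := fun _ => rfl
        right_inv := fun _ => rfl }
    rw [← Nat.card_congr f, Nat.card_eq_fintype_card, Fintype.card_subtype]
    rw [show (Finset.univ.filter fun g : ↥H.N => (g : G) • γ = γ) =
      insert 1 (O.filter fun g : ↥H.N => (g : G) • γ = γ) from ?_, Finset.card_insert_of_notMem ?_]
    · simp [hO]
    · ext g
      simp only [hO, Finset.mem_filter, Finset.mem_univ, true_and, Finset.mem_insert]
      constructor
      · intro h
        by_cases hg : (g : G) ∈ (H.P : Subgroup G)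
        · exact Or.inl (Subtype.ext (H.K_inter hγ' g ⟨g.2, h⟩ hg))
        · exact Or.inr ⟨hg, h⟩
      · rintro (rfl | ⟨-, h⟩)
        · simp
        · exact h
  have hcardO : O.card = p * (H.e - 1) := by
    have h : Finset.univ.card = (Finset.univ.filter (fun g : ↥H.N => (g : G) ∈ (H.P : Subgroup G))).card + O.card :=
      (Finset.card_filter_add_card_filter_not _).symm
    rw [Finset.card_univ, ← Nat.card_eq_fintype_card, H.card_N, ← Fintype.card_subtype,
      ← Nat.card_eq_fintype_card, Nat.card_congr (Equiv.subtypeSubtypeEquivSubtype (p := (· ∈ H.N))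
        (q := (· ∈ (H.P : Subgroup G))) fun {x} hx => H.P_le_N hx),
      show Nat.card {x : G // x ∈ (H.P : Subgroup G)} = p from H.card_P] at h
    rw [Nat.mul_sub_one, mul_comm p]
    omega
  have hcardB : B.card = H.n * p := by
    rw [hB, Finset.card_erase_of_mem (Finset.mem_univ _), Finset.card_univ, ← Nat.card_eq_fintype_card,
      H.card_points]
    omega
  have hsum : ∑ γ ∈ B, Nat.card (H.K γ) = B.card * H.e := by
    rw [← Finset.sum_congr rfl hKB, Finset.sum_add_distrib, Finset.sum_const, smul_eq_mul, mul_one,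
      Finset.sum_congr rfl (fun γ (_ : γ ∈ B) => Finset.card_filter (fun g : ↥H.N => (g : G) • γ = γ) O),
      Finset.sum_comm, ← Finset.sum_congr rfl (fun g (_ : g ∈ O) => Finset.card_filter (fun γ => (g : G) • γ = γ) B)]
    rw [Finset.sum_congr rfl hA, Finset.sum_const, smul_eq_mul, hcardO, hcardB]
    obtain ⟨k, hk⟩ : ∃ k, H.e = k + 1 := ⟨H.e - 1, by have := H.two_le_e; omega⟩
    rw [hk, Nat.add_sub_cancel]
    ring
  have hle : ∀ γ ∈ B, Nat.card (H.K γ) ≤ H.e := fun γ hγ =>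
    F.card_le inf_le_left (H.K_inter (Finset.ne_of_mem_erase hγ))
  rw [← smul_eq_mul B.card H.e, ← Finset.sum_const] at hsum
  exact (Finset.sum_eq_sum_iff_of_le hle).mp hsum β (Finset.mem_erase.mpr ⟨hβ, Finset.mem_univ _⟩)

theorem K_eq {β : G ⧸ H.N} (hβ : β ≠ H.pt) {τ : G} (hτ : τ ∈ F.E) (hτ1 : τ ≠ 1)
    (hfix : τ • β = β) : H.K β = F.E :=
  F.eq_E inf_le_left (H.K_inter hβ) (C.card_K hβ) ⟨F.E_le hτ, hfix⟩ hτ hτ1

/-- An element of `E` fixes exactly the points fixed by `E`. -/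
theorem fix_all {β : G ⧸ H.N} {τ : G} (hτ : τ ∈ F.E) (hτ1 : τ ≠ 1) (hfix : τ • β = β) :
    ∀ σ ∈ F.E, σ • β = β := fun σ hσ => by
  by_cases hβ : β = H.pt
  · rw [hβ]; exact H.mem_N_iff.mpr (F.E_le hσ)
  · have h : σ ∈ H.K β := by rw [C.K_eq hβ hτ hτ1 hfix]; exact hσ
    exact MulAction.mem_stabilizer_iff.mp (Subgroup.mem_inf.mp h).2

theorem exists_ne_one : ∃ τ, τ ∈ F.E ∧ τ ≠ 1 := by
  rcases F.E.bot_or_exists_ne_one with h | h
  · have := F.card_E
    rw [h, Subgroup.card_bot] at this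
    have := H.two_le_e
    omega
  · exact h

theorem card_fix : Nat.card {β : G ⧸ H.N // ∀ σ ∈ F.E, σ • β = β} = H.n + 1 := by
  obtain ⟨τ, hτ, hτ1⟩ := C.exists_ne_one
  rw [← C.pi_E hτ hτ1]
  exact Nat.card_congr (Equiv.subtypeEquivRight fun β => ⟨fun h => h τ hτ, fun h => C.fix_all hτ hτ1 h⟩)

theorem exists_fix_ne : ∃ β : G ⧸ H.N, β ≠ H.pt ∧ ∀ σ ∈ F.E, σ • β = β := by
  haveI : Nontrivial {β : G ⧸ H.N // ∀ σ ∈ F.E, σ • β = β} := by
    rw [← Finite.one_lt_card_iff_nontrivial, C.card_fix]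
    have := H.n_pos
    omega
  obtain ⟨⟨β, hβ⟩, hne⟩ := exists_ne (⟨H.pt, fun σ hσ => H.mem_N_iff.mpr (F.E_le hσ)⟩ :
    {β : G ⧸ H.N // ∀ σ ∈ F.E, σ • β = β})
  exact ⟨β, fun h => hne (Subtype.ext h), hβ⟩

/-- A subgroup conjugate to the complement that lies in `N` is conjugate to it under `N`. -/
theorem exists_normalizing {β : G ⧸ H.N} (hβ : ∀ σ ∈ F.E, σ • β = β) :
    ∃ m : G, m ∈ Subgroup.normalizer (F.E : Set G) ∧ m • H.pt = β := by
  obtain ⟨g, rfl⟩ := MulAction.exists_smul_eq G H.pt β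
  set K := F.E.map (MulAut.conj g⁻¹).toMonoidHom with hK
  have hKN : K ≤ H.N := by
    rintro x ⟨σ, hσ, rfl⟩
    rw [← H.mem_N_iff]
    show (g⁻¹ * σ * g⁻¹⁻¹) • H.pt = H.pt
    rw [inv_inv, mul_smul, mul_smul, hβ σ hσ, inv_smul_smul]
  have hcard : Nat.card K = H.e := by
    rw [← F.card_E]
    exact (Nat.card_congr (F.E.equivMapOfInjective _ (MulAut.conj g⁻¹).injective).toEquiv).symm
  have hKP : ∀ x ∈ K, x ∈ (H.P : Subgroup G) → x = 1 := by
    intro x hx hxP
    by_contra h1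
    have ho := H.orderOf_mem hxP h1
    have hd : p ∣ H.e := by
      rw [← hcard, ← ho]
      exact (Subgroup.orderOf_mk x hx) ▸ orderOf_dvd_natCard (⟨x, hx⟩ : K)
    have := Nat.le_of_dvd (by have := H.two_le_e; omega) hd
    have := D.e_lt
    omega
  obtain ⟨v, hv, hve⟩ := F.exists_conj_E hKN hKP hcard
  refine ⟨g * v⁻¹, ?_, ?_⟩
  · have hinv : v * g⁻¹ ∈ Subgroup.normalizer (F.E : Set G) := by
      refine Subgroup.mem_normalizer_fintype fun σ hσ => ?_
      show v * g⁻¹ * σ * (v * g⁻¹)⁻¹ ∈ F.E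
      rw [← hve]
      exact ⟨g⁻¹ * σ * g⁻¹⁻¹, ⟨σ, hσ, rfl⟩, by
        show v * (g⁻¹ * σ * g⁻¹⁻¹) * v⁻¹ = _
        group⟩
    have := inv_mem hinv
    rwa [mul_inv_rev, inv_inv] at this
  · rw [mul_smul, H.mem_N_iff.mpr (H.P_le_N (inv_mem hv))]

theorem normalizer_inter {m : G} (hm : m ∈ Subgroup.normalizer (F.E : Set G)) (hN : m ∈ H.N) :
    m ∈ F.E := by
  obtain ⟨τ, hτ, hτ1⟩ := C.exists_ne_one
  set g : ↥H.N := ⟨m, hN⟩
  set σ := (F.r g : G)
  have hσ : σ ∈ F.E := (F.r g).2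
  set v := m * σ⁻¹ with hv
  have hvP : v ∈ (H.P : Subgroup G) := F.decomp g
  have hvn : v ∈ Subgroup.normalizer (F.E : Set G) :=
    mul_mem hm (Subgroup.le_normalizer (inv_mem hσ))
  have h1 : v * τ * v⁻¹ * τ⁻¹ ∈ F.E :=
    mul_mem ((Subgroup.mem_normalizer_iff.mp hvn τ).mp hτ) (inv_mem hτ)
  have h2 : v * τ * v⁻¹ * τ⁻¹ ∈ (H.P : Subgroup G) := by
    rw [show v * τ * v⁻¹ * τ⁻¹ = v * (τ * v⁻¹ * τ⁻¹) by group]
    exact mul_mem hvP ((Subgroup.mem_normalizer_iff.mp (F.E_le hτ) _).mp (inv_mem hvP))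
  have h3 := mul_inv_eq_one.mp (F.disjoint h1 h2)
  have hv1 : v = 1 := H.eq_one_of_commute (F.not_mem_P hτ hτ1) hvP (mul_inv_eq_iff_eq_mul.mp h3)
  rw [hv, mul_inv_eq_one] at hv1
  exact hv1 ▸ hσ

theorem card_normalizer : Nat.card (Subgroup.normalizer (F.E : Set G)) = H.e * (H.n + 1) := by
  set L := Subgroup.normalizer (F.E : Set G)
  rw [← (MulAction.stabilizer ↥L H.pt).card_mul_index, MulAction.index_stabilizer,
    ← Nat.card_coe_set_eq]
  congr 1
  · rw [← F.card_E]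
    exact Nat.card_congr
      { toFun := fun m => ⟨m.1.1, C.normalizer_inter m.1.2 (H.mem_N_iff.mp m.2)⟩
        invFun := fun σ => ⟨⟨σ.1, Subgroup.le_normalizer σ.2⟩, H.mem_N_iff.mpr (F.E_le σ.2)⟩
        left_inv := fun _ => rfl
        right_inv := fun _ => rfl }
  · rw [← C.card_fix]
    refine Nat.card_congr (Equiv.subtypeEquivRight fun β => ⟨?_, fun h => ?_⟩)
    · rintro ⟨⟨m, hm⟩, rfl⟩ σ hσ
      show σ • m • H.pt = m • H.pt
      have hm' : m⁻¹ * σ * m ∈ F.E := (Subgroup.mem_normalizer_iff''.mp hm σ).mp hσ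
      calc σ • m • H.pt = m • ((m⁻¹ * σ * m) • H.pt) := by rw [← mul_smul, ← mul_smul]; group
        _ = m • H.pt := by rw [H.mem_N_iff.mpr (F.E_le hm')]
    · obtain ⟨m, hm, hmβ⟩ := C.exists_normalizing h
      exact ⟨⟨m, hm⟩, hmβ⟩

theorem w_one : w = 1 := by
  refine w_eq_one D.t_pos D.het Fact.out (by have := H.two_le_e; omega) M.he M.hn ?_
  rw [← C.card_normalizer, ← H.card_G]
  exact Subgroup.card_subgroup_dvd_card _

end Counts

end CfsgLib.BrauerReynolds
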