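import Cfsg.Agent.Lib.BrauerReynolds.Degrees
import Cfsg.Agent.Lib.BrauerReynolds.EvenGeom
import Cfsg.Agent.Lib.BrauerReynolds.Points

/-!
# The case without positive characters: `p = 2 ^ m + 1` and `G ≅ PSL(2, 2 ^ m)`
-/

set_option autoImplicit false
set_option linter.unusedSectionVars false
set_option linter.style.haveILetI false

open scoped Classical

namespace CfsgLib.BrauerReynolds

open Cfsg
open scoped ComplexConjugate CfsgLib.Char
open CfsgLib

universe u

variable {G : Type u} [Group G] [Finite G] {p : ℕ} [Fact p.Prime]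

theorem value_cases {t A c : ℤ} (ht : 2 ≤ t) (hlow : 1 + A * A + t * ((A - 1) * (A - 1)) ≤ c)
    (hle : c ∣ 2 * t - A) (hpos : 0 < 2 * t - A) (hdvd : c ∣ 2 * t * (2 * t + 1) * (2 * t - 1)) :
    (A = 0 ∧ c = 2 * t) ∨ (A = 1 ∧ c ∣ 2 * t - 1) := by
  have hsq : ∀ x : ℤ, 0 ≤ x * x := mul_self_nonneg
  have hc0 : 0 < c := by
    have := mul_nonneg (show (0 : ℤ) ≤ t by omega) (hsq (A - 1))
    have := hsq A
    omega
  have hcle : c ≤ 2 * t - A := Int.le_of_dvd hpos hle
  have hA : 0 ≤ A ∧ A ≤ 2 := by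
    by_contra h
    have h4 : 4 ≤ (A - 1) * (A - 1) := by
      rcases (show A ≤ -1 ∨ 3 ≤ A by omega) with h' | h'
      · nlinarith
      · nlinarith
    have h5 : t * 4 ≤ t * ((A - 1) * (A - 1)) := mul_le_mul_of_nonneg_left h4 (by omega)
    have h6 : 0 ≤ A * A + A := by
      rcases (show A ≤ -1 ∨ 0 ≤ A by omega) with h' | h'
      · nlinarith
      · nlinarith
    omega
  obtain ⟨h0, h2⟩ := hA
  interval_cases A
  · left
    refine ⟨rfl, ?_⟩
    norm_num at hlow
    obtain ⟨k, hk⟩ := hle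
    have hk1 : k = 1 := by
      rcases lt_trichotomy k 1 with h | h | h
      · nlinarith
      · exact h
      · nlinarith
    subst hk1
    linarith
  · exact Or.inr ⟨rfl, by simpa using hle⟩
  · exfalso
    norm_num at hlow
    obtain ⟨k, hk⟩ := hle
    have hk1 : k = 1 := by
      rcases lt_trichotomy k 1 with h | h | h
      · nlinarith
      · exact h
      · nlinarith
    subst hk1
    have hc : c = 2 * t - 2 := by linarith
    have h6 : c ∣ 6 := by
      have e : 2 * t * (2 * t + 1) * (2 * t - 1) =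
          c * (c * c + 6 * c + 11) + 6 := by rw [hc]; ring
      rw [e] at hdvd
      exact (Int.dvd_add_right (dvd_mul_right _ _)).mp hdvd
    have := Int.le_of_dvd (by norm_num) h6
    omega

/-- Without positive characters only `e = 2` remains. -/
theorem e_eq_two {H : Hyp G p} {D : Data H} {w z : ℕ} (M : Main D 0 w z) : H.e = 2 := by
  letI : Fintype G := Fintype.ofFinite G
  obtain ⟨F⟩ := nonempty_frob H
  obtain ⟨C⟩ := nonempty_counts M F
  have := M.he
  rw [C.w_one] at this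
  omega

/-- The set-up of the even case. -/
structure EvenData (H : Hyp G p) where
  D : Data H
  χ₁ : IrrCharacter G
  he : H.e = 2
  ne_triv : χ₁ ≠ Blocks.trivIrr G
  hX : D.X = {Blocks.trivIrr G, χ₁}
  deg₁ : charDegree (χ₁ : G → ℂ) = 2 * D.t
  val₁ : ∀ v ∈ (H.P : Subgroup G), v ≠ 1 → (χ₁ : G → ℂ) v = -1
  regY : ∀ ψ ∈ D.Y, ∀ g, ¬ p ∣ orderOf g → (ψ : G → ℂ) g = (χ₁ : G → ℂ) g - 1
  degY : ∀ ψ ∈ D.Y, charDegree (ψ : G → ℂ) = 2 * D.t - 1
  sumY : ∀ v ∈ (H.P : Subgroup G), v ≠ 1 → ∑ ψ ∈ D.Y, (ψ : G → ℂ) v = 1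
  hp : 2 * D.t + 1 = p
  ht : 2 ≤ D.t
  hn : H.n + 1 = D.t

theorem exists_evenData {H : Hyp G p} {D : Data H} {w z : ℕ} (M : Main D 0 w z) :
    Nonempty (EvenData H) := by
  have he := e_eq_two M
  have hw : w = 1 := by have := M.he; omega
  subst hw
  have hp : 2 * D.t + 1 = p := by rw [← he]; exact D.het
  have hn : H.n + 1 = D.t := by rw [M.hn, one_mul]
  have ht : 2 ≤ D.t := by have := H.n_pos; omega
  obtain ⟨χ₁, hχ₁, hne⟩ := Finset.exists_mem_ne (show 1 < D.X.card by rw [D.card_X, he]; omega)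
    (Blocks.trivIrr G)
  have hδ : D.δ χ₁ = -1 := (D.hδ χ₁ hχ₁).resolve_left fun h => by
    have hc := M.count
    rw [Finset.card_eq_zero, Finset.filter_eq_empty_iff] at hc
    exact hc hχ₁ ⟨hne, h⟩
  have hX : D.X = {Blocks.trivIrr G, χ₁} := by
    refine (Finset.eq_of_subset_of_card_le (fun χ hχ => ?_) ?_).symm
    · rcases Finset.mem_insert.mp hχ with rfl | h
      · exact M.triv
      · rwa [Finset.mem_singleton.mp h]
    · rw [D.card_X, he, Finset.card_pair hne.symm]
  have hdeg : charDegree (χ₁ : G → ℂ) = 2 * D.t := by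
    have := (D.neg_degree hχ₁ hδ).1
    omega
  have hreg : ∀ ψ ∈ D.Y, ∀ g, ¬ p ∣ orderOf g → (ψ : G → ℂ) g = (χ₁ : G → ℂ) g - 1 := by
    intro ψ hψ g hg
    have h := D.rel ψ hψ g hg
    rw [hX, Finset.sum_pair hne.symm, M.eps, D.delta_triv M.triv, hδ] at h
    push_cast at h
    simp only [Blocks.trivIrr] at h
    linear_combination -h
  refine ⟨⟨D, χ₁, he, hne, hX, hdeg, fun v hv hv1 => ?_, hreg, fun ψ hψ => ?_, fun v hv hv1 => ?_,
    hp, ht, hn⟩⟩
  · rw [D.val χ₁ hχ₁ v hv hv1, hδ]; norm_num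
  · have := M.hz
    rw [M.degY ψ hψ]
    omega
  · rw [D.sum_Y hv hv1, M.eps]; norm_num

namespace EvenData

variable {H : Hyp G p} (E : EvenData H)
include E

theorem card_G : Nat.card G = 2 * E.D.t * (2 * E.D.t + 1) * (2 * E.D.t - 1) := by
  have h := H.card_G
  have ht := E.ht
  rw [h, E.he]
  have hn : H.n = E.D.t - 1 := by have := E.hn; omega
  obtain ⟨k, hk⟩ : ∃ k, E.D.t = k + 1 := ⟨E.D.t - 1, by omega⟩
  rw [hn, hk, show (k + 1 - 1) = k by omega, show 2 * (k + 1) - 1 = 2 * k + 1 by omega]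
  have hp : p = 2 * (k + 1) + 1 := by rw [← hk]; exact E.hp.symm
  calc 2 * p * (1 + k * p) = 2 * (2 * (k + 1) + 1) * (1 + k * (2 * (k + 1) + 1)) := by rw [← hp]
    _ = _ := by ring

theorem value_one₁ : (E.χ₁ : G → ℂ) 1 = 2 * (E.D.t : ℂ) := by
  rw [value_one, E.deg₁]; push_cast; ring

theorem sum_X {f : IrrCharacter G → ℂ} :
    ∑ χ ∈ E.D.X, f χ = f (Blocks.trivIrr G) + f E.χ₁ := by
  rw [E.hX, Finset.sum_pair E.ne_triv.symm]

theorem ne_self_value {g : G} (hg : g ≠ 1) : (E.χ₁ : G → ℂ) g ≠ 2 * (E.D.t : ℂ) := fun h =>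
  hg (H.faithful E.ne_triv (h.trans E.value_one₁.symm))

/-- The number of solutions of `x y = v`. -/
noncomputable def num (a b v : G) : ℕ :=
  Nat.card {r : G × G // IsConj a r.1 ∧ IsConj b r.2 ∧ r.1 * r.2 = v}

theorem num_formula {a b v : G} (ha : ¬ p ∣ orderOf a) (hb : ¬ p ∣ orderOf b)
    (hv : v ∈ (H.P : Subgroup G)) (hv1 : v ≠ 1) :
    ((num a b v : ℕ) : ℂ) * (Nat.card (Subgroup.centralizer ({a} : Set G)) : ℂ) *
        (Nat.card (Subgroup.centralizer ({b} : Set G)) : ℂ) =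
      p * (2 * E.D.t * (2 * E.D.t - 1) - (E.χ₁ : G → ℂ) a * (E.χ₁ : G → ℂ) b * (2 * E.D.t - 1) +
        ((E.χ₁ : G → ℂ) a - 1) * ((E.χ₁ : G → ℂ) b - 1) * (2 * E.D.t)) := by
  letI : Fintype G := Fintype.ofFinite G
  have ht := E.ht
  rw [num, Char.class_mult a b v, E.D.sum_block (fun χ h1 h2 => by
      rw [(E.D.out χ h1 h2).2 v hv hv1, map_zero, mul_zero, zero_div]), E.sum_X,
    Finset.sum_congr (s₁ := E.D.Y) rfl (g := fun ψ : IrrCharacter G =>
      ((E.χ₁ : G → ℂ) a - 1) * ((E.χ₁ : G → ℂ) b - 1) / ((2 * E.D.t - 1 : ℕ) : ℂ) *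
        conj ((ψ : G → ℂ) v)) (fun ψ hψ => by
      rw [E.regY ψ hψ a ha, E.regY ψ hψ b hb, value_one ψ, E.degY ψ hψ]; ring),
    ← Finset.mul_sum, ← map_sum, E.sumY v hv hv1, map_one, E.value_one₁, E.val₁ v hv hv1]
  simp only [Blocks.trivIrr, map_neg, map_one]
  have hia : ((Subgroup.centralizer ({a} : Set G)).index : ℂ) *
      (Nat.card (Subgroup.centralizer ({a} : Set G)) : ℂ) = (Nat.card G : ℂ) := by
    rw [mul_comm]; exact_mod_cast (Subgroup.centralizer ({a} : Set G)).card_mul_index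
  have hib : ((Subgroup.centralizer ({b} : Set G)).index : ℂ) *
      (Nat.card (Subgroup.centralizer ({b} : Set G)) : ℂ) = (Nat.card G : ℂ) := by
    rw [mul_comm]; exact_mod_cast (Subgroup.centralizer ({b} : Set G)).card_mul_index
  have hG : (Nat.card G : ℂ) = 2 * (E.D.t : ℂ) * p * (2 * E.D.t - 1) := by
    have hp := E.hp
    rw [E.card_G, hp]
    push_cast [Nat.cast_sub (show 1 ≤ 2 * E.D.t by omega)]
    ring
  have hG0 : (Nat.card G : ℂ) ≠ 0 := Nat.cast_ne_zero.mpr Nat.card_pos.ne'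
  have h1 : ((2 * E.D.t - 1 : ℕ) : ℂ) = 2 * (E.D.t : ℂ) - 1 := by
    push_cast [Nat.cast_sub (show 1 ≤ 2 * E.D.t by omega)]; ring
  have h2 : (2 * (E.D.t : ℂ) - 1) ≠ 0 := by
    rw [← h1]; exact Nat.cast_ne_zero.mpr (by omega)
  have h3 : (E.D.t : ℂ) ≠ 0 := Nat.cast_ne_zero.mpr (by omega)
  rw [h1]
  set ia := ((Subgroup.centralizer ({a} : Set G)).index : ℂ)
  set ib := ((Subgroup.centralizer ({b} : Set G)).index : ℂ)
  set ca := (Nat.card (Subgroup.centralizer ({a} : Set G)) : ℂ)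
  set cb := (Nat.card (Subgroup.centralizer ({b} : Set G)) : ℂ)
  set A := (E.χ₁ : G → ℂ) a
  set B := (E.χ₁ : G → ℂ) b
  set T := (E.D.t : ℂ)
  set g := (Nat.card G : ℂ)
  calc ia * ib / g * (1 * 1 * 1 / 1 + A * B * -1 / (2 * T) + (A - 1) * (B - 1) / (2 * T - 1) * 1) * ca * cb
      = (ia * ca) * (ib * cb) / g *
          ((2 * T * (2 * T - 1) - A * B * (2 * T - 1) + (A - 1) * (B - 1) * (2 * T)) /
            (2 * T * (2 * T - 1))) := by field_simp; ring
    _ = _ := by rw [hia, hib, mul_div_assoc, div_self hG0, mul_one, hG]; field_simp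

/-- The column bound. -/
theorem col_bound {g : G} (hg : ¬ p ∣ orderOf g) {A : ℤ} (hA : (E.χ₁ : G → ℂ) g = A) :
    1 + A * A + (E.D.t : ℤ) * ((A - 1) * (A - 1)) ≤
      (Nat.card (Subgroup.centralizer ({g} : Set G)) : ℤ) := by
  have h := congrArg Complex.re (Char.column_orthogonality g g)
  rw [if_pos (IsConj.refl g), Complex.natCast_re, Complex.re_sum] at h
  have hle : ∑ χ ∈ E.D.X ∪ E.D.Y, ((χ : G → ℂ) g * conj ((χ : G → ℂ) g)).re ≤
      (Nat.card (Subgroup.centralizer ({g} : Set G)) : ℝ) := by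
    rw [← h]
    refine Finset.sum_le_sum_of_subset_of_nonneg (Finset.subset_univ _) fun χ _ _ => ?_
    rw [Complex.mul_conj, Complex.ofReal_re]
    exact Complex.normSq_nonneg _
  rw [← Complex.re_sum, Finset.sum_union E.D.disj, E.sum_X, Finset.sum_congr (s₁ := E.D.Y) rfl
    (g := fun _ => (((A - 1) * (A - 1) : ℤ) : ℂ)) (fun ψ hψ => by
      rw [E.regY ψ hψ g hg, hA, map_sub, map_one, map_intCast]; push_cast; ring),
    Finset.sum_const, E.D.card_Y, hA] at hle
  simp only [Blocks.trivIrr, map_one, map_intCast, nsmul_eq_mul] at hle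
  rw [show (1 : ℂ) * 1 + (A : ℂ) * (A : ℂ) + (E.D.t : ℂ) * (((A - 1) * (A - 1) : ℤ) : ℂ) =
    (((1 + A * A + (E.D.t : ℤ) * ((A - 1) * (A - 1)) : ℤ) : ℝ) : ℂ) by push_cast; ring,
    Complex.ofReal_re] at hle
  exact_mod_cast hle

theorem p_odd : ¬ 2 ∣ p := by
  have := E.hp
  omega

theorem card_centralizer_regular {g : G} (hg : ¬ p ∣ orderOf g) (hg1 : g ≠ 1) :
    ¬ p ∣ Nat.card (Subgroup.centralizer ({g} : Set G)) := by
  intro h
  obtain ⟨x, hx⟩ := exists_prime_orderOf_dvd_card' p h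
  have hxo : orderOf (x : G) = p := (Subgroup.orderOf_coe x).trans hx
  have hcomm : Commute (x : G) g := (Subgroup.mem_centralizer_singleton_iff.mp x.2)
  have hgo : Nat.Coprime (orderOf (x : G)) (orderOf g) := by
    rw [hxo]; exact (Fact.out : p.Prime).coprime_iff_not_dvd.mpr hg
  have ho := hcomm.orderOf_mul_eq_mul_orderOf_of_coprime hgo
  have hdvd : p ∣ orderOf ((x : G) * g) := by rw [ho, hxo]; exact dvd_mul_right p _
  have := H.orderOf_eq_of_dvd hdvd
  rw [ho, hxo] at this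
  exact hg1 (orderOf_eq_one_iff.mp ((mul_eq_left₀ (Fact.out : p.Prime).ne_zero).mp this))

/-- All involutions. -/
theorem involution {s : G} (hs : orderOf s = 2) :
    (E.χ₁ : G → ℂ) s = 0 ∧ Nat.card (Subgroup.centralizer ({s} : Set G)) = 2 * E.D.t := by
  have hp : p.Prime := Fact.out
  have hsr : ¬ p ∣ orderOf s := by
    rw [hs]; intro h
    have := (Nat.prime_dvd_prime_iff_eq hp Nat.prime_two).mp h
    exact E.p_odd (this ▸ dvd_rfl)
  have hs1 : s ≠ 1 := fun h => by rw [h, orderOf_one] at hs; omega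
  have hsinv : s⁻¹ = s := inv_eq_of_mul_eq_one_right (by rw [← pow_two, ← hs, pow_orderOf_eq_one])
  obtain ⟨v, hv, hv1⟩ := H.exists_mem_ne_one
  set Pr := {r : G × G // IsConj s r.1 ∧ IsConj s r.2 ∧ r.1 * r.2 = v}
  have hinv : ∀ x : G, IsConj s x → x⁻¹ = x := by
    intro x hx
    obtain ⟨c, rfl⟩ := isConj_iff.mp hx
    rw [mul_inv_rev, mul_inv_rev, inv_inv, hsinv, mul_assoc]
  have hmem : ∀ r : Pr, r.1.1 ∈ H.N ∧ r.1.1 ∉ (H.P : Subgroup G) := by
    rintro ⟨⟨x, y⟩, hx, hy, hxy⟩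
    have hvx : x * v * x⁻¹ = v⁻¹ := by
      rw [← hxy, mul_inv_rev, hinv x hx, hinv y hy, ← mul_assoc]
      nth_rw 1 [← hinv x hx]
      rw [inv_mul_cancel, one_mul]
    refine ⟨?_, fun hP => ?_⟩
    · have hz : Subgroup.zpowers v = (H.P : Subgroup G) :=
        Subgroup.eq_of_le_of_card_ge (Subgroup.zpowers_le.mpr hv)
          (by rw [Nat.card_zpowers, H.orderOf_mem hv hv1, H.card_P])
      refine Subgroup.mem_normalizer_fintype fun q hq => ?_
      rw [← hz] at hq ⊢
      obtain ⟨i, rfl⟩ := Subgroup.mem_zpowers_iff.mp hq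
      rw [← MulAut.conj_apply, map_zpow, MulAut.conj_apply, hvx]
      exact zpow_mem (inv_mem (Subgroup.mem_zpowers v)) i
    · have hxo : orderOf x = 2 := by
        obtain ⟨c, rfl⟩ := isConj_iff.mp hx
        rw [← MulAut.conj_apply, MulEquiv.orderOf_eq, hs]
      have := H.orderOf_mem hP fun h => by
        rw [show x = 1 from h, orderOf_one] at hxo; omega
      rw [hxo] at this
      exact E.p_odd (this ▸ dvd_rfl)
  have hle : Nat.card Pr ≤ p := by
    let f : Pr → {x : G // x ∈ H.N ∧ x ∉ (H.P : Subgroup G)} := fun r => ⟨r.1.1, hmem r⟩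
    have hf : Function.Injective f := by
      rintro ⟨⟨x, y⟩, hr⟩ ⟨⟨x', y'⟩, hr'⟩ he
      have he' : x = x' := congrArg Subtype.val he
      subst he'
      have : y = y' := mul_left_cancel (hr.2.2.trans hr'.2.2.symm)
      subst this
      rfl
    refine (Nat.card_le_card_of_injective f hf).trans (le_of_eq ?_)
    have h1 : {x : G | x ∈ H.N ∧ x ∉ (H.P : Subgroup G)} =
        (H.N : Set G) \ ((H.P : Subgroup G) : Set G) := rfl
    show Nat.card {x : G | x ∈ H.N ∧ x ∉ (H.P : Subgroup G)} = p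
    rw [h1, Nat.card_coe_set_eq, Set.ncard_sdiff (fun z hz => H.P_le_N hz),
      ← Nat.card_coe_set_eq, ← Nat.card_coe_set_eq]
    show Nat.card H.N - Nat.card (H.P : Subgroup G) = p
    rw [H.card_N, H.card_P, E.he]
    omega
  have hform := E.num_formula hsr hsr hv hv1
  change ((Nat.card Pr : ℕ) : ℂ) * _ * _ = _ at hform
  set c := Nat.card (Subgroup.centralizer ({s} : Set G)) with hc
  set a := (E.χ₁ : G → ℂ) s with ha
  have hform' : ((Nat.card Pr : ℕ) : ℂ) * ((c : ℂ) * c) = p * ((2 * (E.D.t : ℂ) - a) * (2 * E.D.t - a)) := by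
    rw [← mul_assoc, hform]; ring
  have hne : (2 * (E.D.t : ℂ) - a) ≠ 0 := fun h => E.ne_self_value hs1 (sub_eq_zero.mp h).symm
  have hge : p ≤ Nat.card Pr := by
    have h0 : Nat.card Pr ≠ 0 := fun h => by
      rw [h, Nat.cast_zero, zero_mul] at hform'
      exact mul_ne_zero (Nat.cast_ne_zero.mpr hp.ne_zero) (mul_ne_zero hne hne) hform'.symm
    obtain ⟨⟨r, hr⟩⟩ := (Nat.card_ne_zero.mp h0).1
    let f : ↥(H.P : Subgroup G) → Pr := fun w =>
      ⟨((w : G) * r.1 * (w : G)⁻¹, (w : G) * r.2 * (w : G)⁻¹),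
        hr.1.trans (isConj_iff.mpr ⟨w, rfl⟩), hr.2.1.trans (isConj_iff.mpr ⟨w, rfl⟩), by
          have hvw : (w : G) * v = v * w := by
            have hc' : (w : G) ∈ Subgroup.centralizer ({v} : Set G) := by
              rw [H.centralizer_eq hv hv1]; exact w.2
            exact Subgroup.mem_centralizer_singleton_iff.mp hc'
          calc (w : G) * r.1 * (w : G)⁻¹ * ((w : G) * r.2 * (w : G)⁻¹) =
              (w : G) * (r.1 * r.2) * (w : G)⁻¹ := by group
            _ = v := by rw [hr.2.2, hvw, mul_inv_cancel_right]⟩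
    have hf : Function.Injective f := by
      intro w w' he
      have he' : (w : G) * r.1 * (w : G)⁻¹ = (w' : G) * r.1 * (w' : G)⁻¹ :=
        congrArg (fun x : Pr => x.1.1) he
      by_contra hne'
      set u := (w' : G)⁻¹ * w with hu
      have huP : u ∈ (H.P : Subgroup G) := mul_mem (inv_mem w'.2) w.2
      have hu1 : u ≠ 1 := fun h => hne' (Subtype.ext (inv_mul_eq_one.mp h).symm)
      have hcu : r.1 ∈ Subgroup.centralizer ({u} : Set G) := by
        rw [Subgroup.mem_centralizer_singleton_iff, hu]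
        calc r.1 * ((w' : G)⁻¹ * w) = (w' : G)⁻¹ * ((w' : G) * r.1 * (w' : G)⁻¹) * w := by group
          _ = (w' : G)⁻¹ * ((w : G) * r.1 * (w : G)⁻¹) * w := by rw [he']
          _ = (w' : G)⁻¹ * w * r.1 := by group
      rw [H.centralizer_eq huP hu1] at hcu
      exact (hmem ⟨r, hr⟩).2 hcu
    calc p = Nat.card (H.P : Subgroup G) := H.card_P.symm
      _ ≤ _ := Nat.card_le_card_of_injective f hf
  have hN : Nat.card Pr = p := le_antisymm hle hge
  rw [hN] at hform'
  have hsq := mul_left_cancel₀ (Nat.cast_ne_zero.mpr hp.ne_zero) hform'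
  obtain ⟨A, hA, hcA⟩ : ∃ A : ℤ, a = A ∧
      ((c : ℤ) = 2 * E.D.t - A ∨ (c : ℤ) = A - 2 * E.D.t) := by
    rcases mul_self_eq_mul_self_iff.mp hsq with h | h
    · exact ⟨2 * E.D.t - c, by push_cast; linear_combination h, Or.inl (by ring)⟩
    · exact ⟨2 * E.D.t + c, by push_cast; linear_combination -h, Or.inr (by ring)⟩
  have hlow := E.col_bound hsr hA
  rw [← hc] at hlow
  have hpos : (0 : ℤ) < c := by exact_mod_cast (Nat.card_pos : 0 < c)
  have hcase : (c : ℤ) = 2 * E.D.t - A := by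
    refine hcA.resolve_right fun h => ?_
    have h1 : A ≤ A * A := Int.le_self_sq A |>.trans_eq (pow_two A)
    have h2 : (0 : ℤ) ≤ (E.D.t : ℤ) * ((A - 1) * (A - 1)) :=
      mul_nonneg (Int.natCast_nonneg _) (mul_self_nonneg _)
    omega
  have hdG : (c : ℤ) ∣ 2 * (E.D.t : ℤ) * (2 * E.D.t + 1) * (2 * E.D.t - 1) := by
    have h := Int.natCast_dvd_natCast.mpr (Subgroup.card_subgroup_dvd_card (Subgroup.centralizer ({s} : Set G)))
    rw [← hc, E.card_G] at h
    push_cast [Nat.cast_sub (show 1 ≤ 2 * E.D.t by have := E.ht; omega)] at h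
    exact h
  rcases value_cases (by exact_mod_cast E.ht) hlow (by rw [hcase]) (by omega) hdG with ⟨h1, h2⟩ | ⟨-, h2⟩
  · exact ⟨by rw [hA, h1]; norm_num, by exact_mod_cast h2⟩
  · exfalso
    have h2c : 2 ∣ c := by
      rw [hc, ← hs]
      exact (Subgroup.orderOf_mk s (Subgroup.mem_centralizer_singleton_iff.mpr rfl)) ▸
        orderOf_dvd_natCard (⟨s, Subgroup.mem_centralizer_singleton_iff.mpr rfl⟩ :
          Subgroup.centralizer ({s} : Set G))
    have h2' : (2 : ℤ) ∣ c := by exact_mod_cast h2c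
    have := h2'.trans h2
    omega

theorem exists_involution : ∃ s : G, orderOf s = 2 :=
  exists_prime_orderOf_dvd_card' 2 (by rw [H.card_G, E.he]; exact Dvd.intro _ (by rw [mul_assoc]))

/-- Every other regular element. -/
theorem regular_value {g : G} (hg : ¬ p ∣ orderOf g) (hg1 : g ≠ 1) :
    ((E.χ₁ : G → ℂ) g = 0 ∧ Nat.card (Subgroup.centralizer ({g} : Set G)) = 2 * E.D.t) ∨
      ((E.χ₁ : G → ℂ) g = 1 ∧ ¬ 2 ∣ Nat.card (Subgroup.centralizer ({g} : Set G))) := by
  have hp : p.Prime := Fact.out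
  obtain ⟨s, hs⟩ := E.exists_involution
  obtain ⟨hs0, hsc⟩ := E.involution hs
  have hsr : ¬ p ∣ orderOf s := by
    rw [hs]; intro h
    have := (Nat.prime_dvd_prime_iff_eq hp Nat.prime_two).mp h
    exact E.p_odd (this ▸ dvd_rfl)
  obtain ⟨v, hv, hv1⟩ := H.exists_mem_ne_one
  have hform := E.num_formula hsr hg hv hv1
  rw [hs0, hsc] at hform
  set N := num s g v
  set c := Nat.card (Subgroup.centralizer ({g} : Set G)) with hc
  set x := (E.χ₁ : G → ℂ) g with hx
  have ht0 : (2 * E.D.t : ℂ) ≠ 0 := mul_ne_zero two_ne_zero (Nat.cast_ne_zero.mpr (by have := E.ht; omega))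
  have hNc : (N : ℂ) * c = p * (2 * (E.D.t : ℂ) - x) := by
    refine mul_left_cancel₀ ht0 ?_
    push_cast at hform
    linear_combination hform
  have hpc : ¬ p ∣ c := E.card_centralizer_regular hg hg1
  obtain ⟨A, hA⟩ : ∃ A : ℤ, x = A := by
    obtain ⟨n, ρ, hρ, e⟩ := E.χ₁.2
    have hint : IsIntegral ℤ x := by rw [hx, ← e]; exact Char.isIntegral_character ρ g
    have hrat : x = (((2 * (E.D.t : ℚ)) - (N : ℚ) * c / p : ℚ) : ℂ) := by
      push_cast
      rw [hNc, mul_div_cancel_left₀ _ (Nat.cast_ne_zero.mpr hp.ne_zero)]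
      ring
    rw [hrat] at hint
    obtain ⟨m, hm⟩ := Char.exists_int_of_isIntegral_rat hint
    exact ⟨m, by rw [hrat, hm]; norm_num⟩
  rw [hA] at hNc
  have hNcZ : (N : ℤ) * c = p * (2 * E.D.t - A) := by exact_mod_cast hNc
  have hN : (p : ℤ) ∣ N := by
    refine (Int.Prime.dvd_mul' hp ⟨_, hNcZ⟩).resolve_right fun h => hpc ?_
    exact Int.natCast_dvd_natCast.mp h
  obtain ⟨M, hM⟩ := hN
  have hdiv : (c : ℤ) ∣ 2 * E.D.t - A := ⟨M, by
    refine mul_left_cancel₀ (show (p : ℤ) ≠ 0 by exact_mod_cast hp.ne_zero) ?_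
    rw [← hNcZ, hM]; ring⟩
  have hpos : 0 < 2 * (E.D.t : ℤ) - A := by
    have h1 : 0 ≤ (p : ℤ) * (2 * E.D.t - A) := by rw [← hNcZ]; positivity
    have h2 := nonneg_of_mul_nonneg_right (a := (p : ℤ)) (b := 2 * (E.D.t : ℤ) - A) h1
      (by exact_mod_cast hp.pos)
    rcases h2.eq_or_lt with h3 | h3
    · exact absurd (by rw [← hx, hA, show A = 2 * (E.D.t : ℤ) by omega]; push_cast; ring) (E.ne_self_value hg1)
    · exact h3
  have hdG : (c : ℤ) ∣ 2 * (E.D.t : ℤ) * (2 * E.D.t + 1) * (2 * E.D.t - 1) := by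
    have h := Int.natCast_dvd_natCast.mpr (Subgroup.card_subgroup_dvd_card (Subgroup.centralizer ({g} : Set G)))
    rw [← hc, E.card_G] at h
    push_cast [Nat.cast_sub (show 1 ≤ 2 * E.D.t by have := E.ht; omega)] at h
    exact h
  rcases value_cases (by exact_mod_cast E.ht) (E.col_bound hg hA) hdiv hpos hdG with ⟨h1, h2⟩ | ⟨h1, h2⟩
  · exact Or.inl ⟨by rw [hA, h1]; norm_num, by exact_mod_cast h2⟩
  · refine Or.inr ⟨by rw [hA, h1]; norm_num, fun h => ?_⟩
    have h' : (2 : ℤ) ∣ c := by exact_mod_cast h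
    have := h'.trans h2
    omega

theorem zeros_count :
    Nat.card {g : G // (E.χ₁ : G → ℂ) g = 0} = 2 * E.D.t * (2 * E.D.t) - 1 := by
  letI : Fintype G := Fintype.ofFinite G
  have hsing : ∀ g : G, p ∣ orderOf g → (E.χ₁ : G → ℂ) g = -1 := by
    intro g hg
    have ho := H.orderOf_eq_of_dvd hg
    obtain ⟨Q, hQ⟩ := (IsPGroup.of_card (p := p) (n := 1)
      (show Nat.card (Subgroup.zpowers g) = p ^ 1 by rw [Nat.card_zpowers, ho, pow_one])).exists_le_sylow
    obtain ⟨c, hc⟩ := MulAction.exists_smul_eq G Q H.P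
    have hm : c * g * c⁻¹ ∈ (H.P : Subgroup G) := by
      rw [← hc, Sylow.coe_subgroup_smul]
      exact Subgroup.smul_mem_pointwise_smul g (MulAut.conj c) _ (hQ (Subgroup.mem_zpowers g))
    have hne : c * g * c⁻¹ ≠ 1 := fun h => by
      rw [conj_eq_one_iff] at h
      rw [h, orderOf_one] at ho
      exact (Fact.out : p.Prime).one_lt.ne ho
    have := E.val₁ _ hm hne
    rwa [Char.eq_of_isConj (Char.isClassFunction_irr E.χ₁) (isConj_iff.mpr ⟨c, rfl⟩)]
  set x : G → ℂ := (E.χ₁ : G → ℂ) with hx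
  set S := Finset.univ.filter fun g : G => p ∣ orderOf g with hS
  set O := Finset.univ.filter fun g : G => x g = 1 with hO
  set Z := Finset.univ.filter fun g : G => x g = 0 with hZ
  have hpart : Finset.univ = insert 1 (S ∪ O ∪ Z) := by
    ext g
    simp only [Finset.mem_univ, Finset.mem_insert, Finset.mem_union, hS, hO, hZ, Finset.mem_filter,
      true_and, true_iff]
    by_cases h1 : g = 1
    · exact Or.inl h1
    right
    by_cases h2 : p ∣ orderOf g
    · exact Or.inl (Or.inl h2)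
    rcases E.regular_value h2 h1 with ⟨h, -⟩ | ⟨h, -⟩
    · exact Or.inr h
    · exact Or.inl (Or.inr h)
  have h1v : x 1 = ((2 * E.D.t : ℕ) : ℂ) := by rw [hx, E.value_one₁]; push_cast; ring
  have hq1 : 4 ≤ 2 * E.D.t := by have := E.ht; omega
  have hn1 : (1 : G) ∉ S ∪ O ∪ Z := by
    simp only [Finset.mem_union, hS, hO, hZ, Finset.mem_filter, Finset.mem_univ, true_and, orderOf_one,
      h1v, Nat.cast_eq_one, Nat.cast_eq_zero]
    rintro ((h | h) | h)
    · exact (Fact.out : p.Prime).not_dvd_one h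
    · omega
    · omega
  have hd1 : Disjoint S O := Finset.disjoint_left.mpr fun g h h' => by
    simp only [hS, hO, Finset.mem_filter, Finset.mem_univ, true_and] at h h'
    rw [hsing g h] at h'; norm_num at h'
  have hd2 : Disjoint (S ∪ O) Z := Finset.disjoint_left.mpr fun g h h' => by
    simp only [hS, hO, hZ, Finset.mem_union, Finset.mem_filter, Finset.mem_univ, true_and] at h h'
    rcases h with h | h
    · rw [hsing g h] at h'; norm_num at h'
    · rw [h] at h'; norm_num at h'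
  have hsum : ∀ (f : ℂ → ℂ), ∑ g : G, f (x g) = f ((2 * E.D.t : ℕ) : ℂ) + S.card * f (-1) +
      O.card * f 1 + Z.card * f 0 := by
    intro f
    rw [hpart, Finset.sum_insert hn1, Finset.sum_union hd2, Finset.sum_union hd1, h1v,
      Finset.sum_congr rfl (g := fun _ => f (-1)) (s₁ := S) (fun g hg => by
        rw [hsing g (Finset.mem_filter.mp hg).2]),
      Finset.sum_congr rfl (g := fun _ => f 1) (s₁ := O) (fun g hg => by rw [(Finset.mem_filter.mp hg).2]),
      Finset.sum_congr rfl (g := fun _ => f 0) (s₁ := Z) (fun g hg => by rw [(Finset.mem_filter.mp hg).2]),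
      Finset.sum_const, Finset.sum_const, Finset.sum_const]
    simp only [nsmul_eq_mul]
    ring
  have hnorm := Char.classInner_irr_self E.χ₁.2
  rw [classInner, hsum (fun z => z * conj z), inv_mul_eq_one₀ (Nat.cast_ne_zero.mpr Nat.card_pos.ne')] at hnorm
  have hall : Nat.card G = 1 + S.card + O.card + Z.card := by
    rw [Nat.card_eq_fintype_card, ← Finset.card_univ, hpart, Finset.card_insert_of_notMem hn1,
      Finset.card_union_of_disjoint hd2, Finset.card_union_of_disjoint hd1]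
    ring
  simp only [map_natCast, map_neg, map_one, map_zero, mul_zero, add_zero, neg_mul_neg, one_mul, mul_one] at hnorm
  have hnormN : Nat.card G = 2 * E.D.t * (2 * E.D.t) + S.card + O.card := by exact_mod_cast hnorm
  rw [Nat.card_eq_fintype_card, Fintype.card_subtype]
  show Z.card = _
  omega

theorem concl : Concl G p := by
  have ht := E.ht
  obtain ⟨s, hs⟩ := E.exists_involution
  obtain ⟨hs0, hsc⟩ := E.involution hs
  set q := 2 * E.D.t with hq
  have hzero : ∀ g : G, (E.χ₁ : G → ℂ) g = 0 ↔ orderOf g = 2 := by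
    letI : Fintype G := Fintype.ofFinite G
    have hclass : Nat.card {g : G // IsConj g s} = q * q - 1 := by
      have h := (Subgroup.centralizer ({s} : Set G)).card_mul_index
      rw [hsc, ← Char.card_isConj_eq_index, E.card_G, ← hq] at h
      refine Nat.eq_of_mul_eq_mul_left (show 0 < q by omega) (h.trans ?_)
      rw [show q * q - 1 = (q + 1) * (q - 1) by rw [← Nat.mul_self_sub_mul_self_eq, mul_one]]
      ring
    have hsub : ∀ g : G, IsConj g s → (E.χ₁ : G → ℂ) g = 0 := fun g hg => by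
      rw [Char.eq_of_isConj (Char.isClassFunction_irr E.χ₁) hg, hs0]
    let f : {g : G // IsConj g s} → {g : G // (E.χ₁ : G → ℂ) g = 0} := fun g => ⟨g.1, hsub g.1 g.2⟩
    have hb : Function.Bijective f :=
      (Nat.bijective_iff_injective_and_card f).mpr
        ⟨fun a b h => Subtype.ext (congrArg (fun z : {g : G // (E.χ₁ : G → ℂ) g = 0} => (z : G)) h),
          by rw [hclass, E.zeros_count, hq]⟩
    refine fun g => ⟨fun h => ?_, fun h => (E.involution h).1⟩
    obtain ⟨⟨x, hx⟩, hxe⟩ := hb.2 ⟨g, h⟩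
    have hxg : x = g := congrArg Subtype.val hxe
    subst hxg
    obtain ⟨c, hc⟩ := isConj_iff.mp hx
    rw [← hs, ← hc, ← MulAut.conj_apply, MulEquiv.orderOf_eq]
  have hC : ∀ x : G, orderOf x = 2 → ∀ y ∈ Subgroup.centralizer ({x} : Set G), y * y = 1 := by
    intro x hx y hy
    by_cases hy1 : y = 1
    · rw [hy1, one_mul]
    by_cases hr : p ∣ orderOf y
    · exfalso
      have ho := H.orderOf_eq_of_dvd hr
      have hd : p ∣ q := by
        rw [← ho, hq, ← (E.involution hx).2]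
        exact (Subgroup.orderOf_mk y hy) ▸ orderOf_dvd_natCard (⟨y, hy⟩ : Subgroup.centralizer ({x} : Set G))
      have := Nat.le_of_dvd (by omega) hd
      have := E.hp
      omega
    rcases E.regular_value hr hy1 with ⟨h, -⟩ | ⟨-, h⟩
    · rw [← pow_two, ← (hzero y).mp h, pow_orderOf_eq_one]
    · refine absurd ?_ h
      have hxy : x ∈ Subgroup.centralizer ({y} : Set G) :=
        Subgroup.mem_centralizer_singleton_iff.mpr (Subgroup.mem_centralizer_singleton_iff.mp hy).symm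
      rw [← hx]
      exact (Subgroup.orderOf_mk x hxy) ▸ orderOf_dvd_natCard (⟨x, hxy⟩ : Subgroup.centralizer ({y} : Set G))
  obtain ⟨m, hm⟩ : ∃ m, q = 2 ^ m := by
    haveI : Fact (Nat.Prime 2) := ⟨Nat.prime_two⟩
    have hpg : IsPGroup 2 (Subgroup.centralizer ({s} : Set G)) := fun y =>
      ⟨1, Subtype.ext (by simpa [pow_two] using hC s hs y.1 y.2)⟩
    obtain ⟨m, hm⟩ := hpg.exists_card_eq
    exact ⟨m, hsc.symm.trans hm⟩
  have hm1 : 1 ≤ m := by
    rcases Nat.eq_zero_or_pos m with h | h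
    · subst h; simp at hm; omega
    · exact h
  have hpm : p = 2 ^ m + 1 := by rw [← hm, hq, E.hp]
  obtain ⟨F, iF, fF, hF, he⟩ := psl_of_involution_centralizers (G := G) hm1
    (by rw [E.card_G, ← hq, ← hm]; ring)
    (fun x hx => ⟨by rw [(E.involution hx).2, ← hq, hm], hC x hx⟩)
    (by
      rw [← hm, hq, ← E.zeros_count]
      exact Nat.card_congr (Equiv.subtypeEquivRight fun g => (hzero g).symm))
  exact Or.inr ⟨m, F, iF, fF, hF, hpm, by omega, he⟩

end EvenData

end CfsgLib.BrauerReynolds
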