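import Cfsg.Agent.Lib.BrauerReynolds.Setting
import Mathlib.GroupTheory.SchurZassenhaus
import Mathlib.GroupTheory.SpecificGroups.Cyclic
import Mathlib.RingTheory.ZMod.UnitsCyclic
import Mathlib.GroupTheory.GroupAction.Quotient

/-!
# The normalizer of the Sylow subgroup: a Frobenius group with cyclic complement
-/

set_option autoImplicit false
set_option linter.unusedSectionVars false
set_option linter.style.haveILetI false

open scoped Classical

namespace CfsgLib.BrauerReynolds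

open CfsgLib

universe u

variable {G : Type u} [Group G] [Finite G] {p : ℕ} [Fact p.Prime]

/-- A complement of `P` in its normalizer with the retraction onto it. -/
structure Frob (H : Hyp G p) where
  E : Subgroup G
  E_le : E ≤ H.N
  card_E : Nat.card E = H.e
  cyclic : IsCyclic E
  r : ↥H.N →* ↥E
  r_self : ∀ (τ : G) (hτ : τ ∈ E), r ⟨τ, E_le hτ⟩ = ⟨τ, hτ⟩
  r_eq_one : ∀ g : ↥H.N, r g = 1 ↔ (g : G) ∈ (H.P : Subgroup G)

theorem nonempty_frob (H : Hyp G p) : Nonempty (Frob H) := by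
  have hp : p.Prime := Fact.out
  set Pn := (H.P : Subgroup G).subgroupOf H.N with hPn
  haveI : Pn.Normal := ⟨fun x hx g => by
    rw [hPn, Subgroup.mem_subgroupOf] at hx ⊢
    exact (Subgroup.mem_normalizer_iff.mp g.2 x).mp hx⟩
  have hcP : Nat.card Pn = p := by
    rw [Nat.card_congr (Subgroup.subgroupOfEquivOfLe H.P_le_N).toEquiv, H.card_P]
  have hidx : Pn.index = H.e := rfl
  have hep : H.e < p := by
    obtain ⟨D⟩ := nonempty_data H
    have h1 := D.het
    rcases Nat.eq_zero_or_pos D.t with h | h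
    · rw [h, mul_zero] at h1; have := hp.one_lt; omega
    · have := Nat.le_mul_of_pos_right H.e h
      omega
  have hcop : Nat.Coprime (Nat.card Pn) Pn.index := by
    rw [hcP, hidx]
    exact hp.coprime_iff_not_dvd.mpr fun h => by
      have := Nat.le_of_dvd (by have := H.two_le_e; omega) h
      omega
  obtain ⟨En, hEn⟩ := Subgroup.exists_left_complement'_of_coprime hcop
  set E := En.map H.N.subtype with hE
  have hle : E ≤ H.N := Subgroup.map_subtype_le En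
  let φ : ↥En ≃* ↥E := Subgroup.equivMapOfInjective En H.N.subtype H.N.subtype_injective
  let r : ↥H.N →* ↥E :=
    φ.toMonoidHom.comp (hEn.QuotientMulEquiv.toMonoidHom.comp (QuotientGroup.mk' Pn))
  have hq : ∀ x : ↥En, hEn.QuotientMulEquiv ((x : ↥H.N) : ↥H.N ⧸ Pn) = x := fun x => by
    rw [← MulEquiv.eq_symm_apply]
    rfl
  have hrs : ∀ (τ : G) (hτ : τ ∈ E), r ⟨τ, hle hτ⟩ = ⟨τ, hτ⟩ := by
    intro τ hτ
    obtain ⟨y, hy, rfl⟩ := hτ
    show φ (hEn.QuotientMulEquiv ((y : ↥H.N) : ↥H.N ⧸ Pn)) = _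
    rw [hq ⟨y, hy⟩]
    rfl
  have hcard : Nat.card E = H.e := by
    rw [← Nat.card_congr φ.toEquiv, ← hidx, hEn.index_eq_card]
  have hr1 : ∀ g : ↥H.N, r g = 1 ↔ (g : G) ∈ (H.P : Subgroup G) := fun g => by
    show φ (hEn.QuotientMulEquiv (g : ↥H.N ⧸ Pn)) = 1 ↔ _
    rw [MulEquiv.map_eq_one_iff, MulEquiv.map_eq_one_iff, QuotientGroup.eq_one_iff,
      hPn, Subgroup.mem_subgroupOf]
  refine ⟨⟨E, hle, hcard, ?_, r, hrs, hr1⟩⟩
  haveI : IsCyclic (H.P : Subgroup G) := isCyclic_of_prime_card H.card_P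
  haveI : IsCyclic (MulAut (H.P : Subgroup G)) := by
    haveI : IsCyclic (ZMod (Nat.card (H.P : Subgroup G)))ˣ := by
      rw [H.card_P]; exact ZMod.isCyclic_units_prime hp
    exact isCyclic_of_injective (IsCyclic.mulAutMulEquiv (H.P : Subgroup G)).toMonoidHom
      (IsCyclic.mulAutMulEquiv (H.P : Subgroup G)).injective
  let f : ↥E →* MulAut (H.P : Subgroup G) :=
    (H.P : Subgroup G).normalizerMonoidHom.comp (Subgroup.inclusion hle)
  refine isCyclic_of_injective f ((injective_iff_map_eq_one f).mpr fun τ hτ => ?_)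
  have hk : (Subgroup.inclusion hle τ) ∈ (H.P : Subgroup G).normalizerMonoidHom.ker := hτ
  rw [Subgroup.normalizerMonoidHom_ker, Subgroup.mem_subgroupOf] at hk
  rw [H.self_centralizing] at hk
  have := (hr1 (Subgroup.inclusion hle τ)).mpr hk
  rwa [show Subgroup.inclusion hle τ = ⟨τ.1, hle τ.2⟩ from rfl, hrs τ.1 τ.2] at this

namespace Hyp

variable (H : Hyp G p)

/-- The distinguished point. -/
abbrev pt : G ⧸ H.N := QuotientGroup.mk (1 : G)

/-- The permutation character on the Sylow subgroups. -/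
noncomputable def pi (g : G) : ℕ := Nat.card {β : G ⧸ H.N // g • β = β}

theorem mem_N_iff {g : G} : g • H.pt = H.pt ↔ g ∈ H.N := by
  rw [← MulAction.mem_stabilizer_iff, MulAction.stabilizer_quotient]

theorem pi_conj (g x : G) : H.pi (x * g * x⁻¹) = H.pi g := by
  refine Nat.card_congr (Equiv.subtypeEquiv (MulAction.toPerm x⁻¹) fun β => ?_)
  simp only [MulAction.toPerm_apply]
  rw [mul_smul, mul_smul, smul_eq_iff_eq_inv_smul x]

theorem card_points : Nat.card (G ⧸ H.N) = 1 + H.n * p := by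
  rw [← Subgroup.index_eq_card, H.index_N]

theorem fixed_P {v : G} (hv : v ∈ (H.P : Subgroup G)) (hv1 : v ≠ 1) {β : G ⧸ H.N} (h : v • β = β) :
    β = H.pt := by
  obtain ⟨x, rfl⟩ := QuotientGroup.mk_surjective β
  have hx : x⁻¹ * v * x ∈ H.N := by
    rw [← H.mem_N_iff, mul_smul, mul_smul, inv_smul_eq_iff]
    simpa [MulAction.Quotient.smul_mk] using h
  have hord : orderOf (x⁻¹ * v * x) = p := by
    rw [show x⁻¹ * v * x = MulAut.conj x⁻¹ v by simp, MulEquiv.orderOf_eq, H.orderOf_mem hv hv1]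
  have hP : x⁻¹ * v * x ∈ (H.P : Subgroup G) := by
    have hz : IsPGroup p (Subgroup.zpowers (x⁻¹ * v * x)) :=
      IsPGroup.of_card (n := 1) (by rw [Nat.card_zpowers, hord, pow_one])
    have := (hz.inf_normalizer_sylow H.P).le ⟨Subgroup.mem_zpowers _, hx⟩
    exact this.2
  have hgen : ∀ w : G, w ∈ (H.P : Subgroup G) → w ≠ 1 → Subgroup.zpowers w = (H.P : Subgroup G) :=
    fun w hw hw1 => Subgroup.eq_of_le_of_card_ge (Subgroup.zpowers_le.mpr hw)
      (by rw [Nat.card_zpowers, H.orderOf_mem hw hw1, H.card_P])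
  have hne : x⁻¹ * v * x ≠ 1 := fun e => by
    rw [e, orderOf_one] at hord
    exact (Fact.out : p.Prime).one_lt.ne hord
  have hxN : x⁻¹ ∈ H.N := by
    refine Subgroup.mem_normalizer_fintype fun q hq => ?_
    change q ∈ (H.P : Subgroup G) at hq
    rw [← hgen v hv hv1] at hq
    obtain ⟨i, rfl⟩ := Subgroup.mem_zpowers_iff.mp hq
    show x⁻¹ * v ^ i * x⁻¹⁻¹ ∈ (H.P : Subgroup G)
    rw [show x⁻¹ * v ^ i * x⁻¹⁻¹ = MulAut.conj x⁻¹ (v ^ i) from rfl, map_zpow,
      show MulAut.conj x⁻¹ v = x⁻¹ * v * x by simp]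
    exact zpow_mem hP i
  show (QuotientGroup.mk x : G ⧸ H.N) = QuotientGroup.mk 1
  rw [QuotientGroup.eq, mul_one]
  exact hxN

theorem pi_P {v : G} (hv : v ∈ (H.P : Subgroup G)) (hv1 : v ≠ 1) : H.pi v = 1 := by
  rw [pi, Nat.card_eq_one_iff_unique]
  exact ⟨⟨fun a b => Subtype.ext ((H.fixed_P hv hv1 a.2).trans (H.fixed_P hv hv1 b.2).symm)⟩,
    ⟨⟨H.pt, H.mem_N_iff.mpr (H.P_le_N hv)⟩⟩⟩

theorem pi_one : H.pi 1 = 1 + H.n * p := by
  rw [← H.card_points, pi]
  exact Nat.card_congr (Equiv.subtypeUnivEquiv fun β => one_smul G β)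

/-- Elements outside `P` commute with no non-trivial element of `P`. -/
theorem eq_one_of_commute {x u : G} (hx : x ∉ (H.P : Subgroup G)) (hu : u ∈ (H.P : Subgroup G))
    (h : u * x = x * u) : u = 1 := by
  by_contra hu1
  have : x ∈ Subgroup.centralizer ({u} : Set G) := Subgroup.mem_centralizer_singleton_iff.mpr h.symm
  rw [H.centralizer_eq hu hu1] at this
  exact hx this

end Hyp

namespace Frob

variable {H : Hyp G p} (F : Frob H)
include F

theorem disjoint {x : G} (hx : x ∈ F.E) (hxP : x ∈ (H.P : Subgroup G)) : x = 1 := by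
  have := (F.r_eq_one ⟨x, F.E_le hx⟩).mpr hxP
  rw [F.r_self x hx] at this
  exact congrArg Subtype.val this

theorem not_mem_P {x : G} (hx : x ∈ F.E) (hx1 : x ≠ 1) : x ∉ (H.P : Subgroup G) :=
  fun h => hx1 (F.disjoint hx h)

theorem decomp (g : ↥H.N) : (g : G) * ((F.r g : G))⁻¹ ∈ (H.P : Subgroup G) := by
  have h := F.r_eq_one (g * ⟨(F.r g : G), F.E_le (F.r g).2⟩⁻¹)
  rw [map_mul, map_inv, F.r_self _ (F.r g).2, mul_inv_eq_one] at h
  exact h.mp rfl

theorem r_ne_one {g : ↥H.N} (hg : (g : G) ∉ (H.P : Subgroup G)) : (F.r g : G) ≠ 1 := fun h =>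
  hg ((F.r_eq_one g).mp (Subtype.ext h))

/-- An element outside `P` is conjugate under `P` to its image in `E`. -/
theorem exists_conj (g : ↥H.N) (hg : (g : G) ∉ (H.P : Subgroup G)) :
    ∃ w ∈ (H.P : Subgroup G), w * (F.r g : G) * w⁻¹ = g := by
  set τ := (F.r g : G) with hτ
  have hτE : τ ∈ F.E := (F.r g).2
  have hn : ∀ w ∈ (H.P : Subgroup G), w * τ * w⁻¹ * τ⁻¹ ∈ (H.P : Subgroup G) := fun w hw => by
    rw [show w * τ * w⁻¹ * τ⁻¹ = w * (τ * w⁻¹ * τ⁻¹) by group]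
    exact mul_mem hw ((Subgroup.mem_normalizer_iff.mp (F.E_le hτE) _).mp (inv_mem hw))
  let f : ↥(H.P : Subgroup G) → ↥(H.P : Subgroup G) := fun w => ⟨_, hn w.1 w.2⟩
  have hf : Function.Injective f := by
    intro w w' he
    have he' : (w : G) * τ * (w : G)⁻¹ = (w' : G) * τ * (w' : G)⁻¹ :=
      mul_right_cancel (congrArg Subtype.val he : (w : G) * τ * (w : G)⁻¹ * τ⁻¹ = _)
    refine Subtype.ext (inv_mul_eq_one.mp (H.eq_one_of_commute (F.not_mem_P hτE (F.r_ne_one hg))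
      (mul_mem (inv_mem w'.2) w.2) ?_)).symm
    calc (w' : G)⁻¹ * w * τ = (w' : G)⁻¹ * ((w : G) * τ * (w : G)⁻¹) * w := by group
      _ = (w' : G)⁻¹ * ((w' : G) * τ * (w' : G)⁻¹) * w := by rw [he']
      _ = τ * ((w' : G)⁻¹ * w) := by group
  obtain ⟨w, hw⟩ := Finite.surjective_of_injective hf ⟨_, F.decomp g⟩
  exact ⟨w, w.2, mul_right_cancel (congrArg Subtype.val hw : (w : G) * τ * (w : G)⁻¹ * τ⁻¹ = (g : G) * τ⁻¹)⟩

theorem pi_eq (g : ↥H.N) (hg : (g : G) ∉ (H.P : Subgroup G)) :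
    H.pi (g : G) = H.pi (F.r g : G) := by
  obtain ⟨w, -, hw⟩ := F.exists_conj g hg
  rw [← hw, H.pi_conj]

section Subgroups

variable {K : Subgroup G} (hK : K ≤ H.N) (hKP : ∀ x ∈ K, x ∈ (H.P : Subgroup G) → x = 1)
include hK hKP

theorem r_injective : Function.Injective (F.r.comp (Subgroup.inclusion hK)) :=
  (injective_iff_map_eq_one _).mpr fun x hx =>
    Subtype.ext (hKP x.1 x.2 ((F.r_eq_one _).mp hx))

theorem card_le : Nat.card K ≤ H.e :=
  F.card_E ▸ Nat.card_le_card_of_injective _ (F.r_injective hK hKP)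

theorem comm {x y : G} (hx : x ∈ K) (hy : y ∈ K) : x * y = y * x := by
  haveI := F.cyclic
  letI := IsCyclic.commGroup (α := ↥F.E)
  have := F.r_injective hK hKP (a₁ := ⟨x, hx⟩ * ⟨y, hy⟩) (a₂ := ⟨y, hy⟩ * ⟨x, hx⟩)
    (by rw [map_mul, map_mul, mul_comm])
  exact congrArg Subtype.val this

theorem eq_E (hcard : Nat.card K = H.e) {τ : G} (hτK : τ ∈ K) (hτE : τ ∈ F.E) (hτ1 : τ ≠ 1) :
    K = F.E := by
  refine Subgroup.eq_of_le_of_card_ge (fun k hk => ?_) (by rw [hcard, F.card_E])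
  set g : ↥H.N := ⟨k, hK hk⟩
  have hσ : (F.r g : G) * τ = τ * (F.r g : G) := by
    haveI := F.cyclic
    letI := IsCyclic.commGroup (α := ↥F.E)
    exact congrArg Subtype.val (mul_comm (F.r g) ⟨τ, hτE⟩)
  have hk' : k * τ = τ * k := F.comm hK hKP hk hτK
  have hu := H.eq_one_of_commute (F.not_mem_P hτE hτ1) (F.decomp g) (by
    show k * (F.r g : G)⁻¹ * τ = τ * (k * (F.r g : G)⁻¹)
    have : (F.r g : G)⁻¹ * τ = τ * (F.r g : G)⁻¹ := by
      rw [eq_mul_inv_iff_mul_eq, mul_assoc, ← hσ, inv_mul_cancel_left]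
    rw [mul_assoc, this, ← mul_assoc, hk', mul_assoc])
  rw [mul_inv_eq_one] at hu
  show (g : G) ∈ F.E
  rw [hu]
  exact (F.r g).2

theorem exists_conj_E (hcard : Nat.card K = H.e) :
    ∃ w ∈ (H.P : Subgroup G), K.map (MulAut.conj w).toMonoidHom = F.E := by
  obtain ⟨k, hk, hk1⟩ : ∃ k, k ∈ K ∧ k ≠ 1 := by
    rcases K.bot_or_exists_ne_one with h | h
    · rw [h, Subgroup.card_bot] at hcard
      have := H.two_le_e
      omega
    · exact h
  have hkP : k ∉ (H.P : Subgroup G) := fun h => hk1 (hKP k hk h)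
  obtain ⟨w, hw, hwe⟩ := F.exists_conj ⟨k, hK hk⟩ hkP
  refine ⟨w⁻¹, inv_mem hw, F.eq_E ?_ ?_ ?_ (τ := (F.r ⟨k, hK hk⟩ : G)) ?_ (F.r _).2 (F.r_ne_one hkP)⟩
  · rintro x ⟨y, hy, rfl⟩
    exact mul_mem (mul_mem (H.P_le_N (inv_mem hw)) (hK hy)) (inv_mem (H.P_le_N (inv_mem hw)))
  · rintro x ⟨y, hy, rfl⟩ hx
    have hy' : y ∈ (H.P : Subgroup G) := by
      have := mul_mem (mul_mem hw hx) (inv_mem hw)
      simpa [mul_assoc] using this
    rw [hKP y hy hy']
    simp
  · rw [← hcard]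
    exact (Nat.card_congr (K.equivMapOfInjective _ (MulAut.conj w⁻¹).injective).toEquiv).symm
  · refine ⟨k, hk, ?_⟩
    show w⁻¹ * k * w⁻¹⁻¹ = _
    calc w⁻¹ * k * w⁻¹⁻¹ = w⁻¹ * (w * (F.r ⟨k, hK hk⟩ : G) * w⁻¹) * w⁻¹⁻¹ :=
          congrArg (fun z : G => w⁻¹ * z * w⁻¹⁻¹) hwe.symm
      _ = _ := by group

end Subgroups

end Frob

end CfsgLib.BrauerReynolds
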