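import Cfsg.Agent.Lib.BrauerReynolds.Local

/-!
# The involution of the complement forces `n = 1`, and the group is `PSL(2, p)`
-/

set_option autoImplicit false
set_option linter.unusedSectionVars false
set_option linter.style.haveILetI false

open scoped Classical

namespace CfsgLib.BrauerReynolds

open Cfsg
open scoped ComplexConjugate CfsgLib.Char
open CfsgLib

universe u

variable {G : Type u} [Group G] [Fintype G] {p : ℕ} [Fact p.Prime] {H : Hyp G p} {D : Data H}
  {a w z : ℕ} {M : Main D a w z} {F : Frob H}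

namespace Counts

variable (C : Counts M F)
include C

theorem p_odd : ¬ 2 ∣ p := fun h => by
  have := (Nat.prime_dvd_prime_iff_eq Nat.prime_two (Fact.out : p.Prime)).mp h
  have := D.p_ge
  omega

theorem exists_involution : ∃ u : G, u ∈ F.E ∧ orderOf u = 2 := by
  haveI : Fact (Nat.Prime 2) := ⟨Nat.prime_two⟩
  obtain ⟨x, hx⟩ := exists_prime_orderOf_dvd_card' 2 (show 2 ∣ Nat.card ↥F.E from F.card_E.symm ▸ C.even_e)
  exact ⟨x, x.2, (Subgroup.orderOf_coe x).trans hx⟩

theorem card_sq_le : (Finset.univ.filter fun x : ↥F.E => x ^ 2 = 1).card ≤ 2 := by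
  haveI := F.cyclic
  exact IsCyclic.card_pow_eq_one_le (by norm_num)

theorem involution_unique {x y : G} (hx : x ∈ F.E) (hy : y ∈ F.E) (hx2 : orderOf x = 2)
    (hy2 : orderOf y = 2) : x = y := by
  by_contra hne
  have hsub : ({1, ⟨x, hx⟩, ⟨y, hy⟩} : Finset ↥F.E) ⊆ Finset.univ.filter fun x : ↥F.E => x ^ 2 = 1 := by
    intro i hi
    simp only [Finset.mem_insert, Finset.mem_singleton] at hi
    refine Finset.mem_filter.mpr ⟨Finset.mem_univ _, Subtype.ext ?_⟩
    rcases hi with rfl | rfl | rfl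
    · simp
    · show x ^ 2 = 1
      rw [← hx2, pow_orderOf_eq_one]
    · show y ^ 2 = 1
      rw [← hy2, pow_orderOf_eq_one]
  have hx1 : x ≠ 1 := fun e => by rw [e, orderOf_one] at hx2; omega
  have hy1 : y ≠ 1 := fun e => by rw [e, orderOf_one] at hy2; omega
  have h3 : ({1, ⟨x, hx⟩, ⟨y, hy⟩} : Finset ↥F.E).card = 3 := Finset.card_eq_three.mpr
    ⟨_, _, _, fun e => hx1 (congrArg Subtype.val e).symm, fun e => hy1 (congrArg Subtype.val e).symm,
      fun e => hne (congrArg Subtype.val e), rfl⟩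
  have := (Finset.card_le_card hsub).trans C.card_sq_le
  omega

theorem conjE_mul (m n : ↥F.L) (τ : ↥F.E) : F.conjE (m * n) τ = F.conjE n (F.conjE m τ) := by
  ext
  simp [F.conjE_coe, mul_assoc]

theorem conjE_injective (m : ↥F.L) : Function.Injective (F.conjE m) := fun x y e => by
  have h := congrArg Subtype.val e
  rw [F.conjE_coe, F.conjE_coe] at h
  exact Subtype.ext (mul_left_cancel (mul_right_cancel h))

theorem inverts_sq {q : ↥F.L} (hq : (q : G) ∉ F.E) (hq2 : (q : G) * q ∈ F.E) (τ : ↥F.E) :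
    F.conjE q (τ ^ 2) = (τ ^ 2)⁻¹ := by
  have hmem : τ ^ 2 ∈ (F.diffE q).range := by
    have h1 := C.index_range_le hq
    rcases (show (F.diffE q).range.index = 1 ∨ (F.diffE q).range.index = 2 by
      have := Subgroup.index_ne_zero_of_finite (H := (F.diffE q).range); omega) with h | h
    · rw [Subgroup.index_eq_one.mp h]; exact Subgroup.mem_top _
    · exact Subgroup.sq_mem_of_index_two h τ
  obtain ⟨σ, hσ⟩ := hmem
  rw [← hσ, F.diffE_apply, map_mul, map_inv, ← C.conjE_mul,
    F.conjE_of_mem (show ((q * q : ↥F.L) : G) ∈ F.E from hq2), mul_inv_rev, inv_inv]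

theorem mul_mem_E {q₁ q₂ : ↥F.L} (h1 : (q₁ : G) ∉ F.E) (h1' : (q₁ : G) * q₁ ∈ F.E)
    (h2 : (q₂ : G) ∉ F.E) (h2' : (q₂ : G) * q₂ ∈ F.E) (ha : 1 ≤ a) : (q₁ : G) * q₂ ∈ F.E := by
  by_contra hn
  have hker := C.card_ker_le (m := q₁ * q₂) hn
  have he := C.four_le_e ha
  rcases he.eq_or_lt with h4 | h4
  · haveI := F.cyclic
    obtain ⟨c, hc⟩ := IsCyclic.exists_generator (α := ↥F.E)
    have hc' : Subgroup.zpowers c = ⊤ := (Subgroup.eq_top_iff' _).mpr hc
    have hord : orderOf c = 4 := by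
      rw [← Nat.card_zpowers, hc', Subgroup.card_top, F.card_E, ← h4]
    have hfix : ∀ q : ↥F.L, (q : G) ∉ F.E → F.conjE q c = c⁻¹ := by
      intro q hq
      obtain ⟨j, hj, he⟩ : ∃ j < 4, c ^ j = F.conjE q c := by
        obtain ⟨k, hk⟩ := (mem_powers_iff_mem_zpowers.mpr (hc (F.conjE q c)))
        refine ⟨k % 4, Nat.mod_lt _ (by norm_num), ?_⟩
        rw [← hk, ← hord, pow_mod_orderOf]
      have hinj := C.conjE_injective q
      have hsq : c ^ 2 ≠ 1 := fun e => by
        have := orderOf_dvd_of_pow_eq_one e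
        rw [hord] at this
        omega
      interval_cases j
      · exfalso
        rw [pow_zero] at he
        have := hinj (he.symm.trans (map_one (F.conjE q)).symm)
        rw [this, orderOf_one] at hord
        omega
      · exfalso
        rw [pow_one] at he
        have htop : (F.diffE q).ker = ⊤ := by
          rw [eq_top_iff, ← hc', Subgroup.zpowers_le, MonoidHom.mem_ker, F.diffE_apply, ← he,
            inv_mul_cancel]
        have := C.card_ker_le hq
        rw [htop, Subgroup.card_top, F.card_E] at this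
        omega
      · exfalso
        refine hsq (hinj ?_)
        rw [map_pow, ← he, map_one, ← pow_mul, ← pow_orderOf_eq_one c, hord]
      · rw [← he, eq_inv_iff_mul_eq_one, ← pow_succ, show 3 + 1 = orderOf c from hord.symm, pow_orderOf_eq_one]
    have htop : (F.diffE (q₁ * q₂)).ker = ⊤ := by
      rw [eq_top_iff, ← hc', Subgroup.zpowers_le, MonoidHom.mem_ker, F.diffE_apply, C.conjE_mul,
        hfix q₁ h1, map_inv, hfix q₂ h2, inv_inv, inv_mul_cancel]
    rw [htop, Subgroup.card_top, F.card_E] at hker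
    omega
  · let sq : ↥F.E →* ↥F.E :=
      { toFun := fun x => x ^ 2
        map_one' := one_pow 2
        map_mul' := fun x y => (Commute.mul_pow (show Commute x y from F.comm_E x y) 2) }
    have hk : Nat.card sq.ker ≤ 2 := by
      rw [show Nat.card sq.ker = (Finset.univ.filter fun x : ↥F.E => x ^ 2 = 1).card from ?_]
      · exact C.card_sq_le
      · rw [Nat.card_eq_fintype_card, ← Fintype.card_subtype]
        exact Fintype.card_congr (Equiv.subtypeEquivRight fun x => Iff.rfl)
    have hsub : sq.range ≤ (F.diffE (q₁ * q₂)).ker := by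
      rintro _ ⟨τ, rfl⟩
      rw [MonoidHom.mem_ker, F.diffE_apply, C.conjE_mul]
      show (τ ^ 2)⁻¹ * F.conjE q₂ (F.conjE q₁ (τ ^ 2)) = 1
      rw [C.inverts_sq h1 h1', map_inv, C.inverts_sq h2 h2', inv_inv, inv_mul_cancel]
    have hle := (Subgroup.card_le_of_le hsub).trans hker
    have hprod := sq.ker.card_mul_index
    rw [Subgroup.index_ker, F.card_E] at hprod
    have := Nat.mul_le_mul hk hle
    omega

theorem centralizer_involution {u : G} (hu : u ∈ F.E) (hu2 : orderOf u = 2) {x : G}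
    (hx : x * u = u * x) : x ∈ F.L := by
  have hu1 : u ≠ 1 := fun e => by rw [e, orderOf_one] at hu2; omega
  obtain ⟨β, hβ, hβfix⟩ := C.exists_fix_ne
  have hfix : ∀ γ : G ⧸ H.N, u • γ = γ → ∀ σ ∈ F.E, (x * σ * x⁻¹) • γ = γ := by
    intro γ hγ σ hσ
    have h1 : u • (x⁻¹ • γ) = x⁻¹ • γ := by
      rw [← mul_smul, show u * x⁻¹ = x⁻¹ * u by
        rw [eq_inv_mul_iff_mul_eq, ← mul_assoc, hx, mul_inv_cancel_right], mul_smul, hγ]
    rw [mul_smul, mul_smul, C.fix_all hu hu1 h1 σ hσ, smul_inv_smul]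
  refine Subgroup.mem_normalizer_fintype fun σ hσ => ?_
  have hmem : x * σ * x⁻¹ ∈ H.K β := Subgroup.mem_inf.mpr
    ⟨H.mem_N_iff.mp (hfix H.pt (H.mem_N_iff.mpr (F.E_le hu)) σ hσ),
      MulAction.mem_stabilizer_iff.mpr (hfix β (hβfix u hu) σ hσ)⟩
  rwa [C.K_eq hβ hu hu1 (hβfix u hu)] at hmem

theorem pi_of_fix {m : G} (hm : orderOf m = 2) {β : G ⧸ H.N} (h : m • β = β) :
    H.pi m = H.n + 1 := by
  obtain ⟨g, hg⟩ := MulAction.exists_smul_eq G β H.pt
  have hN : g * m * g⁻¹ ∈ H.N := by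
    rw [← H.mem_N_iff, mul_smul, mul_smul, ← hg, inv_smul_smul, h]
  have ho : orderOf (g * m * g⁻¹) = 2 := by rw [← MulAut.conj_apply, MulEquiv.orderOf_eq, hm]
  have hP : g * m * g⁻¹ ∉ (H.P : Subgroup G) := fun hP => by
    have h1 : g * m * g⁻¹ ≠ 1 := fun e => by rw [e, orderOf_one] at ho; omega
    have := H.orderOf_mem hP h1
    rw [ho] at this
    exact C.p_odd (this ▸ dvd_rfl)
  rw [← H.pi_conj m g]
  exact C.pi_out (g := ⟨_, hN⟩) hP

theorem n_eq_one (ha : 1 ≤ a) : H.n = 1 ∧ D.t = 2 := by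
  obtain ⟨u, hu, hu2⟩ := C.exists_involution
  have hu1 : u ≠ 1 := fun e => by rw [e, orderOf_one] at hu2; omega
  have huu : u * u = 1 := by rw [← pow_two, ← hu2, pow_orderOf_eq_one]
  set Inv := Finset.univ.filter fun m : G => orderOf m = 2 ∧ m ∈ F.L ∧ m ∉ F.E with hInv
  have hcardInv : Inv.card ≤ H.e := by
    rcases Inv.eq_empty_or_nonempty with h | ⟨q₁, hq₁⟩
    · rw [h]; simp
    rw [hInv, Finset.mem_filter] at hq₁
    have hsq : ∀ m : G, orderOf m = 2 → m * m ∈ F.E := fun m hm => by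
      rw [← pow_two, ← hm, pow_orderOf_eq_one]; exact one_mem _
    rw [← F.card_E, Nat.card_eq_fintype_card, ← Finset.card_univ]
    refine Finset.card_le_card_of_injOn (fun m => if h : q₁ * m ∈ F.E then (⟨q₁ * m, h⟩ : ↥F.E) else 1)
      (fun m _ => Finset.mem_coe.mpr (Finset.mem_univ _)) fun m hm m' hm' e => ?_
    have hmem : ∀ m ∈ Inv, q₁ * m ∈ F.E := fun m hm => by
      rw [hInv, Finset.mem_filter] at hm
      exact C.mul_mem_E (q₁ := ⟨q₁, hq₁.2.2.1⟩) (q₂ := ⟨m, hm.2.2.1⟩) hq₁.2.2.2 (hsq q₁ hq₁.2.1)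
        hm.2.2.2 (hsq m hm.2.1) ha
    simp only [dif_pos (hmem m hm), dif_pos (hmem m' hm')] at e
    exact mul_left_cancel (congrArg Subtype.val e)
  set O := Finset.univ.filter fun β : G ⧸ H.N => ¬ ∀ σ ∈ F.E, σ • β = β with hO
  have hcover : O ⊆ Inv.biUnion fun m => Finset.univ.filter fun β : G ⧸ H.N => m • β = β := by
    intro β hβ
    rw [hO, Finset.mem_filter] at hβ
    have hγ : u • β ≠ β := fun h => hβ.2 (C.fix_all hu hu1 h)
    obtain ⟨g, hg⟩ := MulAction.exists_smul_eq G β H.pt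
    set δ := g • (u • β) with hδ
    have hδ1 : δ ≠ H.pt := fun h => hγ (smul_left_cancel g (h.trans hg.symm))
    obtain ⟨v, hv, hve⟩ := F.exists_conj_E inf_le_left (H.K_inter hδ1) (C.card_K hδ1)
    set h := v * g with hh
    have hhβ : h • β = H.pt := by rw [hh, mul_smul, hg, H.mem_N_iff.mpr (H.P_le_N hv)]
    have hEfix : ∀ σ ∈ F.E, σ • (h • (u • β)) = h • (u • β) := by
      intro σ hσ
      rw [← hve] at hσ
      obtain ⟨k, hk, rfl⟩ := hσ
      have hkδ := MulAction.mem_stabilizer_iff.mp (Subgroup.mem_inf.mp hk).2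
      show (v * k * v⁻¹) • (h • (u • β)) = h • (u • β)
      rw [hh, mul_smul v g, ← hδ, mul_smul, mul_smul, inv_smul_smul, hkδ]
    have hne : h • (u • β) ≠ H.pt := fun e => hγ (smul_left_cancel h (e.trans hhβ.symm))
    set u' := h⁻¹ * u * h with hu'
    have ho' : orderOf u' = 2 := by
      rw [show u' = MulAut.conj h⁻¹ u by simp [hu'], MulEquiv.orderOf_eq, hu2]
    have hu'β : u' • β = β := by
      rw [hu', mul_smul, mul_smul, hhβ, H.mem_N_iff.mpr (F.E_le hu), ← hhβ, inv_smul_smul]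
    have hu'γ : u' • (u • β) = u • β := by
      rw [hu', mul_smul, mul_smul, hEfix u hu, inv_smul_smul]
    have hcomm : u' * u = u * u' := by
      set c := u * u' * u with hc
      have hcβ : c • β = β := by
        rw [hc, mul_smul, mul_smul, hu'γ, ← mul_smul, huu, one_smul]
      have hcγ : c • (u • β) = u • β := by
        rw [hc, ← mul_smul, mul_assoc (u * u'), huu, mul_one, mul_smul, hu'β]
      set d := h * c * h⁻¹ with hd
      have hdK : d ∈ H.K (h • (u • β)) := Subgroup.mem_inf.mpr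
        ⟨H.mem_N_iff.mp (by rw [hd, mul_smul, mul_smul, ← hhβ, inv_smul_smul, hcβ]),
          MulAction.mem_stabilizer_iff.mpr (by rw [hd, mul_smul, mul_smul, inv_smul_smul, hcγ])⟩
      rw [C.K_eq hne hu hu1 (hEfix u hu)] at hdK
      have hod : orderOf d = 2 := by
        rw [hd, ← MulAut.conj_apply, MulEquiv.orderOf_eq, hc,
          show u * u' * u = MulAut.conj u u' by
            rw [MulAut.conj_apply, inv_eq_of_mul_eq_one_right huu],
          MulEquiv.orderOf_eq, ho']
      have hdu := C.involution_unique hdK hu hod hu2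
      have hcu : c = u' := by
        rw [hu', ← hdu, hd]; group
      calc u' * u = c * u := by rw [hcu]
        _ = u * u' := by rw [hc, mul_assoc, huu, mul_one]
    have hL := C.centralizer_involution hu hu2 hcomm
    have hnE : u' ∉ F.E := fun hE => by
      have := C.involution_unique hE hu ho' hu2
      exact hγ (this ▸ hu'β)
    exact Finset.mem_biUnion.mpr ⟨u', Finset.mem_filter.mpr ⟨Finset.mem_univ _, ho', hL, hnE⟩,
      Finset.mem_filter.mpr ⟨Finset.mem_univ _, hu'β⟩⟩
  have hle : ∀ m ∈ Inv, (Finset.univ.filter fun β : G ⧸ H.N => m • β = β).card ≤ H.n + 1 := by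
    intro m hm
    rw [hInv, Finset.mem_filter] at hm
    rcases (Finset.univ.filter fun β : G ⧸ H.N => m • β = β).eq_empty_or_nonempty with h | ⟨β, hβ⟩
    · rw [h]; simp
    have := C.pi_of_fix hm.2.1 (Finset.mem_filter.mp hβ).2
    rw [Hyp.pi, Nat.card_eq_fintype_card, Fintype.card_subtype] at this
    exact this.le
  have hOle : O.card ≤ H.e * (H.n + 1) := by
    calc O.card ≤ _ := Finset.card_le_card hcover
      _ ≤ Inv.card * (H.n + 1) := Finset.card_biUnion_le_card_mul _ _ _ hle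
      _ ≤ H.e * (H.n + 1) := Nat.mul_le_mul_right _ hcardInv
  have hOcard : O.card + (H.n + 1) = 1 + H.n * p := by
    rw [← C.card_fix, ← H.card_points, Nat.card_eq_fintype_card, Fintype.card_subtype,
      Nat.card_eq_fintype_card, add_comm, hO]
    exact Finset.card_filter_add_card_filter_not _
  have hnt : H.n + 1 = D.t := by rw [M.hn, C.w_one, one_mul]
  have h1 : H.n * p = H.n * (H.e * D.t) + H.n := by
    have := congrArg (H.n * ·) D.het
    simp only [Nat.mul_add, mul_one] at this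
    omega
  have h2 : H.n * (H.e * D.t) ≤ H.e * (H.n + 1) := by omega
  rw [← hnt, mul_left_comm] at h2
  have h3 := Nat.le_of_mul_le_mul_left h2 (by have := H.two_le_e; omega)
  have h4 : H.n * (H.n + 1) ≤ 1 * (H.n + 1) := by omega
  have h5 := Nat.le_of_mul_le_mul_right h4 (by omega)
  have := H.n_pos
  omega

theorem concl (ha : 1 ≤ a) : Concl G p := by
  obtain ⟨hn, ht⟩ := C.n_eq_one ha
  have hp : p.Prime := Fact.out
  have hp1 : p = 2 * H.e + 1 := by
    have := D.het
    rw [ht] at this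
    omega
  obtain ⟨β₀, hβ₀, hβfix⟩ := C.exists_fix_ne
  have hΩ : Nat.card (G ⧸ H.N) = p + 1 := by rw [H.card_points, hn, one_mul, add_comm]
  have hreg : ∀ x y : G ⧸ H.N, x ≠ H.pt → y ≠ H.pt → ∃ g : G, g • H.pt = H.pt ∧ g • x = y := by
    intro x y hx hy
    let f : ↥(H.P : Subgroup G) → {γ : G ⧸ H.N // γ ≠ H.pt} := fun v => ⟨(v : G) • x, fun e => hx (by
      rw [← H.mem_N_iff.mpr (H.P_le_N v.2)] at e
      exact smul_left_cancel _ e)⟩
    have hinj : Function.Injective f := fun v v' e => by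
      by_contra hne
      refine hx (H.fixed_P (mul_mem (inv_mem v'.2) v.2) (fun h => hne (Subtype.ext (inv_mul_eq_one.mp h).symm)) ?_)
      rw [mul_smul, show (v : G) • x = (v' : G) • x from congrArg Subtype.val e, inv_smul_smul]
    obtain ⟨v, hv⟩ := ((Nat.bijective_iff_injective_and_card f).mpr ⟨hinj, by
      rw [H.card_P, Nat.card_eq_fintype_card, Fintype.card_subtype_compl, Fintype.card_subtype_eq,
        ← Nat.card_eq_fintype_card, hΩ]
      omega⟩).2 ⟨y, hy⟩
    exact ⟨v, H.mem_N_iff.mpr (H.P_le_N v.2), congrArg Subtype.val hv⟩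
  have hZG : Zassenhaus.ZG G (G ⧸ H.N) := by
    refine ⟨fun x y x' y' hxy hxy' => ?_, fun g x y x' hxy hyx' hxx' e1 e2 e3 => ?_, by
      rw [hΩ]; have := D.p_ge; omega⟩
    · obtain ⟨g, hg⟩ := MulAction.exists_smul_eq G x H.pt
      obtain ⟨g', hg'⟩ := MulAction.exists_smul_eq G x' H.pt
      obtain ⟨k, hk, hk'⟩ := hreg (g • y) (g' • y')
        (fun e => hxy (smul_left_cancel g (hg.trans e.symm)))
        (fun e => hxy' (smul_left_cancel g' (hg'.trans e.symm)))
      exact ⟨g'⁻¹ * k * g, by rw [mul_smul, mul_smul, hg, hk, ← hg', inv_smul_smul],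
        by rw [mul_smul, mul_smul, hk', inv_smul_smul]⟩
    · obtain ⟨g₀, hg₀⟩ := MulAction.exists_smul_eq G x H.pt
      by_contra hne
      set d := g₀ * g * g₀⁻¹ with hd
      have hfixes : ∀ γ : G ⧸ H.N, g • γ = γ → d • (g₀ • γ) = g₀ • γ := fun γ h => by
        rw [hd, mul_smul, mul_smul, inv_smul_smul, h]
      have hdN : d ∈ H.N := by rw [← H.mem_N_iff, ← hg₀]; exact hfixes x e1
      have hd1 : d ≠ 1 := fun e => hne (by rwa [hd, conj_eq_one_iff] at e)
      have hdP : d ∉ (H.P : Subgroup G) := fun hP => hxy (smul_left_cancel g₀ (hg₀.trans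
        (H.fixed_P hP hd1 (hfixes y e2)).symm))
      have hpi := C.pi_out (g := ⟨d, hdN⟩) hdP
      rw [hn, Hyp.pi, Nat.card_eq_fintype_card, Fintype.card_subtype] at hpi
      have hsub : ({g₀ • x, g₀ • y, g₀ • x'} : Finset (G ⧸ H.N)) ⊆
          Finset.univ.filter fun γ => d • γ = γ := by
        intro γ hγ
        simp only [Finset.mem_insert, Finset.mem_singleton] at hγ
        refine Finset.mem_filter.mpr ⟨Finset.mem_univ _, ?_⟩
        rcases hγ with rfl | rfl | rfl
        · exact hfixes x e1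
        · exact hfixes y e2
        · exact hfixes x' e3
      have h3 : ({g₀ • x, g₀ • y, g₀ • x'} : Finset (G ⧸ H.N)).card = 3 := Finset.card_eq_three.mpr
        ⟨_, _, _, fun e => hxy (smul_left_cancel g₀ e), fun e => hxx' (smul_left_cancel g₀ e),
          fun e => hyx' (smul_left_cancel g₀ e), rfl⟩
      have hpi' : (Finset.univ.filter fun γ : G ⧸ H.N => d • γ = γ).card = 1 + 1 := by convert hpi
      have := Finset.card_le_card hsub
      omega
  have hD2 : Nat.card (Zassenhaus.D2 G H.pt β₀) = H.e := by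
    rw [Zassenhaus.D2, MulAction.stabilizer_quotient]
    exact C.card_K hβ₀
  obtain ⟨K, iK, fK, -, hK, he⟩ := Zassenhaus.iso_PSL (Zassenhaus.Ext.of_le hZG hβ₀.symm
    (by rw [hD2]; exact even_iff_two_dvd.mpr C.even_e) (by rw [hD2, hΩ]; omega)) hβ₀.symm
  refine Or.inl ⟨K, iK, fK, by omega, ?_, he⟩
  have := H.two_le_e
  omega

end Counts

end CfsgLib.BrauerReynolds
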