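import Cfsg.Agent.Lib.BrauerReynolds.Points
import Cfsg.Agent.Lib.Zassenhaus.Ident

/-!
# The case with positive characters: `G ≅ PSL(2, p)`
-/

set_option autoImplicit false
set_option linter.unusedSectionVars false
set_option linter.style.haveILetI false

open scoped Classical

namespace CfsgLib.BrauerReynolds

open Cfsg
open scoped ComplexConjugate CfsgLib.Char
open CfsgLib

universe u

variable {G : Type u} [Group G] [Fintype G] {p : ℕ} [Fact p.Prime] {H : Hyp G p} {D : Data H}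
  {a w z : ℕ} {M : Main D a w z} {F : Frob H}

namespace Frob

variable (F)

/-- The normalizer of the complement. -/
abbrev L : Subgroup G := Subgroup.normalizer (F.E : Set G)

theorem conj_mem {m σ : G} (hm : m ∈ F.L) (hσ : σ ∈ F.E) : m⁻¹ * σ * m ∈ F.E :=
  (Subgroup.mem_normalizer_iff''.mp hm σ).mp hσ

/-- Conjugation by an element of the normalizer. -/
noncomputable def conjE (m : ↥F.L) : ↥F.E →* ↥F.E where
  toFun τ := ⟨(m : G)⁻¹ * τ * m, F.conj_mem m.2 τ.2⟩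
  map_one' := by ext; simp
  map_mul' x y := by ext; simp [mul_assoc]

theorem conjE_coe (m : ↥F.L) (τ : ↥F.E) : ((F.conjE m τ : ↥F.E) : G) = (m : G)⁻¹ * τ * m := rfl

theorem commute_E {x y : G} (hx : x ∈ F.E) (hy : y ∈ F.E) : x * y = y * x :=
  congrArg Subtype.val (F.comm_E ⟨x, hx⟩ ⟨y, hy⟩)

/-- The commutator map. -/
noncomputable def diffE (m : ↥F.L) : ↥F.E →* ↥F.E where
  toFun τ := τ⁻¹ * F.conjE m τ
  map_one' := by simp
  map_mul' x y := by
    rw [map_mul, mul_inv_rev, F.comm_E y⁻¹ x⁻¹, mul_assoc, mul_assoc, ← mul_assoc y⁻¹,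
      F.comm_E y⁻¹ (F.conjE m x), mul_assoc]

theorem diffE_apply (m : ↥F.L) (τ : ↥F.E) : F.diffE m τ = τ⁻¹ * F.conjE m τ := rfl

theorem conjE_of_mem {m : ↥F.L} (hm : (m : G) ∈ F.E) (τ : ↥F.E) : F.conjE m τ = τ := by
  ext
  rw [F.conjE_coe, mul_assoc, F.commute_E τ.2 hm, inv_mul_cancel_left]

theorem mem_ker_diffE {m : ↥F.L} {τ : ↥F.E} : τ ∈ (F.diffE m).ker ↔ (m : G) * τ = τ * m := by
  rw [MonoidHom.mem_ker, F.diffE_apply, inv_mul_eq_one, Subtype.ext_iff, F.conjE_coe]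
  constructor
  · intro h
    calc (m : G) * τ = m * ((m : G)⁻¹ * τ * m) := by rw [← h]
      _ = τ * m := by group
  · intro h
    rw [mul_assoc, ← h, inv_mul_cancel_left]

end Frob

namespace Counts

variable (C : Counts M F)
include C

/-- The value of the induced character on the complement. -/
theorem ind_value (θ : IrrCharacter ↥F.E) {τ : G} (hτ : τ ∈ F.E) (hτ1 : τ ≠ 1) :
    (H.e : ℂ) * F.ind θ τ = ∑ m : ↥F.L, (θ : ↥F.E → ℂ) (F.conjE m ⟨τ, hτ⟩) := by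
  set S := Finset.univ.filter fun x : G => x⁻¹ * τ * x ∈ H.N with hS
  have hzero : ∑ x : G, extendByZero H.N (F.lam θ) (x⁻¹ * τ * x) =
      ∑ x ∈ S, extendByZero H.N (F.lam θ) (x⁻¹ * τ * x) :=
    (Finset.sum_subset (Finset.subset_univ _) fun x _ hx =>
      Char.extendByZero_notMem _ _ fun h => hx (Finset.mem_filter.mpr ⟨Finset.mem_univ _, h⟩)).symm
  have hmemN : ∀ {m v : G}, m ∈ F.L → v ∈ (H.P : Subgroup G) →
      (m * v)⁻¹ * τ * (m * v) ∈ H.N := fun {m v} hm hv => by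
    rw [show (m * v)⁻¹ * τ * (m * v) = v⁻¹ * (m⁻¹ * τ * m) * v by group]
    exact mul_mem (mul_mem (inv_mem (H.P_le_N hv)) (F.E_le (F.conj_mem hm hτ))) (H.P_le_N hv)
  have hbij : ∑ r : ↥F.L × ↥(H.P : Subgroup G), (θ : ↥F.E → ℂ) (F.conjE r.1 ⟨τ, hτ⟩) =
      ∑ x ∈ S, extendByZero H.N (F.lam θ) (x⁻¹ * τ * x) := by
    refine Finset.sum_nbij (fun r => (r.1 : G) * r.2) ?_ ?_ ?_ ?_
    · intro r _
      exact Finset.mem_filter.mpr ⟨Finset.mem_univ _, hmemN r.1.2 r.2.2⟩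
    · rintro ⟨m, v⟩ _ ⟨m', v'⟩ _ h
      change (m : G) * v = m' * v' at h
      have h' : (m' : G)⁻¹ * m = v' * (v : G)⁻¹ := by
        rw [eq_mul_inv_iff_mul_eq, mul_assoc, h, inv_mul_cancel_left]
      have hP : (m' : G)⁻¹ * m ∈ (H.P : Subgroup G) := h' ▸ mul_mem v'.2 (inv_mem v.2)
      have h1 := F.disjoint (C.normalizer_inter (mul_mem (inv_mem m'.2) m.2) (H.P_le_N hP)) hP
      have hm : (m : G) = m' := (inv_mul_eq_one.mp h1).symm
      exact Prod.ext (Subtype.ext hm) (Subtype.ext (mul_left_cancel (hm ▸ h)))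
    · intro x hx
      rw [Finset.mem_coe, hS, Finset.mem_filter] at hx
      have hfix : τ • (x • H.pt) = x • H.pt := by
        have := H.mem_N_iff.mpr hx.2
        rwa [mul_smul, mul_smul, inv_smul_eq_iff] at this
      obtain ⟨m, hm, hmx⟩ := C.exists_normalizing (C.fix_all hτ hτ1 hfix)
      have hk : m⁻¹ * x ∈ H.N := H.mem_N_iff.mp (by rw [mul_smul, ← hmx, inv_smul_smul])
      set σ := (F.r ⟨_, hk⟩ : G)
      have hσ : σ ∈ F.E := (F.r ⟨_, hk⟩).2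
      have hv : σ⁻¹ * (m⁻¹ * x) ∈ (H.P : Subgroup G) := by
        have h := (Subgroup.mem_normalizer_iff.mp (inv_mem (F.E_le hσ)) _).mp (F.decomp ⟨_, hk⟩)
        rw [show σ⁻¹ * (m⁻¹ * x) = σ⁻¹ * ((m⁻¹ * x) * σ⁻¹) * σ⁻¹⁻¹ by group]
        exact h
      refine ⟨(⟨m * σ, mul_mem hm (Subgroup.le_normalizer hσ)⟩, ⟨_, hv⟩),
        Finset.mem_coe.mpr (Finset.mem_univ _), ?_⟩
      show m * σ * (σ⁻¹ * (m⁻¹ * x)) = x
      group
    · intro r _
      have hmem := hmemN r.1.2 r.2.2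
      rw [Char.extendByZero_mem _ _ hmem]
      show (θ : ↥F.E → ℂ) (F.conjE r.1 ⟨τ, hτ⟩) = (θ : ↥F.E → ℂ) (F.r ⟨_, hmem⟩)
      congr 1
      have hv : (r.2 : G) ∈ H.N := H.P_le_N r.2.2
      have hr2 : F.r ⟨(r.2 : G), hv⟩ = 1 := (F.r_eq_one _).mpr r.2.2
      rw [show (⟨((r.1 : G) * r.2)⁻¹ * τ * ((r.1 : G) * r.2), hmem⟩ : ↥H.N) =
        ⟨r.2, hv⟩⁻¹ * ⟨(r.1 : G)⁻¹ * τ * r.1, F.E_le (F.conj_mem r.1.2 hτ)⟩ * ⟨r.2, hv⟩ from
          Subtype.ext (by simp [mul_assoc]),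
        map_mul, map_mul, map_inv, hr2, F.r_self _ (F.conj_mem r.1.2 hτ), inv_one, one_mul, mul_one]
      rfl
  rw [Fintype.sum_prod_type] at hbij
  simp only [Finset.sum_const, Finset.card_univ, nsmul_eq_mul] at hbij
  rw [show Fintype.card ↥(H.P : Subgroup G) = p from Nat.card_eq_fintype_card.symm.trans H.card_P,
    ← Finset.mul_sum] at hbij
  rw [Frob.ind, indFun, hzero, ← hbij, H.card_N]
  have he : (H.e : ℂ) ≠ 0 := Nat.cast_ne_zero.mpr (by have := H.two_le_e; omega)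
  have hp : (p : ℂ) ≠ 0 := Nat.cast_ne_zero.mpr (Fact.out : p.Prime).ne_zero
  push_cast
  field_simp

theorem ind_P (θ : IrrCharacter ↥F.E) {v : G} (hv : v ∈ (H.P : Subgroup G)) (hv1 : v ≠ 1) :
    F.ind θ v = 1 := by
  have hval : ∀ x : G, extendByZero H.N (F.lam θ) (x⁻¹ * v * x) = if x ∈ H.N then 1 else 0 := by
    intro x
    split_ifs with hx
    · have hP : x⁻¹ * v * x ∈ (H.P : Subgroup G) := (Subgroup.mem_normalizer_iff''.mp hx v).mp hv
      rw [Char.extendByZero_mem _ _ (H.P_le_N hP), Frob.lam, (F.r_eq_one _).mpr hP, F.theta_one]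
    · refine Char.extendByZero_notMem _ _ fun h => hx ?_
      have hfix : v • (x • H.pt) = x • H.pt := by
        have := H.mem_N_iff.mpr h
        rwa [mul_smul, mul_smul, inv_smul_eq_iff] at this
      exact H.mem_N_iff.mp (H.fixed_P hv hv1 hfix)
  rw [Frob.ind, indFun]
  simp only [hval]
  rw [Finset.sum_boole, ← Fintype.card_subtype, ← Nat.card_eq_fintype_card]
  exact inv_mul_cancel₀ (Nat.cast_ne_zero.mpr Nat.card_pos.ne')

theorem ind_fibre (θ : IrrCharacter ↥F.E) (g : ↥H.N) (hg : (g : G) ∉ (H.P : Subgroup G)) :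
    F.ind θ g = F.ind θ (F.r g : G) := by
  obtain ⟨v, -, hv⟩ := F.exists_conj g hg
  exact Char.eq_of_isConj (Char.isClassFunction_indFun H.N (F.lam θ))
    (isConj_iff.mpr ⟨v, hv⟩ : IsConj ((F.r g : G)) (g : G)).symm

/-- The fixed normalizing elements of a linear character are counted by the norm. -/
theorem stab_count (θ : IrrCharacter ↥F.E) :
    Nat.card {m : ↥F.L // ∀ τ, (θ : ↥F.E → ℂ) (F.conjE m τ) = (θ : ↥F.E → ℂ) τ} =
      H.e * ∑ χ : IrrCharacter G, F.m χ θ * F.m χ θ := by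
  have h := F.inner_res_ind θ θ
  rw [classInner, F.sum_N (fun g : ↥H.N => F.ind θ g * conj (F.lam θ g)) (fun g hg => by
      show F.ind θ g * conj ((θ : ↥F.E → ℂ) (F.r g)) =
        F.ind θ (F.r g : G) * conj ((θ : ↥F.E → ℂ) (F.r ⟨(F.r g : G), F.E_le (F.r g).2⟩))
      rw [C.ind_fibre θ g hg, F.r_self _ (F.r g).2])] at h
  have hP : ∑ g ∈ Finset.univ.filter (fun g : ↥H.N => (g : G) ∈ (H.P : Subgroup G)),
      F.ind θ g * conj (F.lam θ g) = ((1 + H.n * p : ℕ) : ℂ) + ((p : ℂ) - 1) * 1 := by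
    rw [← F.ind_one θ, ← Frob.sum_P (H := H) (F.ind θ) (δ := 1) fun v hv hv1 => C.ind_P θ hv hv1]
    refine Finset.sum_congr rfl fun g hg => ?_
    rw [Frob.lam, (F.r_eq_one g).mpr (Finset.mem_filter.mp hg).2, F.theta_one, map_one, mul_one]
  rw [hP, H.card_N] at h
  have hE : ∀ τ : ↥F.E, τ ≠ 1 → (H.e : ℂ) * (F.ind θ (τ : G) * conj (F.lam θ ⟨τ, F.E_le τ.2⟩)) =
      ∑ m : ↥F.L, (θ : ↥F.E → ℂ) (F.conjE m τ) * conj ((θ : ↥F.E → ℂ) τ) := by
    intro τ hτ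
    rw [← mul_assoc, C.ind_value θ τ.2 fun e => hτ (Subtype.ext e), Frob.lam, F.r_self _ τ.2,
      Finset.sum_mul]
  have hall : ∀ m : ↥F.L, ∑ τ : ↥F.E, (θ : ↥F.E → ℂ) (F.conjE m τ) * conj ((θ : ↥F.E → ℂ) τ) =
      if (∀ τ, (θ : ↥F.E → ℂ) (F.conjE m τ) = (θ : ↥F.E → ℂ) τ) then (H.e : ℂ) else 0 := by
    intro m
    have hirr : IsIrrCharacter ↥F.E (fun τ => (θ : ↥F.E → ℂ) (F.conjE m τ)) :=
      Char.isIrrCharacter_of_degree_one (Char.isCharacter_comp _ (Char.isCharacter_of_isIrr θ.2))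
        (by rw [map_one, F.theta_one])
    have h' := Char.classInner_coe (⟨_, hirr⟩ : IrrCharacter ↥F.E) θ
    rw [classInner, F.card_E] at h'
    have he : (H.e : ℂ) ≠ 0 := Nat.cast_ne_zero.mpr (by have := H.two_le_e; omega)
    split_ifs with hc
    · rw [if_pos (Subtype.ext (funext hc)), inv_mul_eq_one₀ he] at h'
      exact h'.symm
    · rw [if_neg (fun e => hc (congrFun (congrArg Subtype.val e))), mul_eq_zero] at h'
      exact h'.resolve_left (inv_ne_zero he)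
  have htot : ∑ τ ∈ Finset.univ.erase (1 : ↥F.E),
      (H.e : ℂ) * (F.ind θ (τ : G) * conj (F.lam θ ⟨τ, F.E_le τ.2⟩)) + (H.e : ℂ) * (H.n + 1) =
      (H.e : ℂ) * (Nat.card {m : ↥F.L // ∀ τ, (θ : ↥F.E → ℂ) (F.conjE m τ) = (θ : ↥F.E → ℂ) τ} : ℂ) := by
    rw [Finset.sum_congr rfl fun τ hτ => hE τ (Finset.ne_of_mem_erase hτ)]
    rw [show (H.e : ℂ) * (H.n + 1) =
      ∑ m : ↥F.L, (θ : ↥F.E → ℂ) (F.conjE m 1) * conj ((θ : ↥F.E → ℂ) 1) from ?_,
      Finset.sum_erase_add _ _ (Finset.mem_univ _), Finset.sum_comm,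
      Finset.sum_congr rfl fun m _ => hall m, ← Finset.sum_filter, Finset.sum_const, nsmul_eq_mul,
      ← Fintype.card_subtype, ← Nat.card_eq_fintype_card, mul_comm]
    simp only [map_one, F.theta_one, mul_one, Finset.sum_const, Finset.card_univ, nsmul_eq_mul]
    rw [← Nat.card_eq_fintype_card, C.card_normalizer]
    push_cast; ring
  rw [← Finset.mul_sum] at htot
  set A := ∑ τ ∈ Finset.univ.erase (1 : ↥F.E), F.ind θ (τ : G) * conj (F.lam θ ⟨τ, F.E_le τ.2⟩)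
  set R := ∑ χ : IrrCharacter G, F.m χ θ * F.m χ θ with hR
  have he : (H.e : ℂ) ≠ 0 := Nat.cast_ne_zero.mpr (by have := H.two_le_e; omega)
  have hp : (p : ℂ) ≠ 0 := Nat.cast_ne_zero.mpr (Fact.out : p.Prime).ne_zero
  have hA : A + ((H.n : ℂ) + 1) =
      (Nat.card {m : ↥F.L // ∀ τ, (θ : ↥F.E → ℂ) (F.conjE m τ) = (θ : ↥F.E → ℂ) τ} : ℂ) :=
    mul_left_cancel₀ he (by rw [← htot]; ring)
  have hR' : ∑ χ : IrrCharacter G, (F.m χ θ : ℂ) * (F.m χ θ : ℂ) = (R : ℂ) := by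
    rw [hR]; push_cast; rfl
  rw [hR', inv_mul_eq_iff_eq_mul₀ (Nat.cast_ne_zero.mpr
    (Nat.mul_ne_zero (by have := H.two_le_e; omega) (Fact.out : p.Prime).ne_zero))] at h
  push_cast at h
  have : (Nat.card {m : ↥F.L // ∀ τ, (θ : ↥F.E → ℂ) (F.conjE m τ) = (θ : ↥F.E → ℂ) τ} : ℂ) =
      ((H.e * R : ℕ) : ℂ) := by
    rw [← hA]
    refine mul_left_cancel₀ hp ?_
    push_cast
    simp only [A]
    linear_combination h
  exact_mod_cast this

theorem mem_W_of_fixed {m : ↥F.L} (hm : (m : G) ∉ F.E) {θ : IrrCharacter ↥F.E}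
    (hθ : θ ≠ Blocks.trivIrr ↥F.E)
    (hfix : ∀ τ, (θ : ↥F.E → ℂ) (F.conjE m τ) = (θ : ↥F.E → ℂ) τ) : θ ∈ C.W := by
  by_contra hW
  have h := C.stab_count θ
  rw [C.norm_out θ hθ hW, mul_one, ← F.card_E] at h
  let f : ↥F.E → {n : ↥F.L // ∀ τ, (θ : ↥F.E → ℂ) (F.conjE n τ) = (θ : ↥F.E → ℂ) τ} := fun σ =>
    ⟨⟨σ, Subgroup.le_normalizer σ.2⟩, fun τ => by rw [F.conjE_of_mem σ.2]⟩
  have hf : Function.Injective f := fun x y e =>
    Subtype.ext (congrArg (fun n : {n : ↥F.L // ∀ τ, (θ : ↥F.E → ℂ) (F.conjE n τ) =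
      (θ : ↥F.E → ℂ) τ} => ((n.1 : ↥F.L) : G)) e)
  obtain ⟨σ, hσ⟩ := ((Nat.bijective_iff_injective_and_card f).mpr ⟨hf, h.symm⟩).2 ⟨m, hfix⟩
  exact hm ((congrArg (fun n : {n : ↥F.L // ∀ τ, (θ : ↥F.E → ℂ) (F.conjE n τ) =
    (θ : ↥F.E → ℂ) τ} => ((n.1 : ↥F.L) : G)) hσ) ▸ σ.2)

theorem W_eq : ∃ θ₀, θ₀ ≠ Blocks.trivIrr ↥F.E ∧ C.W = {θ₀} := by
  obtain ⟨θ₀, h⟩ := Finset.card_eq_one.mp (C.card_W.trans C.w_one)
  exact ⟨θ₀, fun e => C.triv_notMem (by rw [h, e]; exact Finset.mem_singleton_self _), h⟩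

theorem index_range_le {m : ↥F.L} (hm : (m : G) ∉ F.E) : (F.diffE m).range.index ≤ 2 := by
  set I := (F.diffE m).range
  haveI : I.Normal := ⟨fun x hx g => by rwa [F.comm_E g x, mul_inv_cancel_right]⟩
  have hQ : ∀ a b : ↥F.E ⧸ I, a * b = b * a := fun a b => by
    obtain ⟨a, rfl⟩ := QuotientGroup.mk_surjective a
    obtain ⟨b, rfl⟩ := QuotientGroup.mk_surjective b
    rw [← QuotientGroup.mk_mul, ← QuotientGroup.mk_mul, F.comm_E a b]
  haveI : Fintype (↥F.E ⧸ I) := Fintype.ofFinite _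
  have hcard : Nat.card (IrrCharacter (↥F.E ⧸ I)) = I.index := by
    have h := Char.sum_sq_degree (G := ↥F.E ⧸ I)
    simp only [Char.degree_one_of_comm hQ, one_pow, Finset.sum_const, Finset.card_univ,
      nsmul_eq_mul, mul_one, Nat.cast_inj] at h
    rw [Nat.card_eq_fintype_card, h, Subgroup.index_eq_card]
  let up : IrrCharacter (↥F.E ⧸ I) → IrrCharacter ↥F.E := fun η =>
    ⟨fun τ => (η : ↥F.E ⧸ I → ℂ) (QuotientGroup.mk' I τ),
      Char.isIrrCharacter_of_degree_one (Char.isCharacter_comp _ (Char.isCharacter_of_isIrr η.2))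
        (by rw [map_one, Char.degree_one_of_comm hQ])⟩
  have hinj : Function.Injective up := fun η η' e => Subtype.ext (funext fun q => by
    obtain ⟨τ, rfl⟩ := QuotientGroup.mk_surjective q
    exact congrFun (congrArg Subtype.val e) τ)
  obtain ⟨θ₀, -, hW⟩ := C.W_eq
  have hmem : ∀ η, up η ∈ ({Blocks.trivIrr ↥F.E, θ₀} : Finset (IrrCharacter ↥F.E)) := by
    intro η
    rw [Finset.mem_insert, or_iff_not_imp_left]
    intro hne
    rw [← hW]
    refine C.mem_W_of_fixed hm hne fun τ => ?_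
    show (η : ↥F.E ⧸ I → ℂ) (QuotientGroup.mk' I (F.conjE m τ)) = (η : ↥F.E ⧸ I → ℂ) (QuotientGroup.mk' I τ)
    refine congrArg (η : ↥F.E ⧸ I → ℂ) ?_
    show (QuotientGroup.mk (F.conjE m τ) : ↥F.E ⧸ I) = QuotientGroup.mk τ
    exact (QuotientGroup.eq.mpr (show τ⁻¹ * F.conjE m τ ∈ I from ⟨τ, rfl⟩)).symm
  rw [← hcard, Nat.card_eq_fintype_card, ← Finset.card_univ]
  calc (Finset.univ : Finset (IrrCharacter (↥F.E ⧸ I))).card ≤
      ({Blocks.trivIrr ↥F.E, θ₀} : Finset (IrrCharacter ↥F.E)).card :=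
        Finset.card_le_card_of_injOn up (fun η _ => Finset.mem_coe.mpr (hmem η)) hinj.injOn
    _ ≤ 2 := (Finset.card_insert_le _ _).trans (by simp)

theorem card_ker_le {m : ↥F.L} (hm : (m : G) ∉ F.E) : Nat.card (F.diffE m).ker ≤ 2 := by
  have h1 := (F.diffE m).ker.card_mul_index
  rw [Subgroup.index_ker, ← (F.diffE m).range.card_mul_index, mul_comm] at h1
  exact (Nat.eq_of_mul_eq_mul_left Nat.card_pos h1) ▸ C.index_range_le hm

theorem two_le_t : 2 ≤ D.t := by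
  have h := M.hn
  rw [C.w_one, one_mul] at h
  have := H.n_pos
  omega

theorem even_e : 2 ∣ H.e := by
  obtain ⟨θ₀, hne, hW⟩ := C.W_eq
  have hnorm := C.norm_in θ₀ (by rw [hW]; exact Finset.mem_singleton_self _)
  have hcount := C.stab_count θ₀
  obtain ⟨m, hm, hfix⟩ : ∃ m : ↥F.L, (m : G) ∉ F.E ∧
      ∀ τ, (θ₀ : ↥F.E → ℂ) (F.conjE m τ) = (θ₀ : ↥F.E → ℂ) τ := by
    by_contra hc
    push Not at hc
    let f : {n : ↥F.L // ∀ τ, (θ₀ : ↥F.E → ℂ) (F.conjE n τ) = (θ₀ : ↥F.E → ℂ) τ} → ↥F.E := fun n =>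
      ⟨n.1, by
        by_contra h
        obtain ⟨τ, hτ⟩ := hc n.1 h
        exact hτ (n.2 τ)⟩
    have hle := Nat.card_le_card_of_injective f fun x y e => Subtype.ext (Subtype.ext
      (congrArg Subtype.val e : _))
    rw [hcount, F.card_E] at hle
    have := C.two_le_t
    have h2 : H.e * 2 ≤ H.e * ∑ χ : IrrCharacter G, F.m χ θ₀ * F.m χ θ₀ := Nat.mul_le_mul_left _ (by omega)
    have := H.two_le_e
    omega
  have hlt : (F.diffE m).range ≠ ⊤ := by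
    intro ht
    refine hne (Subtype.ext (funext fun σ => ?_))
    obtain ⟨τ, rfl⟩ : σ ∈ (F.diffE m).range := ht ▸ Subgroup.mem_top σ
    show (θ₀ : ↥F.E → ℂ) (τ⁻¹ * F.conjE m τ) = 1
    have hc := Char.isCharacter_of_isIrr θ₀.2
    rw [Char.linear_mul hc (F.theta_one θ₀), hfix τ, ← Char.linear_mul hc (F.theta_one θ₀),
      inv_mul_cancel, F.theta_one]
  have hidx : (F.diffE m).range.index = 2 := by
    have h1 := C.index_range_le hm
    have h2 : (F.diffE m).range.index ≠ 1 := fun h => hlt (Subgroup.index_eq_one.mp h)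
    have h3 : (F.diffE m).range.index ≠ 0 := Subgroup.index_ne_zero_of_finite
    omega
  rw [← F.card_E, ← hidx]
  exact Subgroup.index_dvd_card _

theorem four_le_e (ha : 1 ≤ a) : 4 ≤ H.e := by
  have h := M.he
  rw [C.w_one] at h
  have := Nat.mul_le_mul ha (show 2 ≤ H.n + 1 by have := H.n_pos; omega)
  omega

end Counts

end CfsgLib.BrauerReynolds
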