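import Cfsg.Agent.Lib.BrauerReynolds.Even
import Cfsg.Agent.Lib.BrauerReynolds.Involution

/-!
# Simple groups with a self-centralising Sylow subgroup of order `p` and few Sylow subgroups
-/

set_option autoImplicit false
set_option linter.style.haveILetI false

namespace CfsgLib.BrauerReynolds

universe u

/-- Brauer: such a group is `PSL(2, p)`, or `p = 2 ^ m + 1` and it is `PSL(2, 2 ^ m)`. -/
theorem concl_of_hyp {G : Type u} [Group G] [Finite G] {p : ℕ} [Fact p.Prime] (H : Hyp G p) :
    Concl G p := by
  letI : Fintype G := Fintype.ofFinite G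
  rcases dichotomy H with h | ⟨D, a, w, z, M⟩
  · exact h
  rcases Nat.eq_zero_or_pos a with ha | ha
  · subst ha
    obtain ⟨E⟩ := exists_evenData M
    exact E.concl
  · obtain ⟨F⟩ := nonempty_frob H
    obtain ⟨C⟩ := nonempty_counts M F
    exact C.concl ha

end CfsgLib.BrauerReynolds
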