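import Cfsg.Agent.Lib.BrauerReynolds.Degrees
import Cfsg.Agent.Lib.BrauerReynolds.Frob
import Cfsg.Agent.Lib.Char.Induced
import Cfsg.Agent.Lib.Char.Artin

/-!
# Multiplicities of the linear characters of the normalizer
-/

set_option autoImplicit false
set_option linter.unusedSectionVars false
set_option linter.style.haveILetI false

open scoped Classical

namespace CfsgLib.BrauerReynolds

open Cfsg
open scoped ComplexConjugate CfsgLib.Char
open CfsgLib

universe u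

variable {G : Type u} [Group G] [Fintype G] {p : ℕ} [Fact p.Prime] {H : Hyp G p}

namespace Frob

variable (F : Frob H)

/-- A linear character of `N` trivial on `P`. -/
noncomputable def lam (θ : IrrCharacter ↥F.E) : ↥H.N → ℂ := fun g => (θ : ↥F.E → ℂ) (F.r g)

theorem comm_E : ∀ a b : ↥F.E, a * b = b * a := by
  haveI := F.cyclic
  letI := IsCyclic.commGroup (α := ↥F.E)
  exact mul_comm

theorem theta_one (θ : IrrCharacter ↥F.E) : (θ : ↥F.E → ℂ) 1 = 1 :=
  Char.degree_one_of_comm F.comm_E θ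

theorem lam_isCharacter (θ : IrrCharacter ↥F.E) : IsCharacter ↥H.N (F.lam θ) :=
  Char.isCharacter_comp F.r (Char.isCharacter_of_isIrr θ.2)

theorem lam_irr (θ : IrrCharacter ↥F.E) : IsIrrCharacter ↥H.N (F.lam θ) :=
  Char.isIrrCharacter_of_degree_one (F.lam_isCharacter θ) (by rw [lam, map_one, F.theta_one])

theorem lam_injective {θ η : IrrCharacter ↥F.E} (h : F.lam θ = F.lam η) : θ = η :=
  Subtype.ext (funext fun τ => by
    have := congrFun h ⟨τ.1, F.E_le τ.2⟩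
    rwa [lam, lam, F.r_self τ.1 τ.2] at this)

/-- The multiplicity of a linear character in the restriction. -/
noncomputable def m (χ : IrrCharacter G) (θ : IrrCharacter ↥F.E) : ℕ :=
  (Char.exists_nat_classInner (Char.isCharacter_restrict H.N (Char.isCharacter_of_isIrr χ.2))
    (F.lam_isCharacter θ)).choose

theorem m_spec (χ : IrrCharacter G) (θ : IrrCharacter ↥F.E) :
    classInner (fun h : ↥H.N => (χ : G → ℂ) h) (F.lam θ) = (F.m χ θ : ℂ) :=
  (Char.exists_nat_classInner (Char.isCharacter_restrict H.N (Char.isCharacter_of_isIrr χ.2))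
    (F.lam_isCharacter θ)).choose_spec

/-- The induced character. -/
noncomputable def ind (θ : IrrCharacter ↥F.E) : G → ℂ := indFun H.N (F.lam θ)

theorem ind_eq (θ : IrrCharacter ↥F.E) :
    F.ind θ = ∑ χ : IrrCharacter G, (F.m χ θ : ℂ) • (χ : G → ℂ) := by
  refine (Char.classFunction_expansion (Char.isClassFunction_indFun H.N (F.lam θ))).trans ?_
  refine Finset.sum_congr rfl fun χ _ => ?_
  rw [Char.frobenius_reciprocity H.N _ (Char.isClassFunction_irr χ), ← Char.classInner_conj_symm,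
    F.m_spec, Complex.conj_natCast]

theorem ind_one (θ : IrrCharacter ↥F.E) : F.ind θ 1 = ((1 + H.n * p : ℕ) : ℂ) := by
  rw [ind, Char.indFun_one, lam, map_one, F.theta_one, mul_one, H.index_N]

theorem degree_sum (θ : IrrCharacter ↥F.E) :
    ∑ χ : IrrCharacter G, F.m χ θ * charDegree (χ : G → ℂ) = 1 + H.n * p := by
  have h := F.ind_one θ
  rw [F.ind_eq θ, Finset.sum_apply] at h
  simp only [Pi.smul_apply, smul_eq_mul, value_one] at h
  exact_mod_cast h

theorem inner_res_ind (θ η : IrrCharacter ↥F.E) :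
    classInner (fun g : ↥H.N => F.ind θ g) (F.lam η) =
      ∑ χ : IrrCharacter G, (F.m χ θ : ℂ) * (F.m χ η : ℂ) := by
  have h : (fun g : ↥H.N => F.ind θ g) =
      ∑ χ : IrrCharacter G, (F.m χ θ : ℂ) • (fun g : ↥H.N => (χ : G → ℂ) g) := by
    funext g
    rw [F.ind_eq θ, Finset.sum_apply, Finset.sum_apply]
    rfl
  rw [h, Char.classInner_sum_left]
  exact Finset.sum_congr rfl fun χ _ => by rw [Char.classInner_smul_left, F.m_spec]

/-- The fibres of the retraction. -/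
theorem card_fibre (τ : ↥F.E) :
    (Finset.univ.filter fun g : ↥H.N => F.r g = τ).card = p := by
  rw [← Fintype.card_subtype, ← Nat.card_eq_fintype_card]
  refine Eq.trans (Nat.card_congr ?_) H.card_P
  exact
    { toFun := fun g => ⟨(g.1 : G) * (τ : G)⁻¹, by
        have h := F.decomp g.1
        rwa [g.2] at h⟩
      invFun := fun x => ⟨⟨(x : G) * τ, mul_mem (H.P_le_N x.2) (F.E_le τ.2)⟩, by
        rw [show (⟨(x : G) * τ, mul_mem (H.P_le_N x.2) (F.E_le τ.2)⟩ : ↥H.N) =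
          ⟨x, H.P_le_N x.2⟩ * ⟨τ, F.E_le τ.2⟩ from rfl, map_mul, F.r_self _ τ.2,
          (F.r_eq_one _).mpr x.2, one_mul]⟩
      left_inv := fun g => by ext; simp
      right_inv := fun x => by ext; simp }

theorem sum_N (f : ↥H.N → ℂ)
    (hf : ∀ g : ↥H.N, (g : G) ∉ (H.P : Subgroup G) → f g = f ⟨(F.r g : G), F.E_le (F.r g).2⟩) :
    ∑ g, f g = ∑ g ∈ Finset.univ.filter (fun g : ↥H.N => (g : G) ∈ (H.P : Subgroup G)), f g +
      (p : ℂ) * ∑ τ ∈ Finset.univ.erase (1 : ↥F.E), f ⟨(τ : G), F.E_le τ.2⟩ := by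
  rw [← Finset.sum_fiberwise Finset.univ (fun g : ↥H.N => F.r g) f,
    ← Finset.add_sum_erase _ _ (Finset.mem_univ (1 : ↥F.E))]
  congr 1
  · refine Finset.sum_congr (Finset.ext fun g => ?_) fun _ _ => rfl
    simp [F.r_eq_one]
  · rw [Finset.mul_sum]
    refine Finset.sum_congr rfl fun τ hτ => ?_
    rw [Finset.sum_congr rfl (g := fun _ => f ⟨(τ : G), F.E_le τ.2⟩) fun g hg => by
      obtain ⟨-, hg⟩ := Finset.mem_filter.mp hg
      have hgP : (g : G) ∉ (H.P : Subgroup G) := fun h =>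
        Finset.ne_of_mem_erase hτ (hg.symm.trans ((F.r_eq_one g).mpr h))
      rw [hf g hgP]
      congr 2
      rw [hg],
      Finset.sum_const, F.card_fibre, nsmul_eq_mul]

theorem sum_P (f : G → ℂ) {δ : ℂ} (h : ∀ v ∈ (H.P : Subgroup G), v ≠ 1 → f v = δ) :
    ∑ g ∈ Finset.univ.filter (fun g : ↥H.N => (g : G) ∈ (H.P : Subgroup G)), f g =
      f 1 + ((p : ℂ) - 1) * δ := by
  have hmem : (1 : ↥H.N) ∈ Finset.univ.filter (fun g : ↥H.N => (g : G) ∈ (H.P : Subgroup G)) :=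
    Finset.mem_filter.mpr ⟨Finset.mem_univ _, one_mem _⟩
  rw [← Finset.add_sum_erase _ _ hmem, Finset.sum_congr rfl (g := fun _ => δ) fun g hg => by
    obtain ⟨h1, h2⟩ := Finset.mem_erase.mp hg
    exact h g (Finset.mem_filter.mp h2).2 fun e => h1 (Subtype.ext e)]
  rw [Finset.sum_const, Finset.card_erase_of_mem hmem, ← Fintype.card_subtype, nsmul_eq_mul,
    ← Nat.card_eq_fintype_card, Nat.card_congr (Equiv.subtypeSubtypeEquivSubtype (p := (· ∈ H.N))
      (q := (· ∈ (H.P : Subgroup G))) fun {x} hx => H.P_le_N hx),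
    show Nat.card {x : G // x ∈ (H.P : Subgroup G)} = p from H.card_P,
    Nat.cast_sub (Fact.out : p.Prime).one_lt.le, Nat.cast_one]
  rfl

theorem sum_theta (τ : ↥F.E) :
    ∑ θ : IrrCharacter ↥F.E, (θ : ↥F.E → ℂ) τ = if τ = 1 then (H.e : ℂ) else 0 := by
  have h := Char.sum_degree_mul_irr τ
  simp only [F.theta_one, one_mul, F.card_E] at h
  convert h using 2

/-- The total multiplicity. -/
theorem sum_m (χ : IrrCharacter G) {δ : ℂ}
    (h : ∀ v ∈ (H.P : Subgroup G), v ≠ 1 → (χ : G → ℂ) v = δ) :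
    ((∑ θ : IrrCharacter ↥F.E, F.m χ θ : ℕ) : ℂ) * p =
      (charDegree (χ : G → ℂ) : ℂ) + ((p : ℂ) - 1) * δ := by
  push_cast
  rw [← value_one χ, ← sum_P (H := H) (χ : G → ℂ) h]
  simp only [← F.m_spec, classInner, ← Finset.mul_sum]
  rw [Finset.sum_comm, Finset.sum_congr rfl (g := fun g : ↥H.N =>
    (χ : G → ℂ) g * (if F.r g = 1 then (H.e : ℂ) else 0)) fun g _ => by
      rw [← Finset.mul_sum, ← map_sum]
      congr 1
      rw [show (∑ θ : IrrCharacter ↥F.E, F.lam θ g) = _ from F.sum_theta (F.r g)]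
      split_ifs <;> simp]
  simp only [mul_ite, mul_zero, ← Finset.sum_filter, F.r_eq_one, ← Finset.sum_mul, H.card_N]
  have he : (H.e : ℂ) ≠ 0 := Nat.cast_ne_zero.mpr (by have := H.two_le_e; omega)
  have hp : (p : ℂ) ≠ 0 := Nat.cast_ne_zero.mpr (Fact.out : p.Prime).ne_zero
  push_cast
  field_simp

end Frob

/-- What the counting of multiplicities gives in the main case. -/
structure Counts {D : Data H} {a w z : ℕ} (M : Main D a w z) (F : Frob H) where
  W : Finset (IrrCharacter ↥F.E)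
  triv_notMem : Blocks.trivIrr ↥F.E ∉ W
  card_W : W.card = w
  orth : ∀ θ, θ ≠ Blocks.trivIrr ↥F.E → ∀ χ : IrrCharacter G,
    F.m χ (Blocks.trivIrr ↥F.E) * F.m χ θ = 0
  norm_out : ∀ θ, θ ≠ Blocks.trivIrr ↥F.E → θ ∉ W → ∑ χ : IrrCharacter G, F.m χ θ * F.m χ θ = 1
  norm_in : ∀ θ ∈ W, D.t ≤ ∑ χ : IrrCharacter G, F.m χ θ * F.m χ θ

theorem nonempty_counts {D : Data H} {a w z : ℕ} (M : Main D a w z) (F : Frob H) :
    Nonempty (Counts M F) := by
  have hp : p.Prime := Fact.out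
  have het := D.het
  have hp1 : 1 < p := hp.one_lt
  set T := Blocks.trivIrr G with hT
  set θ₁ := Blocks.trivIrr ↥F.E with hθ₁
  set S := D.X.filter fun χ => χ ≠ T ∧ D.δ χ = 1 with hS
  set Θ := Finset.univ.erase θ₁ with hΘ
  have hcardΘ : Θ.card + 1 = H.e := by
    have h1 : Fintype.card (IrrCharacter ↥F.E) = H.e := by
      have := Char.sum_sq_degree (G := ↥F.E)
      simp only [F.theta_one, one_pow, Finset.sum_const, Finset.card_univ, nsmul_eq_mul, mul_one,
        F.card_E, Nat.cast_inj] at this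
      exact this
    rw [hΘ, Finset.card_erase_of_mem (Finset.mem_univ _), Finset.card_univ, h1]
    have := H.two_le_e
    omega
  have hm0 : ∀ θ, θ ≠ θ₁ → F.m T θ = 0 := by
    intro θ hθ
    have hne : F.lam θ₁ ≠ F.lam θ := fun h => hθ (F.lam_injective h).symm
    have h := F.m_spec T θ
    rw [show (fun g : ↥H.N => (T : G → ℂ) g) = F.lam θ₁ from rfl,
      Char.classInner_irr_ne (F.lam_irr _) (F.lam_irr _) hne] at h
    exact_mod_cast h.symm
  have hneg : ∀ χ ∈ D.X, D.δ χ = -1 → ∀ θ, F.m χ θ = 0 := by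
    intro χ hχ hδ θ
    obtain ⟨hd, -⟩ := D.neg_degree hχ hδ
    have h := F.sum_m χ (δ := ((-1 : ℤ) : ℂ)) fun v hv hv1 => by rw [D.val χ hχ v hv hv1, hδ]
    have hd' : (charDegree (χ : G → ℂ) : ℂ) + 1 = (p : ℂ) := by exact_mod_cast hd
    have h0 : ((∑ θ : IrrCharacter ↥F.E, F.m χ θ : ℕ) : ℂ) * p = ((0 : ℕ) : ℂ) * p := by
      rw [h]; push_cast; linear_combination hd'
    have := Nat.cast_injective (mul_right_cancel₀ (Nat.cast_ne_zero.mpr hp.ne_zero) h0)
    exact Finset.sum_eq_zero_iff.mp this θ (Finset.mem_univ _)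
  have hpos : ∀ χ ∈ S, ∑ θ : IrrCharacter ↥F.E, F.m χ θ = H.n + 1 ∧
      charDegree (χ : G → ℂ) = H.n * p + 1 := by
    intro χ hχ
    rw [hS, Finset.mem_filter] at hχ
    have hd := D.pos_degree hχ.1 hχ.2.1 hχ.2.2
    refine ⟨?_, hd⟩
    have h := F.sum_m χ (δ := (1 : ℂ)) fun v hv hv1 => by
      rw [D.val χ hχ.1 v hv hv1, hχ.2.2]; norm_num
    have h0 : ((∑ θ : IrrCharacter ↥F.E, F.m χ θ : ℕ) : ℂ) * p = ((H.n + 1 : ℕ) : ℂ) * p := by
      rw [h, hd]; push_cast; ring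
    exact Nat.cast_injective (mul_right_cancel₀ (Nat.cast_ne_zero.mpr hp.ne_zero) h0)
  have hYsum : ∑ ψ ∈ D.Y, ∑ θ : IrrCharacter ↥F.E, F.m ψ θ = w * D.t := by
    obtain ⟨v, hv, hv1⟩ := H.exists_mem_ne_one
    have key : ((∑ ψ ∈ D.Y, ∑ θ : IrrCharacter ↥F.E, F.m ψ θ : ℕ) : ℂ) * p = ((w * D.t : ℕ) : ℂ) * p := by
      have hq : ∀ ψ : IrrCharacter G, ((∑ θ : IrrCharacter ↥F.E, F.m ψ θ : ℕ) : ℂ) * p =
          ∑ g ∈ Finset.univ.filter (fun g : ↥H.N => (g : G) ∈ (H.P : Subgroup G)), (ψ : G → ℂ) g := by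
        intro ψ
        push_cast
        simp only [← F.m_spec, classInner, ← Finset.mul_sum]
        rw [Finset.sum_comm, Finset.sum_congr rfl (g := fun g : ↥H.N =>
          (ψ : G → ℂ) g * (if F.r g = 1 then (H.e : ℂ) else 0)) fun g _ => by
            rw [← Finset.mul_sum, ← map_sum]
            congr 1
            rw [show (∑ θ : IrrCharacter ↥F.E, F.lam θ g) = _ from F.sum_theta (F.r g)]
            split_ifs <;> simp]
        simp only [mul_ite, mul_zero, ← Finset.sum_filter, F.r_eq_one, ← Finset.sum_mul, H.card_N]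
        have he : (H.e : ℂ) ≠ 0 := Nat.cast_ne_zero.mpr (by have := H.two_le_e; omega)
        have hp' : (p : ℂ) ≠ 0 := Nat.cast_ne_zero.mpr hp.ne_zero
        push_cast
        field_simp
      rw [Nat.cast_sum, Finset.sum_mul, Finset.sum_congr rfl fun ψ _ => hq ψ, Finset.sum_comm,
        Frob.sum_P (H := H) (fun g => ∑ ψ ∈ D.Y, (ψ : G → ℂ) g) (δ := (1 : ℂ)) (fun u hu hu1 => by
          rw [D.sum_Y hu hu1, M.eps]; norm_num),
        Finset.sum_congr rfl (g := fun _ => (z : ℂ)) fun ψ hψ => by rw [value_one, M.degY ψ hψ],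
        Finset.sum_const, D.card_Y, nsmul_eq_mul]
      have h1 : (z : ℂ) + H.e = (w : ℂ) * p := by exact_mod_cast M.hz
      have h2 : (H.e : ℂ) * D.t + 1 = p := by exact_mod_cast het
      push_cast
      linear_combination (D.t : ℂ) * h1 - h2
    exact Nat.cast_injective (mul_right_cancel₀ (Nat.cast_ne_zero.mpr hp.ne_zero) key)
  -- the total degree
  set R := (D.X ∪ D.Y)ᶜ with hR
  have hdeg : ∀ θ, θ ≠ θ₁ → (H.n * p + 1) * (∑ χ ∈ S, F.m χ θ) + (∑ ψ ∈ D.Y, F.m ψ θ) * z +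
      ∑ χ ∈ R, F.m χ θ * charDegree (χ : G → ℂ) = 1 + H.n * p := by
    intro θ hθ
    rw [← F.degree_sum θ, ← Finset.sum_add_sum_compl (D.X ∪ D.Y), Finset.sum_union D.disj, ← hR]
    congr 1
    congr 1
    · rw [Finset.mul_sum, ← Finset.sum_subset (Finset.filter_subset (fun χ => χ ≠ T ∧ D.δ χ = 1) D.X) ?_]
      · exact Finset.sum_congr rfl fun χ hχ => by rw [(hpos χ hχ).2, mul_comm]
      · intro χ hχ hn
        rw [Finset.mem_filter, not_and] at hn
        by_cases h1 : χ = T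
        · rw [h1, hm0 θ hθ, zero_mul]
        rcases D.hδ χ hχ with h | h
        · exact absurd ⟨h1, h⟩ (hn hχ)
        · rw [hneg χ hχ h θ, zero_mul]
    · rw [Finset.sum_mul]
      exact Finset.sum_congr rfl fun ψ hψ => by rw [M.degY ψ hψ]
  have hRdvd : ∀ θ, p ∣ ∑ χ ∈ R, F.m χ θ * charDegree (χ : G → ℂ) := fun θ =>
    Finset.dvd_sum fun χ hχ => by
      rw [hR, Finset.mem_compl, Finset.mem_union, not_or] at hχ
      exact Dvd.dvd.mul_left (D.out χ hχ.1 hχ.2).1 _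
  set W := Θ.filter fun θ => ∑ χ ∈ S, F.m χ θ = 0 with hW
  have hz : z * D.t = 1 + H.n * p := by
    have h1 : (z : ℤ) + H.e = w * p := by exact_mod_cast M.hz
    have h2 : (H.e : ℤ) * D.t + 1 = p := by exact_mod_cast het
    have h3 : (H.n : ℤ) + 1 = w * D.t := by exact_mod_cast M.hn
    have : ((z * D.t : ℕ) : ℤ) = ((1 + H.n * p : ℕ) : ℤ) := by
      push_cast
      linear_combination (D.t : ℤ) * h1 - (p : ℤ) * h3 - h2
    exact_mod_cast this
  have hWm : ∀ θ ∈ W, ∑ ψ ∈ D.Y, F.m ψ θ = D.t ∧ ∀ χ ∈ R, F.m χ θ = 0 := by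
    intro θ hθ
    rw [hW, Finset.mem_filter, hΘ, Finset.mem_erase] at hθ
    have h := hdeg θ hθ.1.1
    rw [hθ.2, mul_zero, zero_add] at h
    set Mθ := ∑ ψ ∈ D.Y, F.m ψ θ with hMθ
    obtain ⟨r, hr⟩ := hRdvd θ
    rw [hr] at h
    have hge : D.t ≤ Mθ := by
      have hmod : (p : ℤ) ∣ (Mθ : ℤ) - D.t := by
        have h1 : (z : ℤ) + H.e = w * p := by exact_mod_cast M.hz
        have h2 : (H.e : ℤ) * D.t + 1 = p := by exact_mod_cast het
        have h' : (Mθ : ℤ) * z + p * r = 1 + H.n * p := by exact_mod_cast h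
        exact ⟨(Mθ : ℤ) + (D.t : ℤ) * H.n - D.t * r - (D.t : ℤ) * Mθ * w, by
          linear_combination (Mθ : ℤ) * h2 + (D.t : ℤ) * h' - (D.t : ℤ) * Mθ * h1⟩
      by_contra hlt
      have h0 := Int.eq_zero_of_dvd_of_natAbs_lt_natAbs hmod (by
        have h2t : D.t < p := by
          have := Nat.le_mul_of_pos_left D.t (show 0 < H.e by have := H.two_le_e; omega)
          omega
        omega)
      omega
    have h4 : D.t * z ≤ Mθ * z := Nat.mul_le_mul_right z hge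
    have h5 : D.t * z = 1 + H.n * p := by rw [mul_comm]; exact hz
    have h6 : Mθ * z = D.t * z ∧ p * r = 0 := by omega
    have hz0 : 0 < z := by
      rcases Nat.eq_zero_or_pos z with h0 | h0
      · subst h0; rw [mul_zero] at h5; omega
      · exact h0
    refine ⟨Nat.eq_of_mul_eq_mul_right hz0 h6.1, fun χ hχ => ?_⟩
    have := Finset.sum_eq_zero_iff.mp (hr.trans h6.2) χ hχ
    rcases Nat.mul_eq_zero.mp this with h' | h'
    · exact h'
    · exact absurd h' (Blocks.irr_degree_eq χ).2.ne'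
  have hnonW : ∀ θ ∈ Θ, θ ∉ W → ∑ χ ∈ S, F.m χ θ = 1 ∧ ∑ ψ ∈ D.Y, F.m ψ θ * z = 0 ∧
      ∀ χ ∈ R, F.m χ θ = 0 := by
    intro θ hθ hn
    rw [hW, Finset.mem_filter, not_and] at hn
    have h := hdeg θ (Finset.ne_of_mem_erase hθ)
    have h1 : ∑ χ ∈ S, F.m χ θ = 1 := by
      have := hn hθ
      by_contra h'
      have : (H.n * p + 1) * 2 ≤ (H.n * p + 1) * (∑ χ ∈ S, F.m χ θ) :=
        Nat.mul_le_mul_left _ (by omega)
      omega
    rw [h1, mul_one] at h
    refine ⟨h1, by rw [← Finset.sum_mul]; omega, fun χ hχ => ?_⟩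
    have h0 : ∑ χ ∈ R, F.m χ θ * charDegree (χ : G → ℂ) = 0 := by omega
    rcases Nat.mul_eq_zero.mp (Finset.sum_eq_zero_iff.mp h0 χ hχ) with h' | h'
    · exact h'
    · exact absurd h' (Blocks.irr_degree_eq χ).2.ne'
  -- counting
  have hSA : S.card = a := by convert M.count
  have hStot : ∑ θ ∈ Θ, ∑ χ ∈ S, F.m χ θ + ∑ χ ∈ S, F.m χ θ₁ = a * (H.n + 1) := by
    rw [← hSA, hΘ, Finset.sum_erase_add _ _ (Finset.mem_univ θ₁), Finset.sum_comm,
      Finset.sum_congr rfl fun χ hχ => (hpos χ hχ).1, Finset.sum_const, smul_eq_mul]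
  have hnW : (Θ.filter fun θ => ¬ ∑ χ ∈ S, F.m χ θ = 0).card ≤ ∑ θ ∈ Θ, ∑ χ ∈ S, F.m χ θ := by
    rw [Finset.card_filter]
    exact Finset.sum_le_sum fun θ _ => by split_ifs <;> omega
  have hcardW : W.card + (Θ.filter fun θ => ¬ ∑ χ ∈ S, F.m χ θ = 0).card = Θ.card :=
    Finset.card_filter_add_card_filter_not _
  have hYW : W.card * D.t + ∑ ψ ∈ D.Y, F.m ψ θ₁ ≤ w * D.t := by
    rw [← hYsum, Finset.sum_comm (s := D.Y), ← Finset.sum_const_nat (fun θ hθ => (hWm θ hθ).1)]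
    rw [← Finset.sum_insert (f := fun θ => ∑ ψ ∈ D.Y, F.m ψ θ) (s := W) (a := θ₁) (fun h => by
      rw [hW, hΘ, Finset.mem_filter, Finset.mem_erase] at h; exact h.1.1 rfl) |>.trans (add_comm _ _)]
    exact Finset.sum_le_sum_of_subset (Finset.subset_univ _)
  have he' := M.he
  have ht := D.t_pos
  have hWw : W.card = w := by
    have : W.card ≤ w := Nat.le_of_mul_le_mul_right (le_trans (Nat.le_add_right _ _) hYW) ht
    omega
  have hS0 : ∑ χ ∈ S, F.m χ θ₁ = 0 := by omega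
  have hY0 : ∑ ψ ∈ D.Y, F.m ψ θ₁ = 0 := by rw [hWw] at hYW; omega
  have hzero : ∀ θ ∈ Θ, ∀ χ : IrrCharacter G, F.m χ θ ≠ 0 → χ ∈ S ∨ χ ∈ D.Y := by
    intro θ hθ χ hχ
    have hθ1 := Finset.ne_of_mem_erase hθ
    by_cases hY : χ ∈ D.Y
    · exact Or.inr hY
    by_cases hX : χ ∈ D.X
    · refine Or.inl (Finset.mem_filter.mpr ⟨hX, fun h => hχ (h ▸ hm0 θ hθ1), ?_⟩)
      exact (D.hδ χ hX).resolve_right fun h => hχ (hneg χ hX h θ)
    refine absurd ?_ hχ
    have hχR : χ ∈ R := by rw [hR, Finset.mem_compl, Finset.mem_union]; simp [hX, hY]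
    by_cases hWθ : θ ∈ W
    · exact (hWm θ hWθ).2 χ hχR
    · exact (hnonW θ hθ hWθ).2.2 χ hχR
  refine ⟨⟨W, fun h => ?_, hWw, fun θ hθ χ => ?_, fun θ hθ hn => ?_, fun θ hθ => ?_⟩⟩
  · rw [hW, hΘ, Finset.mem_filter, Finset.mem_erase] at h
    exact h.1.1 rfl
  · by_cases h : F.m χ θ = 0
    · rw [h, mul_zero]
    have hθΘ : θ ∈ Θ := Finset.mem_erase.mpr ⟨hθ, Finset.mem_univ _⟩
    rcases hzero θ hθΘ χ h with hc | hc
    · rw [Finset.sum_eq_zero_iff.mp hS0 χ hc, zero_mul]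
    · rw [Finset.sum_eq_zero_iff.mp hY0 χ hc, zero_mul]
  · have hθΘ : θ ∈ Θ := Finset.mem_erase.mpr ⟨hθ, Finset.mem_univ _⟩
    obtain ⟨h1, h2, -⟩ := hnonW θ hθΘ hn
    rw [← Finset.sum_subset (Finset.subset_univ S) fun χ _ hχ => ?_]
    · refine Eq.trans (Finset.sum_congr rfl fun χ hχ => ?_) h1
      have : F.m χ θ ≤ 1 := h1 ▸ Finset.single_le_sum (f := fun χ => F.m χ θ) (fun _ _ => Nat.zero_le _) hχ
      interval_cases F.m χ θ <;> rfl
    · by_contra h
      have h' : F.m χ θ ≠ 0 := fun e => h (by simp [e])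
      rcases hzero θ hθΘ χ h' with hc | hc
      · exact hχ hc
      · have := Finset.sum_eq_zero_iff.mp h2 χ hc
        have hz0 : 0 < z := by
          rw [← M.degY χ hc]; exact (Blocks.irr_degree_eq χ).2
        exact h' ((Nat.mul_eq_zero.mp this).resolve_right hz0.ne')
  · rw [← (hWm θ hθ).1]
    refine le_trans (Finset.sum_le_sum fun χ _ => Nat.le_mul_self _) ?_
    exact Finset.sum_le_sum_of_subset (Finset.subset_univ _)

end CfsgLib.BrauerReynolds
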