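import Cfsg.Agent.Lib.BrauerReynolds.SmallOrder

/-!
# Perfect groups with a self-centralising Sylow subgroup of order `p` and few Sylow subgroups
-/

set_option autoImplicit false
set_option linter.unusedSectionVars false
set_option linter.style.haveILetI false

open scoped Classical

namespace CfsgLib.BrauerReynolds

open CfsgLib

universe u

variable {G : Type u} [Group G] [Finite G] {p : ℕ} [Fact p.Prime]

/-- A perfect group is covered modulo `K` by no subgroup with commutators in `K`. -/
theorem eq_top_of_commutators (hperf : commutator G = ⊤) {K N : Subgroup G} [K.Normal]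
    (hsup : K ⊔ N = ⊤) (h : ∀ x ∈ N, ∀ y ∈ N, x * y * x⁻¹ * y⁻¹ ∈ K) : K = ⊤ := by
  have hc : ∀ a b : G ⧸ K, a * b = b * a := by
    intro a b
    obtain ⟨a, rfl⟩ := QuotientGroup.mk_surjective a
    obtain ⟨b, rfl⟩ := QuotientGroup.mk_surjective b
    have hrep : ∀ g : G, ∃ x ∈ N, (g : G ⧸ K) = (x : G ⧸ K) := fun g => by
      have hg : g ∈ (↑(K ⊔ N) : Set G) := by rw [hsup]; exact Set.mem_univ g
      rw [Subgroup.normal_mul] at hg
      obtain ⟨k, hk, x, hx, rfl⟩ := Set.mem_mul.mp hg
      exact ⟨x, hx, by rw [QuotientGroup.mk_mul, (QuotientGroup.eq_one_iff k).mpr hk, one_mul]⟩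
    obtain ⟨x, hx, ea⟩ := hrep a
    obtain ⟨y, hy, eb⟩ := hrep b
    have hq := (QuotientGroup.eq_one_iff _).mpr (h x hx y hy)
    rw [ea, eb]
    simp only [QuotientGroup.mk_mul, QuotientGroup.mk_inv] at hq
    exact commutatorElement_eq_one_iff_mul_comm.mp hq
  have hle : commutator G ≤ K := Subgroup.Normal.quotient_commutative_iff_commutator_le.mp ⟨⟨hc⟩⟩
  exact top_le_iff.mp (hperf ▸ hle)

/-- The commutators of the normalizer of a self-centralising `P` lie in `P`. -/
theorem commutator_mem_of_normalizer (P : Sylow p G) (hP : Nat.card (P : Subgroup G) = p)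
    (hC : Subgroup.centralizer ((P : Subgroup G) : Set G) = (P : Subgroup G)) {x y : G}
    (hx : x ∈ Subgroup.normalizer ((P : Subgroup G) : Set G))
    (hy : y ∈ Subgroup.normalizer ((P : Subgroup G) : Set G)) :
    x * y * x⁻¹ * y⁻¹ ∈ (P : Subgroup G) := by
  haveI : IsCyclic (P : Subgroup G) := isCyclic_of_prime_card hP
  haveI : IsCyclic (MulAut (P : Subgroup G)) := by
    haveI : IsCyclic (ZMod (Nat.card (P : Subgroup G)))ˣ := by
      rw [hP]; exact ZMod.isCyclic_units_prime Fact.out
    exact isCyclic_of_injective (IsCyclic.mulAutMulEquiv (P : Subgroup G)).toMonoidHom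
      (IsCyclic.mulAutMulEquiv (P : Subgroup G)).injective
  letI := IsCyclic.commGroup (α := MulAut (P : Subgroup G))
  have hk : (⟨x, hx⟩ * ⟨y, hy⟩ * ⟨x, hx⟩⁻¹ * ⟨y, hy⟩⁻¹ :
      ↥(Subgroup.normalizer ((P : Subgroup G) : Set G))) ∈
      (P : Subgroup G).normalizerMonoidHom.ker := by
    rw [MonoidHom.mem_ker, map_mul, map_mul, map_mul, map_inv, map_inv, mul_inv_cancel_comm,
      mul_inv_cancel]
  rw [Subgroup.normalizerMonoidHom_ker, Subgroup.mem_subgroupOf] at hk
  rwa [hC] at hk

theorem simple_of_perfect (hperf : commutator G = ⊤) (P : Sylow p G)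
    (hP : Nat.card (P : Subgroup G) = p)
    (hC : Subgroup.centralizer ((P : Subgroup G) : Set G) = (P : Subgroup G)) {n : ℕ}
    (hn : Nat.card (Sylow p G) = 1 + n * p) (hn2 : 2 * n ≤ p + 2) : IsSimpleGroup G := by
  have hp : p.Prime := Fact.out
  haveI : Nontrivial G := by
    obtain ⟨x, hx⟩ := exists_prime_orderOf_dvd_card' p (show p ∣ Nat.card (P : Subgroup G) by rw [hP])
    exact ⟨⟨(x : G), 1, fun h => by
      rw [show x = 1 from Subtype.ext h, orderOf_one] at hx
      exact hp.one_lt.ne hx⟩⟩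
  refine ⟨fun K hK => ?_⟩
  set N := Subgroup.normalizer ((P : Subgroup G) : Set G) with hN
  by_cases hpK : p ∣ Nat.card K
  · right
    obtain ⟨x, hx⟩ := exists_prime_orderOf_dvd_card' p hpK
    have hxo : orderOf (x : G) = p := (Subgroup.orderOf_coe x).trans hx
    obtain ⟨Q, hQ⟩ := (IsPGroup.of_card (p := p) (n := 1)
      (show Nat.card (Subgroup.zpowers (x : G)) = p ^ 1 by
        rw [Nat.card_zpowers, hxo, pow_one])).exists_le_sylow
    obtain ⟨c, hc⟩ := MulAction.exists_smul_eq G Q P
    have hcard : ∀ R : Sylow p G, Nat.card (R : Subgroup G) = p := fun R => by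
      rw [Sylow.card_eq_multiplicity, ← Sylow.card_eq_multiplicity P, hP]
    have hQK : (Q : Subgroup G) ≤ K := by
      have : Subgroup.zpowers (x : G) = (Q : Subgroup G) :=
        Subgroup.eq_of_le_of_card_ge hQ (by rw [hcard, Nat.card_zpowers, hxo])
      rw [← this]
      exact Subgroup.zpowers_le.mpr x.2
    have hPK : (P : Subgroup G) ≤ K := by
      rw [← hc, Sylow.coe_subgroup_smul]
      rintro y ⟨q, hq, rfl⟩
      exact hK.conj_mem q (hQK hq) c
    haveI := hK
    exact eq_top_of_commutators hperf (N := N) (by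
      rw [sup_comm]; exact Sylow.normalizer_sup_eq_top' P hPK)
      fun x hx y hy => hPK (commutator_mem_of_normalizer P hP hC hx hy)
  left
  by_contra hbot
  haveI := hK
  have hPC : (P : Subgroup G) ≤ Subgroup.centralizer ((P : Subgroup G) : Set G) := hC.ge
  have hcop : ∀ x, x ∈ K → x ∈ (P : Subgroup G) → x = 1 := by
    intro x hx hxP
    have h1 : orderOf x ∣ Nat.card K := Subgroup.orderOf_mk x hx ▸ orderOf_dvd_natCard (⟨x, hx⟩ : K)
    have h2 : orderOf x ∣ p := by
      rw [← hP]; exact Subgroup.orderOf_mk x hxP ▸ orderOf_dvd_natCard (⟨x, hxP⟩ : (P : Subgroup G))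
    rcases (Nat.dvd_prime hp).mp h2 with h | h
    · exact orderOf_eq_one_iff.mp h
    · exact absurd (h ▸ h1) hpK
  have hKN : ∀ x, x ∈ K → x ∈ N → x = 1 := by
    intro x hx hxN
    refine hcop x hx (hC.le (Subgroup.mem_centralizer_iff.mpr fun v hv => ?_))
    have h1 : x * v * x⁻¹ * v⁻¹ ∈ (P : Subgroup G) :=
      mul_mem ((Subgroup.mem_normalizer_iff.mp hxN v).mp hv) (inv_mem hv)
    have h2 : x * v * x⁻¹ * v⁻¹ ∈ K := by
      rw [show x * v * x⁻¹ * v⁻¹ = x * (v * x⁻¹ * v⁻¹) by group]
      exact mul_mem hx (hK.conj_mem _ (inv_mem hx) v)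
    exact (mul_inv_eq_iff_eq_mul.mp (mul_inv_eq_one.mp (hcop _ h2 h1))).symm
  -- `|K| ≡ 1` modulo `p`
  let act : MulAction ↥(P : Subgroup G) ↥K :=
    { smul := fun v x => ⟨(v : G) * x * (v : G)⁻¹, hK.conj_mem x x.2 _⟩
      one_smul := fun x => by ext; show ((1 : ↥(P : Subgroup G)) : G) * x * _ = x; simp
      mul_smul := fun v v' x => by
        ext
        show ((v * v' : ↥(P : Subgroup G)) : G) * x * _ = (v : G) * ((v' : G) * x * (v' : G)⁻¹) * (v : G)⁻¹
        simp [mul_assoc] }
  letI := act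
  have hPg : IsPGroup p ↥(P : Subgroup G) := P.2
  have hfix : Nat.card (MulAction.fixedPoints ↥(P : Subgroup G) ↥K) = 1 := by
    rw [Nat.card_eq_one_iff_unique]
    refine ⟨⟨fun a b => ?_⟩, ⟨⟨1, fun v => Subtype.ext (by
      show (v : G) * 1 * (v : G)⁻¹ = 1
      simp)⟩⟩⟩
    have key : ∀ a : MulAction.fixedPoints ↥(P : Subgroup G) ↥K, (a.1 : G) = 1 := fun a =>
      hKN _ a.1.2 (Subgroup.centralizer_le_normalizer _ (Subgroup.mem_centralizer_iff.mpr fun v hv => by
        have := congrArg Subtype.val (a.2 (⟨v, hv⟩ : ↥(P : Subgroup G)))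
        exact mul_inv_eq_iff_eq_mul.mp this))
    exact Subtype.ext (Subtype.ext ((key a).trans (key b).symm))
  have hKmod := hPg.card_modEq_card_fixedPoints ↥K
  rw [hfix] at hKmod
  have hKcard : p + 1 ≤ Nat.card K := by
    have h1 : 1 < Nat.card K := by
      rw [Finite.one_lt_card_iff_nontrivial]
      exact (Subgroup.nontrivial_iff_ne_bot K).mpr hbot
    rw [Nat.ModEq, Nat.one_mod_eq_one.mpr hp.one_lt.ne'] at hKmod
    have := Nat.div_add_mod (Nat.card K) p
    rcases Nat.eq_zero_or_pos (Nat.card K / p) with h | h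
    · rw [h, mul_zero] at this; omega
    · have := Nat.le_mul_of_pos_right p h
      omega
  have hKN' : Nat.card ↥(K ⊔ N) = Nat.card K * Nat.card N := by
    have h := (K.subgroupOf (K ⊔ N)).card_mul_index
    rw [Nat.card_congr (Subgroup.subgroupOfEquivOfLe le_sup_left).toEquiv] at h
    rw [← h]
    congr 1
    show K.relIndex (K ⊔ N) = _
    rw [Subgroup.relIndex_sup_left, Subgroup.relIndex, show K.subgroupOf N = ⊥ from ?_, Subgroup.index_bot]
    rw [eq_bot_iff]
    exact fun x hx => Subgroup.mem_bot.mpr (Subtype.ext (hKN x.1 hx x.2))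
  have hidx : N.index = Nat.card K * (K ⊔ N).index := by
    refine Nat.eq_of_mul_eq_mul_left (Nat.card_pos (α := N)) ?_
    rw [N.card_mul_index, ← (K ⊔ N).card_mul_index, hKN']
    ring
  have hnp : N.index = 1 + n * p := by
    rw [← hn, Sylow.card_eq_index_normalizer P]; rfl
  have hmod : (K ⊔ N).index % p = 1 := by
    have h1 : (Nat.card K * (K ⊔ N).index) % p = 1 % p := by
      rw [← hidx, hnp, Nat.add_mul_mod_self_right]
    rw [Nat.ModEq] at hKmod
    rw [Nat.mul_mod, hKmod, ← Nat.mul_mod, one_mul, Nat.one_mod_eq_one.mpr hp.one_lt.ne'] at h1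
    exact h1
  rcases Nat.eq_zero_or_pos ((K ⊔ N).index / p) with h0 | h0
  · have hi : (K ⊔ N).index = 1 := by
      have := Nat.div_add_mod (K ⊔ N).index p
      rw [h0, mul_zero, hmod] at this
      omega
    have hsup : K ⊔ N = ⊤ := Subgroup.index_eq_one.mp hi
    set L := K ⊔ (P : Subgroup G) with hL
    haveI : L.Normal := by
      rw [← Subgroup.normalizer_eq_top_iff, eq_top_iff, ← hsup, sup_le_iff]
      refine ⟨le_sup_left.trans Subgroup.le_normalizer, fun m hm => Subgroup.mem_normalizer_fintype fun z hz => ?_⟩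
      change z ∈ L at hz
      show m * z * m⁻¹ ∈ L
      have hz' : z ∈ (↑(K ⊔ (P : Subgroup G)) : Set G) := hz
      rw [Subgroup.normal_mul] at hz'
      obtain ⟨k, hk, v, hv, rfl⟩ := Set.mem_mul.mp hz'
      rw [show m * (k * v) * m⁻¹ = (m * k * m⁻¹) * (m * v * m⁻¹) by group]
      exact mul_mem (Subgroup.mem_sup_left (hK.conj_mem k hk m))
        (Subgroup.mem_sup_right ((Subgroup.mem_normalizer_iff.mp hm v).mp hv))
    have hLtop : L = ⊤ := eq_top_of_commutators hperf (N := N)
      (top_le_iff.mp (hsup ▸ sup_le_sup le_sup_left le_rfl))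
      fun x hx y hy => Subgroup.mem_sup_right (commutator_mem_of_normalizer P hP hC hx hy)
    have hKtop : K = ⊤ := eq_top_of_commutators hperf (N := (P : Subgroup G)) hLtop fun x hx y hy => by
      have : y * x = x * y := Subgroup.mem_centralizer_iff.mp (hPC hx) y hy
      rw [← this, mul_inv_cancel_right, mul_inv_cancel]
      exact one_mem _
    exact hpK (by rw [hKtop, Subgroup.card_top, ← (P : Subgroup G).card_mul_index, hP]; exact dvd_mul_right p _)
  · have h1 : p + 1 ≤ (K ⊔ N).index := by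
      have := Nat.div_add_mod (K ⊔ N).index p
      have := Nat.le_mul_of_pos_right p h0
      omega
    have h2 : (p + 1) * (p + 1) ≤ Nat.card K * (K ⊔ N).index := Nat.mul_le_mul hKcard h1
    rw [← hidx, hnp] at h2
    have h3 : 2 * n * p ≤ (p + 2) * p := Nat.mul_le_mul_right p hn2
    have h4 : (p + 2) * p = p * p + 2 * p := by ring
    have h5 : (p + 1) * (p + 1) = p * p + 2 * p + 1 := by ring
    have h6 : 2 * n * p = 2 * (n * p) := by ring
    have h7 : 0 < p * p := Nat.mul_pos hp.pos hp.pos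
    omega

theorem concl_of_perfect (hperf : commutator G = ⊤) (P : Sylow p G)
    (hP : Nat.card (P : Subgroup G) = p)
    (hC : Subgroup.centralizer ((P : Subgroup G) : Set G) = (P : Subgroup G)) {n : ℕ}
    (hn : Nat.card (Sylow p G) = 1 + n * p) (hn2 : 2 * n ≤ p + 2) : Concl G p := by
  haveI hs := simple_of_perfect hperf P hP hC hn hn2
  refine concl_of_hyp ⟨hs, fun hcyc => ?_, P, hP, hC, n, hn, nonRep_of_small Fact.out hn2⟩
  letI := hcyc.commGroup
  have h1 : commutator G = ⊥ := by
    rw [commutator_def, Subgroup.commutator_eq_bot_iff_le_centralizer]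
    exact fun x _ => Subgroup.mem_centralizer_iff.mpr fun y _ => mul_comm y x
  exact top_ne_bot (hperf.symm.trans h1)

theorem exists_sylow_of_centralizer (p : ℕ) [Fact p.Prime] (z : G) (hz : orderOf z = p)
    (hC : Subgroup.centralizer ({z} : Set G) = Subgroup.zpowers z) :
    ∃ P : Sylow p G, Nat.card (P : Subgroup G) = p ∧
      Subgroup.centralizer ((P : Subgroup G) : Set G) = (P : Subgroup G) := by
  have hp : p.Prime := Fact.out
  have hzc : Nat.card (Subgroup.zpowers z) = p := by rw [Nat.card_zpowers, hz]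
  obtain ⟨P, hP⟩ := (IsPGroup.of_card (p := p) (n := 1) (hzc.trans (pow_one p).symm)).exists_le_sylow
  have hzP : z ∈ (P : Subgroup G) := hP (Subgroup.mem_zpowers z)
  haveI : Nontrivial (P : Subgroup G) := by
    refine ⟨⟨⟨z, hzP⟩, 1, fun h => ?_⟩⟩
    have : z = 1 := congrArg Subtype.val h
    rw [this, orderOf_one] at hz
    exact hp.one_lt.ne hz
  -- a central element of `P` lies in the group generated by `z`
  have hcenter := P.2.center_nontrivial
  obtain ⟨⟨c, hc⟩, hc1⟩ := exists_ne (1 : Subgroup.center (P : Subgroup G))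
  have hcz : (c : G) ∈ Subgroup.zpowers z := by
    rw [← hC]
    exact Subgroup.mem_centralizer_singleton_iff.mpr
      (congrArg Subtype.val (Subgroup.mem_center_iff.mp hc ⟨z, hzP⟩)).symm
  have hcne : (c : G) ≠ 1 := fun h => hc1 (Subtype.ext (Subtype.ext h))
  have hgen : Subgroup.zpowers (c : G) = Subgroup.zpowers z := by
    refine Subgroup.eq_of_le_of_card_ge (Subgroup.zpowers_le.mpr hcz) ?_
    have h := Subgroup.card_dvd_of_le (Subgroup.zpowers_le.mpr hcz)
    rw [hzc] at h ⊢
    rcases (Nat.dvd_prime hp).mp h with h' | h'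
    · exact absurd (Subgroup.zpowers_eq_bot.mp (Subgroup.card_eq_one.mp h')) hcne
    · rw [h']
  have heq : (P : Subgroup G) = Subgroup.zpowers z := by
    refine le_antisymm (fun x hx => ?_) hP
    rw [← hC]
    obtain ⟨i, hi⟩ := Subgroup.mem_zpowers_iff.mp
      (show z ∈ Subgroup.zpowers (c : G) by rw [hgen]; exact Subgroup.mem_zpowers z)
    rw [Subgroup.mem_centralizer_singleton_iff, ← hi]
    have hxc : Commute x (c : G) := congrArg Subtype.val (Subgroup.mem_center_iff.mp hc ⟨x, hx⟩)
    exact (hxc.zpow_right i).eq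
  refine ⟨P, by rw [heq, hzc], ?_⟩
  rw [heq]
  refine le_antisymm ?_ ?_
  · calc Subgroup.centralizer (Subgroup.zpowers z : Set G) ≤ Subgroup.centralizer ({z} : Set G) :=
          Subgroup.centralizer_le (Set.singleton_subset_iff.mpr (Subgroup.mem_zpowers z))
      _ = _ := hC
  · intro x hx
    refine Subgroup.mem_centralizer_iff.mpr fun y hy => ?_
    obtain ⟨i, rfl⟩ := Subgroup.mem_zpowers_iff.mp hx
    obtain ⟨j, rfl⟩ := Subgroup.mem_zpowers_iff.mp hy
    exact zpow_mul_comm z j i

end CfsgLib.BrauerReynolds
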