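import Cfsg.Agent.Lib.BrauerReynolds.Centralizer
import Cfsg.Agent.Lib.AutPSL.Out
import Cfsg.Agent.Lib.Transfer.Basic
import Cfsg.Agent.Lib.Layer.PComponentTop

/-!
# Perfect groups with a Sylow subgroup of order `p` and `n` without representation

`G / O_{p'}(G)` is `PSL(2, p)` or `PSL(2, 2 ^ m)` with `p = 2 ^ m + 1`.
-/

set_option autoImplicit false
set_option linter.unusedSectionVars false
set_option linter.style.haveILetI false

namespace CfsgLib.BrauerReynolds

open Cfsg
open CfsgLib
open scoped _root_.Classical commutatorElement MatrixGroups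

universe u

theorem hom_comm_trivial {X A : Type*} [Group X] [Group A] (hperf : commutator X = ⊤) (f : X →* A)
    (hA : ∀ a b : A, a * b = b * a) (x : X) : f x = 1 := by
  have h : commutator X ≤ f.ker := by
    rw [commutator_def, Subgroup.commutator_le]
    intro a _ b _
    rw [MonoidHom.mem_ker, commutatorElement_def, map_mul, map_mul, map_mul, map_inv, map_inv,
      hA (f a) (f b)]
    group
  exact MonoidHom.mem_ker.mp (h (hperf ▸ Subgroup.mem_top x))

open CfsgLib.AutPSL in
/-- A perfect group with a normal subgroup `PSL(2, F)` of trivial centralizer is that subgroup. -/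
theorem eq_top_of_psl {X : Type u} [Group X] [Finite X] (hperf : commutator X = ⊤) {T : Subgroup X}
    [T.Normal] (hC : Subgroup.centralizer (T : Set X) = ⊥) {F : Type} [Field F] [Fintype F] {r f : ℕ}
    [Fact r.Prime] (hf : 1 ≤ f) (hF : Fintype.card F = r ^ f) (e : T ≃* PSL(2, F)) : T = ⊤ := by
  haveI := charP_of_card (F := F) hF
  obtain ⟨E⟩ := exists_ringAut_equiv hF hf
  let φ : X →* MulAut PSL(2, F) := (MulAut.congr e).toMonoidHom.comp MulAut.conjNormal
  have hφ : ∀ (x : X) (t : T), φ x (e t) = e (MulAut.conjNormal x t) := fun x t => by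
    simp [φ, MulAut.congr]
  have hinj : Function.Injective φ := by
    rw [injective_iff_map_eq_one]
    intro x hx
    have : x ∈ Subgroup.centralizer (T : Set X) := Subgroup.mem_centralizer_iff.mpr fun t ht => by
      have h := hφ x ⟨t, ht⟩
      rw [hx] at h
      have h' : x * t * x⁻¹ = t := by
        have := congrArg Subtype.val (e.injective h)
        simpa using this.symm
      exact (mul_inv_eq_iff_eq_mul.mp h').symm
    rwa [hC, Subgroup.mem_bot] at this
  have hcomp : ∀ x, φ x ∈ (delta : GL (Fin 2) F →* MulAut PSL(2, F)).range := fun x => by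
    rw [← ker_componentTwo r, MonoidHom.mem_ker]
    exact hom_comm_trivial hperf ((componentTwo r).comp φ)
      (fun a b => E.injective (by rw [map_mul, map_mul, mul_comm])) x
  have hle : φ.range ≤ (commutator (GL (Fin 2) F)).map delta := by
    rw [MonoidHom.range_eq_map, ← hperf, commutator_def, commutator_def, Subgroup.map_commutator,
      Subgroup.map_commutator, ← MonoidHom.range_eq_map, ← MonoidHom.range_eq_map]
    have : φ.range ≤ (delta : GL (Fin 2) F →* MulAut PSL(2, F)).range := by
      rintro _ ⟨x, rfl⟩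
      exact hcomp x
    exact Subgroup.commutator_mono this this
  refine eq_top_iff.mpr fun x _ => ?_
  obtain ⟨g, hg, hgx⟩ := hle ⟨x, rfl⟩
  have hdet : Matrix.GeneralLinearGroup.det g = 1 :=
    MonoidHom.mem_ker.mp (Abelianization.commutator_subset_ker Matrix.GeneralLinearGroup.det hg)
  obtain ⟨y, hy⟩ := mem_range_conj_of_delta g 1 (by rw [hdet, one_pow])
  have hxy : φ (e.symm y : X) = φ x := by
    rw [← hgx, ← hy]
    refine MulEquiv.ext fun z => ?_
    obtain ⟨t, rfl⟩ := e.surjective z
    rw [hφ, MulAut.conj_apply]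
    have : MulAut.conjNormal ((e.symm y : T) : X) t = e.symm y * t * (e.symm y)⁻¹ :=
      Subtype.ext (by simp)
    rw [this, map_mul, map_mul, map_inv, e.apply_symm_apply]
  rw [← hinj hxy]
  exact (e.symm y).2

variable {p : ℕ} [Fact p.Prime]

theorem Concl.congr {A B : Type u} [Group A] [Group B] (e : A ≃* B) (h : Concl A p) : Concl B p := by
  rcases h with ⟨F, i1, i2, h1, h2, ⟨φ⟩⟩ | ⟨m, F, i1, i2, h1, h2, h3, ⟨φ⟩⟩
  · exact Or.inl ⟨F, i1, i2, h1, h2, ⟨e.symm.trans φ⟩⟩
  · exact Or.inr ⟨m, F, i1, i2, h1, h2, h3, ⟨e.symm.trans φ⟩⟩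

variable {G : Type u} [Group G] [Finite G]

theorem concl_of_perfect_core (hperf : commutator G = ⊤) (hO : pPrimeCore p G = ⊥) (P : Sylow p G)
    (hP : Nat.card (P : Subgroup G) = p) {n : ℕ} (hn : Nat.card (Sylow p G) = 1 + n * p)
    (hn1 : 1 ≤ n) (hnr : NonRep p n) : Concl G p := by
  have hp : p.Prime := Fact.out
  have hcard : ∀ Q : Sylow p G, Nat.card (Q : Subgroup G) = p := fun Q => by
    rw [Sylow.card_eq_multiplicity, ← Sylow.card_eq_multiplicity P, hP]
  set T := Subgroup.normalClosure ((P : Subgroup G) : Set G) with hT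
  have hPT : (P : Subgroup G) ≤ T := Subgroup.le_normalClosure
  have hall : ∀ Q : Sylow p G, (Q : Subgroup G) ≤ T := by
    intro Q
    obtain ⟨g, hg⟩ := MulAction.exists_smul_eq G P Q
    rw [← hg, Sylow.coe_subgroup_smul]
    rintro _ ⟨x, hx, rfl⟩
    exact (Subgroup.normalClosure_normal).conj_mem x (hPT hx) g
  have hmapcard : ∀ R : Sylow p T, Nat.card (R : Subgroup T) = p := by
    intro R
    obtain ⟨k, hk⟩ := R.2.exists_card_eq
    have h1 : p ∣ Nat.card (R : Subgroup T) := R.dvd_card_of_dvd_card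
      (hP ▸ Subgroup.card_dvd_of_le hPT)
    obtain ⟨Q, hQ⟩ := (R.2.map T.subtype).exists_le_sylow
    have h2 := Subgroup.card_dvd_of_le hQ
    rw [hcard Q, Nat.card_congr (Subgroup.equivMapOfInjective _ _ T.subtype_injective).symm.toEquiv] at h2
    exact Nat.dvd_antisymm h2 h1
  let f : Sylow p G → Sylow p T := fun Q => Q.subtype (hall Q)
  have hf : Function.Bijective f := by
    refine ⟨fun Q Q' h => Sylow.subtype_injective h, fun R => ?_⟩
    obtain ⟨Q, hQ⟩ := (R.2.map T.subtype).exists_le_sylow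
    refine ⟨Q, Sylow.ext ?_⟩
    have he : (R : Subgroup T).map T.subtype = (Q : Subgroup G) :=
      Subgroup.eq_of_le_of_card_ge hQ (by
        rw [hcard Q, Nat.card_congr (Subgroup.equivMapOfInjective _ _ T.subtype_injective).symm.toEquiv,
          hmapcard R])
    show (Q : Subgroup G).subgroupOf T = _
    rw [← he, Subgroup.subgroupOf, Subgroup.comap_map_eq_self_of_injective T.subtype_injective]
  have hnT : Nat.card (Sylow p T) = 1 + n * p := by
    rw [← Nat.card_congr (Equiv.ofBijective f hf), hn]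
  have hnontriv : Nontrivial T := by
    rw [← Finite.one_lt_card_iff_nontrivial]
    exact lt_of_lt_of_le hp.one_lt (hP ▸ Subgroup.card_le_of_le hPT)
  haveI hsimple : IsSimpleGroup T := by
    refine ⟨fun L hL => or_iff_not_imp_left.mpr fun hbot => ?_⟩
    have hcore : pPrimeCore p T = ⊥ := by
      haveI : (pPrimeCore p T).Characteristic := Subgroup.characteristic_iff_map_eq.mpr fun φ =>
        le_antisymm (Layer.map_pPrimeCore_le φ) (by
          intro x hx
          exact ⟨φ.symm x, Layer.map_pPrimeCore_le φ.symm ⟨x, hx, rfl⟩, φ.apply_symm_apply x⟩)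
      have hn' : ((pPrimeCore p T).map T.subtype).Normal := ConjAct.normal_of_characteristic_of_normal
      have h := Transfer.le_pPrimeCore hn' (show (Nat.card ((pPrimeCore p T).map T.subtype)).Coprime p by
        rw [Nat.card_congr (Subgroup.equivMapOfInjective _ _ T.subtype_injective).symm.toEquiv]
        exact Transfer.pPrimeCore_coprime p)
      rw [hO, le_bot_iff] at h
      exact (Subgroup.map_eq_bot_iff_of_injective _ T.subtype_injective).mp h
    have hpL : p ∣ Nat.card L := by
      by_contra h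
      refine hbot (le_bot_iff.mp ?_)
      rw [← hcore]
      exact Transfer.le_pPrimeCore hL ((Nat.Prime.coprime_iff_not_dvd hp).mpr h).symm
    obtain ⟨x, hx⟩ := exists_prime_orderOf_dvd_card' p hpL
    have hxo : orderOf (x : T) = p := (Subgroup.orderOf_coe x).trans hx
    obtain ⟨R, hR⟩ := (IsPGroup.of_card (p := p) (n := 1)
      (show Nat.card (Subgroup.zpowers (x : T)) = p ^ 1 by rw [Nat.card_zpowers, hxo, pow_one])).exists_le_sylow
    have hRL : (R : Subgroup T) ≤ L := by
      rw [← Subgroup.eq_of_le_of_card_ge hR (by rw [hmapcard, Nat.card_zpowers, hxo])]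
      exact Subgroup.zpowers_le.mpr x.2
    have hallL : ∀ Q : Sylow p T, (Q : Subgroup T) ≤ L := fun Q => by
      obtain ⟨g, hg⟩ := MulAction.exists_smul_eq T R Q
      rw [← hg, Sylow.coe_subgroup_smul]
      rintro _ ⟨y, hy, rfl⟩
      exact hL.conj_mem y (hRL hy) g
    have hTle : T ≤ L.map T.subtype := by
      refine (Subgroup.closure_le _).mpr ?_
      intro y hy
      obtain ⟨z, hz, hzy⟩ := Group.mem_conjugatesOfSet_iff.mp hy
      obtain ⟨g, rfl⟩ := isConj_iff.mp hzy
      have hmem : g * z * g⁻¹ ∈ ((g • P : Sylow p G) : Subgroup G) := by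
        rw [Sylow.coe_subgroup_smul]
        exact Subgroup.smul_mem_pointwise_smul z (MulAut.conj g) _ hz
      exact ⟨⟨g * z * g⁻¹, hall (g • P) hmem⟩, hallL (f (g • P)) hmem, rfl⟩
    refine eq_top_iff.mpr fun y _ => ?_
    obtain ⟨z, hz, hzy⟩ := hTle y.2
    rwa [show z = y from Subtype.ext hzy] at hz
  have hncyc : ¬ IsCyclic T := by
    intro hc
    letI := hc.commGroup
    haveI : Subsingleton (Sylow p T) := by
      refine ⟨fun Q Q' => ?_⟩
      obtain ⟨g, hg⟩ := MulAction.exists_smul_eq T Q Q'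
      haveI : (Q : Subgroup T).Normal := ⟨fun a ha b => by rwa [mul_comm b a, mul_inv_cancel_right]⟩
      rw [← hg, Sylow.smul_eq_of_normal]
    have := Nat.card_unique (α := Sylow p T)
    rw [hnT] at this
    have := Nat.mul_pos hn1 hp.pos
    omega
  have hcomm := not_comm_of_not_cyclic' hncyc
  let PT : Sylow p T := f P
  have hconcl : Concl T p := by
    rcases self_centralizing_or_concl hncyc PT (hmapcard PT) hnT hnr with h | h
    · exact h
    · exact concl_of_hyp ⟨hsimple, hncyc, PT, hmapcard PT, h, n, hnT, hnr⟩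
  -- the centralizer of `T`
  have hC : Subgroup.centralizer (T : Set G) = ⊥ := by
    have hZ : ∀ x ∈ Subgroup.centralizer (T : Set G), x ∈ T → x = 1 := fun x hx hxT => by
      rcases (inferInstance : (Subgroup.center T).Normal).eq_bot_or_eq_top with h | h
      · have hmem : (⟨x, hxT⟩ : T) ∈ Subgroup.center T :=
          Subgroup.mem_center_iff.mpr fun t => Subtype.ext (Subgroup.mem_centralizer_iff.mp hx t t.2)
        rw [h, Subgroup.mem_bot] at hmem
        exact congrArg Subtype.val hmem
      · exact absurd ⟨⟨fun a b => (Subgroup.mem_center_iff.mp (h ▸ Subgroup.mem_top b)) a⟩⟩ hcomm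
    refine le_bot_iff.mp (hO ▸ Transfer.le_pPrimeCore inferInstance ?_)
    refine ((Nat.Prime.coprime_iff_not_dvd hp).mpr fun h => ?_).symm
    obtain ⟨x, hx⟩ := exists_prime_orderOf_dvd_card' p h
    have hxo : orderOf (x : G) = p := (Subgroup.orderOf_coe x).trans hx
    obtain ⟨Q, hQ⟩ := (IsPGroup.of_card (p := p) (n := 1)
      (show Nat.card (Subgroup.zpowers (x : G)) = p ^ 1 by rw [Nat.card_zpowers, hxo, pow_one])).exists_le_sylow
    rw [hZ x x.2 (hall Q (hQ (Subgroup.mem_zpowers _))), orderOf_one] at hxo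
    exact hp.one_lt.ne hxo
  have htop : T = ⊤ := by
    rcases hconcl with ⟨F, i1, i2, hF, -, ⟨φ⟩⟩ | ⟨m, F, i1, i2, hF, hpm, h3, ⟨φ⟩⟩
    · exact eq_top_of_psl (r := p) (f := 1) hperf hC le_rfl (by rw [hF, pow_one]) φ
    · haveI : Fact (Nat.Prime 2) := ⟨Nat.prime_two⟩
      refine eq_top_of_psl (r := 2) (f := m) hperf hC ?_ hF φ
      rcases Nat.eq_zero_or_pos m with h | h
      · subst h; omega
      · exact h
  exact hconcl.congr ((MulEquiv.subgroupCongr htop).trans Subgroup.topEquiv)

theorem quotient_concl (hperf : commutator G = ⊤) (P : Sylow p G)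
    (hP : Nat.card (P : Subgroup G) = p) {n : ℕ} (hn : Nat.card (Sylow p G) = 1 + n * p)
    (hnr : NonRep p n) : Concl (G ⧸ pPrimeCore p G) p := by
  have hp : p.Prime := Fact.out
  haveI := Transfer.pPrimeCore_normal p G
  set K := pPrimeCore p G with hK
  have hsurj : Function.Surjective (QuotientGroup.mk' K) := QuotientGroup.mk'_surjective K
  have hperf' : commutator (G ⧸ K) = ⊤ := by
    rw [commutator_def, ← Subgroup.map_top_of_surjective _ hsurj, ← Subgroup.map_commutator,
      ← commutator_def, hperf]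
  set P' := P.mapSurjective hsurj with hP'
  have hPK : ∀ x ∈ (P : Subgroup G), x ∈ K → x = 1 := fun x hx hxK => by
    have h1 : orderOf x ∣ Nat.card K := Subgroup.orderOf_mk x hxK ▸ orderOf_dvd_natCard (⟨x, hxK⟩ : K)
    have h2 : orderOf x ∣ p := by
      rw [← hP]; exact Subgroup.orderOf_mk x hx ▸ orderOf_dvd_natCard (⟨x, hx⟩ : (P : Subgroup G))
    exact orderOf_eq_one_iff.mp (Nat.eq_one_of_dvd_coprimes (Transfer.pPrimeCore_coprime p) h1 h2)
  have hP'c : Nat.card (P' : Subgroup (G ⧸ K)) = p := by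
    rw [hP', Sylow.coe_mapSurjective]
    refine Eq.trans (Nat.card_congr (Equiv.ofBijective
      (fun x : (P : Subgroup G) => (⟨QuotientGroup.mk' K x, Subgroup.mem_map_of_mem _ x.2⟩ :
        (P : Subgroup G).map (QuotientGroup.mk' K))) ⟨fun x y h => ?_, ?_⟩)).symm hP
    · have h' : (x : G)⁻¹ * y ∈ K := QuotientGroup.eq.mp (congrArg Subtype.val h)
      exact Subtype.ext (inv_mul_eq_one.mp (hPK _ (mul_mem (inv_mem x.2) y.2) h'))
    · rintro ⟨_, x, hx, rfl⟩
      exact ⟨⟨x, hx⟩, rfl⟩
  obtain ⟨d, hd⟩ : ∃ d, Nat.card (Sylow p (G ⧸ K)) = 1 + d * p := ⟨Nat.card (Sylow p (G ⧸ K)) / p, by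
    have h := card_sylow_modEq_one p (G ⧸ K)
    rw [Nat.ModEq, Nat.mod_eq_of_lt hp.one_lt] at h
    conv_lhs => rw [← Nat.mod_add_div (Nat.card (Sylow p (G ⧸ K))) p, h, mul_comm p]⟩
  have hdvd : 1 + d * p ∣ 1 + n * p := by
    rw [← hd, ← hn, Sylow.card_eq_index_normalizer P', Sylow.card_eq_index_normalizer P]
    refine (Subgroup.index_dvd_of_le ?_).trans (Subgroup.index_map_dvd _ hsurj)
    exact Subgroup.le_normalizer_map (QuotientGroup.mk' K)
  have hd1 : 1 ≤ d := by
    by_contra h0
    rw [show d = 0 by omega, zero_mul, add_zero] at hd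
    haveI : Subsingleton (Sylow p (G ⧸ K)) := (Nat.card_eq_one_iff_unique.mp hd).1
    have hnorm : (P' : Subgroup (G ⧸ K)).Normal := Sylow.normal_of_subsingleton P'
    haveI := hnorm
    haveI : IsCyclic (P' : Subgroup (G ⧸ K)) := isCyclic_of_prime_card hP'c
    haveI : IsCyclic (MulAut (P' : Subgroup (G ⧸ K))) := by
      haveI : IsCyclic (ZMod (Nat.card (P' : Subgroup (G ⧸ K))))ˣ := by
        rw [hP'c]; exact ZMod.isCyclic_units_prime hp
      exact isCyclic_of_injective (IsCyclic.mulAutMulEquiv (P' : Subgroup (G ⧸ K))).toMonoidHom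
        (IsCyclic.mulAutMulEquiv (P' : Subgroup (G ⧸ K))).injective
    letI := IsCyclic.commGroup (α := MulAut (P' : Subgroup (G ⧸ K)))
    have htriv := hom_comm_trivial hperf' (MulAut.conjNormal (H := (P' : Subgroup (G ⧸ K)))) mul_comm
    have hc : Subgroup.normalizer ((P' : Subgroup (G ⧸ K)) : Set (G ⧸ K)) ≤
        Subgroup.centralizer ((P' : Subgroup (G ⧸ K)) : Set (G ⧸ K)) := fun x _ =>
      Subgroup.mem_centralizer_iff.mpr fun y hy => by
        have := congrArg Subtype.val (MulEquiv.congr_fun (htriv x) ⟨y, hy⟩)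
        simp only [MulAut.conjNormal_apply, MulAut.one_apply] at this
        exact (mul_inv_eq_iff_eq_mul.mp this).symm
    have hcP : ∀ a b : (P' : Subgroup (G ⧸ K)), a * b = b * a := by
      letI := IsCyclic.commGroup (α := (P' : Subgroup (G ⧸ K)))
      exact mul_comm
    have hker := MonoidHom.not_dvd_card_ker_transferSylow P' hc
    refine hker ?_
    have htk : (MonoidHom.transferSylow P' hc).ker = ⊤ :=
      eq_top_iff.mpr fun x _ => MonoidHom.mem_ker.mpr (hom_comm_trivial hperf' _ hcP x)
    rw [htk, Subgroup.card_top, ← hP'c]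
    exact Subgroup.card_subgroup_dvd_card _
  have hdn : d = n := by
    have hle : 1 + d * p ≤ 1 + n * p := Nat.le_of_dvd (by omega) hdvd
    have hge := hnr (1 + d * p) (by have := Nat.mul_pos hd1 hp.pos; omega)
      (by rw [Nat.add_mul_mod_self_right, Nat.one_mod_eq_one.mpr hp.one_lt.ne'])
      (hdvd.trans (dvd_mul_left _ _))
    exact Nat.eq_of_mul_eq_mul_right hp.pos (by omega)
  exact concl_of_perfect_core hperf' (Layer.pPrimeCore_quotient_eq_bot p) P' hP'c hd hd1 (hdn ▸ hnr)

end CfsgLib.BrauerReynolds
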