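import Cfsg.Agent.Lib.BrauerReynolds.Perfect
import Cfsg.Agent.Lib.Layer.PComponent
import Cfsg.Agent.Lib.PSolvable.Core
import Cfsg.Agent.Lib.Coprime.Action
import Cfsg.Agent.Lib.Classical.Card
import Cfsg.Prelude.Def_LocalStructure

/-!
# Groups of order less than `p ^ 3` with more than one Sylow `p`-subgroup
-/

set_option autoImplicit false
set_option linter.unusedSectionVars false
set_option linter.style.haveILetI false

open scoped Classical

namespace CfsgLib.BrauerReynolds

open Cfsg
open CfsgLib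

universe u

variable {p : ℕ} [Fact p.Prime]

theorem prime_ge_five_of_concl {G : Type u} [Group G] (h : Concl G p) : 5 ≤ p := by
  have hp : p.Prime := Fact.out
  have h3 : 3 < p := by
    rcases h with ⟨F, _, _, -, h, -⟩ | ⟨m, F, _, _, -, -, h, -⟩ <;> exact h
  by_contra h5
  rw [show p = 4 by omega] at hp
  norm_num at hp

/-- The order of the groups in the conclusion. -/
theorem card_of_concl {G : Type u} [Group G] [Finite G] (h : Concl G p) :
    p * (p ^ 2 - 1) ≤ 2 * Nat.card G ∧ p ^ 3 ≤ 3 * Nat.card G := by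
  have hp : p.Prime := Fact.out
  have h5 := prime_ge_five_of_concl h
  rcases h with ⟨F, hF, hFf, hc, -, ⟨φ⟩⟩ | ⟨m, F, hF, hFf, hc, hpm, -, ⟨φ⟩⟩
  · have hcard := Classical.card_PSL_two (F := F)
    rw [hc, ← Nat.card_congr φ.toEquiv] at hcard
    have hodd : p % 2 = 1 := Nat.odd_iff.mp (hp.odd_of_ne_two (by omega))
    rw [Nat.gcd_eq_left (show 2 ∣ p - 1 by omega)] at hcard
    refine ⟨hcard.ge, ?_⟩
    have h1 : 2 ≤ p ^ 2 := by rw [pow_two]; nlinarith
    have h2 : 2 * p ^ 3 ≤ 3 * (p * (p ^ 2 - 1)) := by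
      obtain ⟨k, hk⟩ : ∃ k, p ^ 2 = k + 1 := ⟨p ^ 2 - 1, by omega⟩
      rw [hk, Nat.add_sub_cancel, show p ^ 3 = p * p ^ 2 by ring, hk]
      have hk3 : 2 ≤ k := by
        have : 25 ≤ p ^ 2 := Nat.pow_le_pow_left h5 2
        omega
      have := Nat.mul_le_mul_left p hk3
      have e1 : 2 * (p * (k + 1)) = 2 * (p * k) + 2 * p := by ring
      have e2 : 3 * (p * k) = 2 * (p * k) + p * k := by ring
      omega
    omega
  · have hcard := Classical.card_PSL_two (F := F)
    rw [hc, ← Nat.card_congr φ.toEquiv] at hcard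
    have hm : 1 ≤ m := by
      rcases Nat.eq_zero_or_pos m with h | h
      · subst h; simp at hpm; omega
      · exact h
    have heven : 2 ∣ 2 ^ m := dvd_pow_self 2 (by omega)
    rw [Nat.coprime_iff_gcd_eq_one.mp ((Nat.prime_two.coprime_iff_not_dvd).mpr (by omega : ¬ 2 ∣ 2 ^ m - 1)),
      one_mul] at hcard
    set q := 2 ^ m with hq
    have hq4 : 4 ≤ q := by omega
    obtain ⟨r, hr⟩ : ∃ r, q = r + 4 := ⟨q - 4, by omega⟩
    have h1 : q * (q ^ 2 - 1) = (r + 4) * (r * r + 8 * r + 15) := by
      rw [hr]; congr 1; rw [show (r + 4) ^ 2 = r * r + 8 * r + 15 + 1 by ring, Nat.add_sub_cancel]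
    have h2 : p * (p ^ 2 - 1) = (r + 5) * (r * r + 10 * r + 24) := by
      rw [hpm, hr]; congr 1
      rw [show (r + 4 + 1) ^ 2 = r * r + 10 * r + 24 + 1 by ring, Nat.add_sub_cancel]
    refine ⟨?_, ?_⟩
    · rw [h2, hcard, h1]; nlinarith
    · rw [show p ^ 3 = (r + 5) * ((r + 5) * (r + 5)) by rw [hpm, hr]; ring, hcard, h1]; nlinarith

variable {H : Type u} [Group H] [Finite H]

/-- With a Sylow subgroup of order `p` and trivial `p'`-core, the normal closure of it is simple. -/
theorem normalClosure_simple (hcore : Cfsg.pPrimeCore p H = ⊥) (P : Sylow p H)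
    (hP : Nat.card (P : Subgroup H) = p) :
    IsSimpleGroup (Subgroup.normalClosure ((P : Subgroup H) : Set H)) := by
  have hp : p.Prime := Fact.out
  set L := Subgroup.normalClosure ((P : Subgroup H) : Set H) with hL
  have hPL : (P : Subgroup H) ≤ L := Subgroup.le_normalClosure
  haveI : Nontrivial L := by
    obtain ⟨x, hx⟩ := exists_prime_orderOf_dvd_card' p (show p ∣ Nat.card (P : Subgroup H) by rw [hP])
    exact ⟨⟨⟨x, hPL x.2⟩, 1, fun h => by
      rw [show x = 1 from Subtype.ext (congrArg Subtype.val h : (x : H) = 1), orderOf_one] at hx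
      exact hp.one_lt.ne hx⟩⟩
  refine ⟨fun R hR => ?_⟩
  by_cases hdR : p ∣ Nat.card R
  · right
    obtain ⟨x, hx⟩ := exists_prime_orderOf_dvd_card' p hdR
    set x' : H := ((x : L) : H)
    have hx' : orderOf x' = p := (Subgroup.orderOf_coe (x : L)).trans ((Subgroup.orderOf_coe x).trans hx)
    have hfac : (Nat.card H).factorization p = 1 := by
      have h := P.card_eq_multiplicity
      rw [hP] at h
      exact Nat.pow_right_injective hp.two_le (by simpa using h.symm)
    have hLfac : (Nat.card L).factorization p = 1 := by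
      refine le_antisymm ?_ ?_
      · rw [← hfac]
        exact (Nat.factorization_le_iff_dvd Nat.card_pos.ne' Nat.card_pos.ne').mpr
          (Subgroup.card_subgroup_dvd_card L) p
      · exact hp.factorization_pos_of_dvd Nat.card_pos.ne'
          (by rw [← hP]; exact Subgroup.card_dvd_of_le hPL)
    have hzc : Nat.card (Subgroup.zpowers (x : L)) = p := by
      rw [Nat.card_zpowers, ← hx, Subgroup.orderOf_coe]
    let Q₀ : Sylow p L := Sylow.ofCard (Subgroup.zpowers (x : L)) (by rw [hzc, hLfac, pow_one])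
    have hsub : ∀ y : L, orderOf y = p → y ∈ R := by
      intro y hy
      let Q : Sylow p L := Sylow.ofCard (Subgroup.zpowers y)
        (by rw [Nat.card_zpowers, hy, hLfac, pow_one])
      obtain ⟨c, hc⟩ := MulAction.exists_smul_eq L Q₀ Q
      have hyQ : y ∈ (Q : Subgroup L) := Subgroup.mem_zpowers y
      rw [← hc, Sylow.coe_subgroup_smul] at hyQ
      obtain ⟨k, hk, rfl⟩ := hyQ
      exact hR.conj_mem k (Subgroup.zpowers_le.mpr x.2 hk) c
    have hle : L ≤ R.map L.subtype := by
      conv_lhs => rw [hL, Subgroup.normalClosure]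
      rw [Subgroup.closure_le]
      intro y hy
      obtain ⟨v, hv, hvy⟩ := Group.mem_conjugatesOfSet_iff.mp hy
      have hyL : y ∈ L := Subgroup.conjugatesOfSet_subset_normalClosure hy
      rcases eq_or_ne y 1 with rfl | hy1
      · exact one_mem _
      refine ⟨⟨y, hyL⟩, hsub _ ?_, rfl⟩
      obtain ⟨c, rfl⟩ := isConj_iff.mp hvy
      rw [Subgroup.orderOf_mk, ← MulAut.conj_apply, MulEquiv.orderOf_eq]
      have hv1 : v ≠ 1 := fun h => hy1 (by simp [h])
      have h := orderOf_dvd_natCard (⟨v, hv⟩ : (P : Subgroup H))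
      rw [hP, Subgroup.orderOf_mk] at h
      exact ((Nat.dvd_prime hp).mp h).resolve_left fun h' => hv1 (orderOf_eq_one_iff.mp h')
    rw [eq_top_iff]
    intro y _
    obtain ⟨r, hr, hry⟩ := hle y.2
    rwa [show r = y from Subtype.ext hry] at hr
  · left
    have h1 : R ≤ Cfsg.pPrimeCore p L :=
      Transfer.le_pPrimeCore hR (hp.coprime_iff_not_dvd.mpr hdR).symm
    rw [eq_bot_iff]
    intro r hr
    have h2 := PSolvable.map_pPrimeCore_le (p := p) L (Subgroup.mem_map_of_mem L.subtype (h1 hr))
    rw [hcore, Subgroup.mem_bot] at h2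
    exact Subgroup.mem_bot.mpr (Subtype.ext h2)

/-- A perfect group has no normal Sylow subgroup of order `p`. -/
theorem not_normal_of_perfect (hperf : commutator H = ⊤) (P : Sylow p H)
    (hP : Nat.card (P : Subgroup H) = p) : ¬ (P : Subgroup H).Normal := by
  intro hn
  have hp : p.Prime := Fact.out
  haveI : IsCyclic (P : Subgroup H) := isCyclic_of_prime_card hP
  haveI : IsCyclic (MulAut (P : Subgroup H)) := by
    haveI : IsCyclic (ZMod (Nat.card (P : Subgroup H)))ˣ := by
      rw [hP]; exact ZMod.isCyclic_units_prime Fact.out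
    exact isCyclic_of_injective (IsCyclic.mulAutMulEquiv (P : Subgroup H)).toMonoidHom
      (IsCyclic.mulAutMulEquiv (P : Subgroup H)).injective
  letI := IsCyclic.commGroup (α := MulAut (P : Subgroup H))
  haveI := hn
  have hker := Abelianization.commutator_subset_ker (MulAut.conjNormal (H := (P : Subgroup H)))
  rw [hperf] at hker
  have hc : Subgroup.normalizer ((P : Subgroup H) : Set H) ≤
      Subgroup.centralizer ((P : Subgroup H) : Set H) := fun g _ =>
    Subgroup.mem_centralizer_iff.mpr fun v hv => by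
      have h := congrArg (fun f : MulAut (P : Subgroup H) => ((f ⟨v, hv⟩ : (P : Subgroup H)) : H))
        (MonoidHom.mem_ker.mp (hker (Subgroup.mem_top g)))
      simp only [MulAut.conjNormal_apply, MulAut.one_apply] at h
      exact (mul_inv_eq_iff_eq_mul.mp h).symm
  letI := IsCyclic.commGroup (α := (P : Subgroup H))
  set K := (MonoidHom.transferSylow P hc).ker
  have hle : commutator H ≤ K := Abelianization.commutator_subset_ker _
  rw [hperf, top_le_iff] at hle
  refine MonoidHom.not_dvd_card_ker_transferSylow P hc ?_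
  rw [show (MonoidHom.transferSylow P hc).ker = ⊤ from hle, Subgroup.card_top]
  exact hP ▸ Subgroup.card_subgroup_dvd_card (P : Subgroup H)

theorem card_sylow_small (hbig : Nat.card H < p ^ 3) (hdvd : p ∣ Nat.card H) (P : Sylow p H)
    (hn : ¬ (P : Subgroup H).Normal) : Nat.card (P : Subgroup H) = p := by
  have hp : p.Prime := Fact.out
  obtain ⟨k, hk⟩ := P.2.exists_card_eq
  have hk1 : 1 ≤ k := by
    have h := P.dvd_card_of_dvd_card hdvd
    rw [hk] at h
    by_contra h0
    rw [show k = 0 by omega, pow_zero] at h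
    exact hp.not_dvd_one h
  rcases hk1.eq_or_lt with rfl | hk2
  · rw [hk, pow_one]
  exfalso
  have hidx : (Subgroup.normalizer ((P : Subgroup H) : Set H)).index < p := by
    have h3 : p ^ 2 * (Subgroup.normalizer ((P : Subgroup H) : Set H)).index < p ^ 2 * p := by
      calc p ^ 2 * (Subgroup.normalizer ((P : Subgroup H) : Set H)).index ≤
            Nat.card (P : Subgroup H) * (Subgroup.normalizer ((P : Subgroup H) : Set H)).index :=
            Nat.mul_le_mul_right _ (hk ▸ Nat.pow_le_pow_right hp.pos hk2)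
        _ ≤ Nat.card H := by
          refine Nat.le_of_dvd Nat.card_pos ?_
          conv_rhs => rw [← (P : Subgroup H).card_mul_index]
          exact Nat.mul_dvd_mul_left _ (Subgroup.index_dvd_of_le Subgroup.le_normalizer)
        _ < p ^ 2 * p := by rw [← pow_succ]; exact hbig
    exact Nat.lt_of_mul_lt_mul_left h3
  have h := card_sylow_modEq_one p H
  have hnc : Nat.card (Sylow p H) = (Subgroup.normalizer ((P : Subgroup H) : Set H)).index :=
    Sylow.card_eq_index_normalizer P
  rw [hnc, Nat.ModEq, Nat.mod_eq_of_lt hidx, Nat.mod_eq_of_lt hp.one_lt, Subgroup.index_eq_one] at h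
  exact hn (Subgroup.normalizer_eq_top_iff.mp h)

/-- Either the normal closure of `P` modulo the `p'`-core is one of the simple groups, or `P` times
the core is normal. -/
theorem structure_small (hbig : Nat.card H < p ^ 3) (hdvd : p ∣ Nat.card H) (P : Sylow p H)
    (hn : ¬ (P : Subgroup H).Normal) :
    (∃ L : Subgroup (H ⧸ Cfsg.pPrimeCore p H), L.Normal ∧ Concl L p) ∨
      ((P : Subgroup H) ⊔ Cfsg.pPrimeCore p H).Normal := by
  have hp : p.Prime := Fact.out
  set M := Cfsg.pPrimeCore p H with hM
  have hP := card_sylow_small hbig hdvd P hn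
  set π := QuotientGroup.mk' M with hπ
  set Q : Sylow p (H ⧸ M) := P.mapSurjective (QuotientGroup.mk'_surjective M) with hQ
  have hQe : (Q : Subgroup (H ⧸ M)) = (P : Subgroup H).map π := rfl
  have hQc : Nat.card (Q : Subgroup (H ⧸ M)) = p := by
    refine Eq.trans ?_ hP
    rw [hQe]
    refine (Nat.card_congr (Equiv.ofBijective (fun x : (P : Subgroup H) =>
      (⟨π x, x, x.2, rfl⟩ : ↥((P : Subgroup H).map π))) ⟨fun x y h => ?_, fun y => ?_⟩)).symm
    · have h' : π x = π y := congrArg Subtype.val h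
      have hmem : (x : H)⁻¹ * y ∈ M := QuotientGroup.eq.mp h'
      exact Subtype.ext (inv_mul_eq_one.mp (PSolvable.eq_one_of_mem_of_mem P.2
        (Transfer.pPrimeCore_coprime p) (mul_mem (inv_mem x.2) y.2) hmem))
    · obtain ⟨_, x, hx, rfl⟩ := y
      exact ⟨⟨x, hx⟩, rfl⟩
  set L := Subgroup.normalClosure ((Q : Subgroup (H ⧸ M)) : Set (H ⧸ M)) with hL
  haveI hs : IsSimpleGroup L :=
    normalClosure_simple (Layer.pPrimeCore_quotient_eq_bot p) Q hQc
  by_cases hcyc : IsCyclic L
  · right
    letI := hcyc.commGroup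
    have hLp : Nat.card L = p := by
      have h1 : p ∣ Nat.card L := by
        have h := Subgroup.card_dvd_of_le (Subgroup.le_normalClosure (H := (Q : Subgroup (H ⧸ M))))
        rwa [hQc] at h
      exact (((Nat.prime_dvd_prime_iff_eq hp IsSimpleGroup.prime_card).mp h1)).symm
    have hLQ : L = (Q : Subgroup (H ⧸ M)) :=
      (Subgroup.eq_of_le_of_card_ge Subgroup.le_normalClosure (by rw [hLp, hQc])).symm
    have hn' : ((P : Subgroup H).map π).Normal := by
      rw [← hQe, ← hLQ]; exact Subgroup.normalClosure_normal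
    have h := hn'.comap π
    rwa [Subgroup.comap_map_eq, QuotientGroup.ker_mk'] at h
  · left
    have h1 : p ∣ Nat.card L := by
      have h := Subgroup.card_dvd_of_le (Subgroup.le_normalClosure (H := (Q : Subgroup (H ⧸ M))))
      rwa [hQc] at h
    have h2 : Nat.card L < p ^ 3 :=
      lt_of_le_of_lt ((Subgroup.card_le_card_group L).trans
        (Nat.card_le_card_of_surjective _ (QuotientGroup.mk'_surjective M))) hbig
    exact ⟨L, Subgroup.normalClosure_normal, concl_of_small hcyc h1 h2⟩

/-- The perfect case. -/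
theorem perfect_small (hperf : commutator H = ⊤) (hbig : Nat.card H < p ^ 3) (hdvd : p ∣ Nat.card H)
    (P : Sylow p H) (hn : ¬ (P : Subgroup H).Normal)
    (h2 : ∀ N : Subgroup H, N.Normal → Nat.card N ≠ 2) : Concl H p := by
  have hp : p.Prime := Fact.out
  set M := Cfsg.pPrimeCore p H with hM
  have hP := card_sylow_small hbig hdvd P hn
  have hperfQ : commutator (H ⧸ M) = ⊤ := by
    rw [commutator_def, ← Subgroup.map_top_of_surjective _ (QuotientGroup.mk'_surjective M),
      ← Subgroup.map_commutator, ← commutator_def, hperf]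
  rcases structure_small hbig hdvd P hn with ⟨L, hL, hc⟩ | hnorm
  · obtain ⟨-, hc3⟩ := card_of_concl hc
    have hcard : Nat.card L * L.index * Nat.card M = Nat.card H := by
      rw [L.card_mul_index, ← Subgroup.card_eq_card_quotient_mul_card_subgroup]
    have hlt : L.index * Nat.card M < 3 := by
      by_contra hge
      have h1 : Nat.card L * 3 ≤ Nat.card L * (L.index * Nat.card M) :=
        Nat.mul_le_mul_left _ (by omega)
      rw [← mul_assoc, hcard] at h1
      omega
    have hLtop : L = ⊤ := by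
      rcases (show L.index = 1 ∨ L.index = 2 by
        have h0 : L.index ≠ 0 := Subgroup.index_ne_zero_of_finite
        have h1 := Nat.le_mul_of_pos_right L.index (Nat.card_pos (α := M))
        omega) with h | h
      · exact Subgroup.index_eq_one.mp h
      · exfalso
        haveI := hL
        have hL2 : L = ⊤ := by
          refine eq_top_of_commutators hperfQ (K := L) (N := ⊤) (sup_top_eq L) fun x _ y _ => ?_
          haveI : Fact (Nat.Prime 2) := ⟨Nat.prime_two⟩
          haveI : IsCyclic ((H ⧸ M) ⧸ L) := isCyclic_of_prime_card (p := 2)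
            (by rw [← Subgroup.index_eq_card, h])
          letI := IsCyclic.commGroup (α := (H ⧸ M) ⧸ L)
          rw [← QuotientGroup.eq_one_iff]
          simp only [QuotientGroup.mk_mul, QuotientGroup.mk_inv, mul_inv_cancel_comm, mul_inv_cancel]
        rw [hL2, Subgroup.index_top] at h
        omega
    have hMn : M.Normal := inferInstance
    have hM1 : M = ⊥ := by
      have h1 : Nat.card M ≤ 2 := by
        rw [hLtop, Subgroup.index_top, one_mul] at hlt
        omega
      have h0 : 0 < Nat.card M := Nat.card_pos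
      have h2' := h2 M hMn
      exact Subgroup.card_eq_one.mp (by omega)
    have e : H ≃* L := ((QuotientGroup.quotientBot (G := H)).symm.trans
      (QuotientGroup.quotientMulEquivOfEq hM1.symm)).trans
        (Subgroup.topEquiv.symm.trans (MulEquiv.subgroupCongr hLtop.symm))
    rcases hc with ⟨F, i1, i2, a, b, ⟨φ⟩⟩ | ⟨m, F, i1, i2, a, b, c, ⟨φ⟩⟩
    · exact Or.inl ⟨F, i1, i2, a, b, ⟨e.trans φ⟩⟩
    · exact Or.inr ⟨m, F, i1, i2, a, b, c, ⟨e.trans φ⟩⟩
  · exfalso
    set Q : Sylow p (H ⧸ M) := P.mapSurjective (QuotientGroup.mk'_surjective M) with hQ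
    refine not_normal_of_perfect hperfQ Q ?_ ?_
    · refine le_antisymm ?_ ?_
      · show Nat.card ↥((P : Subgroup H).map (QuotientGroup.mk' M)) ≤ p
        exact le_trans (Nat.le_of_dvd Nat.card_pos (Subgroup.card_map_dvd (P : Subgroup H) _)) hP.le
      · refine Nat.le_of_dvd Nat.card_pos (Q.dvd_card_of_dvd_card ?_)
        rcases hp.dvd_mul.mp (Subgroup.card_eq_card_quotient_mul_card_subgroup M ▸ hdvd) with h | h
        · exact h
        · exact absurd h Transfer.not_dvd_card_pPrimeCore
    · show ((P : Subgroup H).map (QuotientGroup.mk' M)).Normal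
      have h := hnorm.map (QuotientGroup.mk' M) (QuotientGroup.mk'_surjective M)
      rwa [Subgroup.map_sup, QuotientGroup.map_mk'_self, sup_bot_eq] at h

/-- The lower bound for groups that are not `p`-closed. -/
theorem not_closed_bound (hp2 : p ≠ 2) {m : ℕ}
    (hleast : ∀ k : ℕ, IsPrimePow k → k % p = 1 → m ≤ k) (hH : ¬ Cfsg.IsPClosed p H) :
    min (p * m) (p * (p ^ 2 - 1) / 2) ≤ Nat.card H := by
  have hp : p.Prime := Fact.out
  by_contra hlt
  push Not at hlt
  obtain ⟨P, hn⟩ : ∃ P : Sylow p H, ¬ (P : Subgroup H).Normal := by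
    simpa [Cfsg.IsPClosed] using hH
  have hlt1 : Nat.card H < p * m := lt_of_lt_of_le hlt (min_le_left _ _)
  have hlt2 : Nat.card H < p * (p ^ 2 - 1) / 2 := lt_of_lt_of_le hlt (min_le_right _ _)
  have hbig : Nat.card H < p ^ 3 := by
    have h1 : p * (p ^ 2 - 1) ≤ p ^ 3 := by
      calc p * (p ^ 2 - 1) ≤ p * p ^ 2 := Nat.mul_le_mul_left p (Nat.sub_le _ _)
        _ = p ^ 3 := by ring
    omega
  have hdvd : p ∣ Nat.card H := by
    by_contra h
    refine hn ?_
    have h1 : (P : Subgroup H) = ⊥ := by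
      refine Subgroup.card_eq_one.mp ?_
      rw [P.card_eq_multiplicity, Nat.factorization_eq_zero_of_not_dvd h, pow_zero]
    rw [h1]
    infer_instance
  set M := Cfsg.pPrimeCore p H with hM
  have hP := card_sylow_small hbig hdvd P hn
  rcases structure_small hbig hdvd P hn with ⟨L, -, hc⟩ | hnorm
  · have h1 := (card_of_concl hc).1
    have h2 : Nat.card L ≤ Nat.card H :=
      (Subgroup.card_le_card_group L).trans (Nat.card_le_card_of_surjective _ (QuotientGroup.mk'_surjective M))
    omega
  -- some Sylow subgroup of the core is moved by `P`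
  have hcop : (Nat.card (P : Subgroup H)).Coprime (Nat.card M) := by
    rw [hP]; exact hp.coprime_iff_not_dvd.mpr Transfer.not_dvd_card_pPrimeCore
  have hPM : (P : Subgroup H) ≤ Subgroup.normalizer (M : Set H) := by
    rw [Subgroup.normalizer_eq_top_iff.mpr inferInstance]; exact le_top
  set C := Subgroup.centralizer ((P : Subgroup H) : Set H) with hC
  have hsolv : Group.IsSolvable (P : Subgroup H) := by
    haveI := P.2.isNilpotent
    infer_instance
  obtain ⟨q, hq, R, hR, hRC⟩ : ∃ q, q.Prime ∧ ∃ R : Subgroup H, R ≤ M ∧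
      (P : Subgroup H) ≤ Subgroup.normalizer (R : Set H) ∧ IsPGroup q R ∧ ¬ R ≤ C := by
    by_contra hall
    push Not at hall
    have hMC : M ≤ C := by
      have hdiv : Nat.card M ∣ Nat.card ↥(M ⊓ C) := by
        rw [Nat.dvd_iff_prime_pow_dvd_dvd]
        intro q k hq hk
        haveI := Fact.mk hq
        obtain ⟨R, hR⟩ := Coprime.exists_invariant_sylow hPM hcop (Or.inl hsolv) q
        have hle : (R : Subgroup M).map M.subtype ≤ M ⊓ C :=
          le_inf (Subgroup.map_subtype_le _) (hall q hq _ (Subgroup.map_subtype_le _) hR (R.2.map _))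
        refine dvd_trans ?_ (Subgroup.card_dvd_of_le hle)
        rw [Subgroup.card_map_of_injective M.subtype_injective, R.card_eq_multiplicity]
        exact pow_dvd_pow q ((hq.pow_dvd_iff_le_factorization Nat.card_pos.ne').mp hk)
      have he := Subgroup.eq_of_le_of_card_ge (inf_le_left : M ⊓ C ≤ M) (Nat.le_of_dvd Nat.card_pos hdiv)
      exact he ▸ inf_le_right
    refine hn ⟨fun v hv g => ?_⟩
    have hmem := hnorm.conj_mem v (Subgroup.mem_sup_left hv) g
    have hmem' : g * v * g⁻¹ ∈ (↑((P : Subgroup H) ⊔ M) : Set H) := hmem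
    rw [Subgroup.mul_normal] at hmem'
    obtain ⟨x, hx, k, hk, hxk⟩ := Set.mem_mul.mp hmem'
    have hxp : x ^ p = 1 := by
      have := pow_card_eq_one' (x := (⟨x, hx⟩ : (P : Subgroup H)))
      rw [hP] at this
      exact congrArg Subtype.val this
    have hvp : v ^ p = 1 := by
      have := pow_card_eq_one' (x := (⟨v, hv⟩ : (P : Subgroup H)))
      rw [hP] at this
      exact congrArg Subtype.val this
    have hkp : k ^ p = 1 := by
      have hc : Commute x k := Subgroup.mem_centralizer_iff.mp (hMC hk) x hx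
      have h : (x * k) ^ p = 1 := by
        rw [hxk, ← MulAut.conj_apply, ← map_pow, hvp, map_one]
      rwa [hc.mul_pow, hxp, one_mul] at h
    have hk1 : k = 1 := by
      have h1 : orderOf k ∣ Nat.gcd p (Nat.card M) := Nat.dvd_gcd (orderOf_dvd_of_pow_eq_one hkp)
        (Subgroup.orderOf_mk k hk ▸ orderOf_dvd_natCard (⟨k, hk⟩ : M))
      rw [← hP, hcop] at h1
      exact orderOf_eq_one_iff.mp (Nat.dvd_one.mp h1)
    rw [hk1, mul_one] at hxk
    exact hxk ▸ hx
  obtain ⟨hRn, hRq, hRnC⟩ := hRC
  haveI := Fact.mk hq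
  obtain ⟨i, hi⟩ := hRq.exists_card_eq
  -- count the fixed points of `P` on `R`
  let act : MulAction ↥(P : Subgroup H) ↥R :=
    { smul := fun v x => ⟨(v : H) * x * (v : H)⁻¹, (Subgroup.mem_normalizer_iff.mp (hRn v.2) x).mp x.2⟩
      one_smul := fun x => by ext; show ((1 : ↥(P : Subgroup H)) : H) * x * _ = x; simp
      mul_smul := fun v v' x => by
        ext
        show ((v * v' : ↥(P : Subgroup H)) : H) * x * _ = (v : H) * ((v' : H) * x * (v' : H)⁻¹) * (v : H)⁻¹
        simp [mul_assoc] }
  letI := act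
  have hfix : Nat.card (MulAction.fixedPoints ↥(P : Subgroup H) ↥R) = Nat.card ↥(R ⊓ C) :=
    Nat.card_congr
      { toFun := fun a => ⟨a.1.1, a.1.2, Subgroup.mem_centralizer_iff.mpr fun v hv =>
          mul_inv_eq_iff_eq_mul.mp (congrArg Subtype.val (a.2 (⟨v, hv⟩ : ↥(P : Subgroup H))))⟩
        invFun := fun a => ⟨⟨a.1, a.2.1⟩, fun v => Subtype.ext (by
          show (v : H) * a.1 * (v : H)⁻¹ = a.1
          rw [Subgroup.mem_centralizer_iff.mp a.2.2 v v.2, mul_inv_cancel_right])⟩
        left_inv := fun _ => rfl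
        right_inv := fun _ => rfl }
  have hmod := P.2.card_modEq_card_fixedPoints ↥R
  rw [hfix, hi] at hmod
  obtain ⟨j, hji, hj⟩ := (Nat.dvd_prime_pow hq).mp (hi ▸ Subgroup.card_dvd_of_le (inf_le_left : R ⊓ C ≤ R))
  have hjlt : j < i := by
    rcases hji.lt_or_eq with h | h
    · exact h
    · exfalso
      have he := Subgroup.eq_of_le_of_card_ge (inf_le_left : R ⊓ C ≤ R) (by rw [hi, hj, h])
      exact hRnC (he ▸ inf_le_right)
  rw [hj, show q ^ i = q ^ j * q ^ (i - j) by rw [← pow_add]; congr 1; omega] at hmod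
  have hpM : ¬ p ∣ Nat.card M := Transfer.not_dvd_card_pPrimeCore
  have hqj : Nat.gcd p (q ^ j) = 1 := hp.coprime_iff_not_dvd.mpr fun h => by
    exact hpM (h.trans ((hj ▸ Subgroup.card_dvd_of_le (inf_le_left : R ⊓ C ≤ R)).trans
      (Subgroup.card_dvd_of_le hR)))
  have h1 : q ^ (i - j) ≡ 1 [MOD p] :=
    Nat.ModEq.cancel_left_of_coprime hqj (by rwa [mul_one])
  have hm := hleast (q ^ (i - j)) (hq.isPrimePow.pow (by omega)) (by
    rw [h1, Nat.mod_eq_of_lt hp.one_lt])
  have h2 : q ^ (i - j) ≤ Nat.card M :=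
    (Nat.pow_le_pow_right hq.pos (Nat.sub_le i j)).trans (hi ▸ Nat.le_of_dvd Nat.card_pos (Subgroup.card_dvd_of_le hR))
  have h3 : p * Nat.card M ∣ Nat.card H := by
    refine Nat.Coprime.mul_dvd_of_dvd_of_dvd (hP ▸ hcop) hdvd (Subgroup.card_subgroup_dvd_card M)
  have h4 := Nat.le_of_dvd Nat.card_pos h3
  have h5 : p * m ≤ p * Nat.card M := Nat.mul_le_mul_left p (hm.trans h2)
  omega

end CfsgLib.BrauerReynolds
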