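import Cfsg.Agent.Lib.Blocks.PrimeDefect.Principal
import Cfsg.Agent.Lib.Blocks.PrimeDefect.Count
import Cfsg.Agent.Lib.BrauerReynolds.Arith
import Cfsg.Agent.Lib.Char.DefectZero
import Cfsg.Agent.Lib.Char.Counting
import Mathlib.GroupTheory.Transfer

/-!
# Simple groups with a self-centralising Sylow subgroup of prime order and few Sylow subgroups

The hypotheses, the orders, and the data of the principal block.
-/

set_option autoImplicit false
set_option linter.unusedSectionVars false
set_option linter.style.haveILetI false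

namespace CfsgLib.BrauerReynolds

open Cfsg
open scoped ComplexConjugate CfsgLib.Char
open CfsgLib
open scoped Classical

universe u

/-- A simple non-abelian group, a self-centralising Sylow subgroup of order `p`, and
`1 + n p` Sylow subgroups, `n` not of the excluded form. -/
structure Hyp (G : Type u) [Group G] (p : ℕ) where
  simple : IsSimpleGroup G
  noncomm : ¬ IsCyclic G
  P : Sylow p G
  card_P : Nat.card (P : Subgroup G) = p
  self_centralizing : Subgroup.centralizer ((P : Subgroup G) : Set G) = (P : Subgroup G)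
  n : ℕ
  card_sylow : Nat.card (Sylow p G) = 1 + n * p
  nonrep : NonRep p n

variable {G : Type u} [Group G] [Finite G] {p : ℕ} [Fact p.Prime]

namespace Hyp

variable (H : Hyp G p)
include H

/-- The normalizer of the Sylow subgroup. -/
abbrev N : Subgroup G := Subgroup.normalizer ((H.P : Subgroup G) : Set G)

/-- Its index over the Sylow subgroup. -/
noncomputable def e : ℕ := (H.P : Subgroup G).relIndex H.N

theorem P_le_N : (H.P : Subgroup G) ≤ H.N := Subgroup.le_normalizer

theorem card_N : Nat.card H.N = H.e * p := by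
  have h := Subgroup.card_mul_index ((H.P : Subgroup G).subgroupOf H.N)
  rw [Nat.card_congr (Subgroup.subgroupOfEquivOfLe H.P_le_N).toEquiv, H.card_P] at h
  rw [← h, mul_comm]
  rfl

theorem index_N : H.N.index = 1 + H.n * p := by
  rw [← H.card_sylow, Sylow.card_eq_index_normalizer H.P]
  rfl

theorem card_G : Nat.card G = H.e * p * (1 + H.n * p) := by
  rw [← H.N.card_mul_index, H.card_N, H.index_N]

theorem not_normal : ¬ (H.P : Subgroup G).Normal := by
  intro hn
  haveI := H.simple
  rcases hn.eq_bot_or_eq_top with h | h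
  · have := H.card_P
    rw [h, Subgroup.card_bot] at this
    exact (Fact.out : p.Prime).one_lt.ne this
  · exact H.noncomm (isCyclic_of_prime_card (p := p) (by rw [← H.card_P, h, Subgroup.card_top]))

theorem n_pos : 1 ≤ H.n := by
  by_contra h
  refine H.not_normal (Subgroup.normalizer_eq_top_iff.mp (Subgroup.index_eq_one.mp ?_))
  have := H.index_N
  rw [show H.n = 0 by omega, zero_mul, add_zero] at this
  exact this

theorem two_le_e : 2 ≤ H.e := by
  have hp : p.Prime := Fact.out
  rcases Nat.lt_or_ge H.e 2 with h | h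
  swap
  · exact h
  exfalso
  have he : H.e ≠ 0 := fun h0 => by
    have := H.card_N
    rw [h0, zero_mul] at this
    exact Nat.card_pos.ne' this
  have hle : H.N ≤ (H.P : Subgroup G) := by
    refine (Subgroup.eq_of_le_of_card_ge H.P_le_N ?_).ge
    rw [H.card_N, H.card_P, show H.e = 1 by omega, one_mul]
  have hc : H.N ≤ Subgroup.centralizer ((H.P : Subgroup G) : Set G) :=
    hle.trans H.self_centralizing.ge
  haveI := H.simple
  set K := (MonoidHom.transferSylow H.P hc).ker
  have hK : ¬ p ∣ Nat.card K := MonoidHom.not_dvd_card_ker_transferSylow H.P hc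
  rcases (inferInstance : K.Normal).eq_bot_or_eq_top with hb | ht
  · have h1 := (MonoidHom.ker_transferSylow_isComplement' H.P hc).card_mul
    rw [show Nat.card K = 1 by rw [hb, Subgroup.card_bot], one_mul, H.card_P] at h1
    exact H.noncomm (isCyclic_of_prime_card h1.symm)
  · refine hK ?_
    rw [ht, Subgroup.card_top, H.card_G]
    exact Dvd.intro _ (by rw [mul_comm H.e p, mul_assoc])

theorem dvd_card : p ∣ Nat.card G := H.card_G ▸ Dvd.intro (H.e * (1 + H.n * p)) (by ring)

theorem sq_not_dvd : ¬ p ^ 2 ∣ Nat.card G := by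
  intro h
  have h' := Sylow.card_eq_multiplicity H.P
  rw [H.card_P] at h'
  have h2 : 2 ≤ (Nat.card G).factorization p :=
    ((Fact.out : p.Prime).pow_dvd_iff_le_factorization Nat.card_pos.ne').mp h
  have : p ^ 2 ≤ p ^ 1 := by
    rw [pow_one]
    calc p ^ 2 ≤ p ^ (Nat.card G).factorization p :=
          Nat.pow_le_pow_right (Fact.out : p.Prime).pos h2
      _ = p := h'.symm
  exact absurd ((Nat.pow_le_pow_iff_right (Fact.out : p.Prime).one_lt).mp this) (by omega)

theorem orderOf_mem {v : G} (hv : v ∈ (H.P : Subgroup G)) (hv1 : v ≠ 1) : orderOf v = p := by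
  have h := orderOf_dvd_natCard (⟨v, hv⟩ : (H.P : Subgroup G))
  rw [H.card_P, Subgroup.orderOf_mk] at h
  exact ((Nat.dvd_prime Fact.out).mp h).resolve_left fun h' => hv1 (orderOf_eq_one_iff.mp h')

theorem exists_mem_ne_one : ∃ v, v ∈ (H.P : Subgroup G) ∧ v ≠ 1 := by
  haveI : Nontrivial (H.P : Subgroup G) := by
    rw [← Finite.one_lt_card_iff_nontrivial, H.card_P]
    exact (Fact.out : p.Prime).one_lt
  obtain ⟨⟨v, hv⟩, hv1⟩ := exists_ne (1 : (H.P : Subgroup G))
  exact ⟨v, hv, fun h => hv1 (Subtype.ext h)⟩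

theorem centralizer_eq {v : G} (hv : v ∈ (H.P : Subgroup G)) (hv1 : v ≠ 1) :
    Subgroup.centralizer ({v} : Set G) = (H.P : Subgroup G) := by
  have hz : Subgroup.zpowers v = (H.P : Subgroup G) :=
    Subgroup.eq_of_le_of_card_ge (Subgroup.zpowers_le.mpr hv)
      (by rw [Nat.card_zpowers, H.orderOf_mem hv hv1, H.card_P])
  refine le_antisymm (fun c hc => ?_) fun c hc => ?_
  · rw [← H.self_centralizing]
    refine Subgroup.mem_centralizer_iff.mpr fun q hq => ?_
    rw [← hz] at hq
    obtain ⟨i, rfl⟩ := Subgroup.mem_zpowers_iff.mp hq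
    exact (Commute.zpow_left (Subgroup.mem_centralizer_singleton_iff.mp hc : Commute c v).symm i).eq
  · rw [← H.self_centralizing] at hc
    exact Subgroup.mem_centralizer_singleton_iff.mpr ((Subgroup.mem_centralizer_iff.mp hc v hv).symm)

/-- An element of order divisible by `p` has order `p`. -/
theorem orderOf_eq_of_dvd {g : G} (hg : p ∣ orderOf g) : orderOf g = p := by
  have hp : p.Prime := Fact.out
  obtain ⟨m, hm⟩ := hg
  have hm0 : m ≠ 0 := fun h => by
    rw [h, mul_zero] at hm
    exact (orderOf_pos g).ne' hm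
  set w := g ^ m with hw
  have hwo : orderOf w = p := by
    rw [hw, orderOf_pow' _ hm0, hm, Nat.gcd_eq_right (dvd_mul_left m p), Nat.mul_div_cancel _ (by omega)]
  obtain ⟨Q, hQ⟩ : ∃ Q : Sylow p G, w ∈ Q := by
    obtain ⟨Q, hQ⟩ := (IsPGroup.of_card (p := p) (n := 1)
      (show Nat.card (Subgroup.zpowers w) = p ^ 1 by rw [Nat.card_zpowers, hwo, pow_one])).exists_le_sylow
    exact ⟨Q, hQ (Subgroup.mem_zpowers w)⟩
  obtain ⟨c, hc⟩ := MulAction.exists_smul_eq G Q H.P
  have hv : c * w * c⁻¹ ∈ (H.P : Subgroup G) := by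
    rw [← hc, Sylow.coe_subgroup_smul]
    exact Subgroup.smul_mem_pointwise_smul w (MulAut.conj c) _ hQ
  have hv1 : c * w * c⁻¹ ≠ 1 := fun h => by
    rw [conj_eq_one_iff] at h
    rw [h, orderOf_one] at hwo
    exact hp.one_lt.ne hwo
  have hcent : c * g * c⁻¹ ∈ Subgroup.centralizer ({c * w * c⁻¹} : Set G) := by
    rw [Subgroup.mem_centralizer_singleton_iff, hw]
    group
  rw [H.centralizer_eq hv hv1] at hcent
  have h1 : c * g * c⁻¹ ≠ 1 := fun h => by
    rw [conj_eq_one_iff] at h
    rw [h, orderOf_one] at hm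
    exact hp.one_lt.ne' (Nat.eq_one_of_mul_eq_one_right hm.symm)
  have := H.orderOf_mem hcent h1
  rwa [← MulAut.conj_apply, MulEquiv.orderOf_eq] at this

end Hyp

/-- The data of the principal block: `X` the rational rows, `Y` the exceptional ones. -/
structure Data (H : Hyp G p) where
  X : Finset (IrrCharacter G)
  Y : Finset (IrrCharacter G)
  δ : IrrCharacter G → ℤ
  ε : ℤ
  t : ℕ
  disj : Disjoint X Y
  het : H.e * t + 1 = p
  card_X : X.card = H.e
  card_Y : Y.card = t
  hε : ε = 1 ∨ ε = -1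
  hδ : ∀ χ ∈ X, δ χ = 1 ∨ δ χ = -1
  val : ∀ χ ∈ X, ∀ v ∈ (H.P : Subgroup G), v ≠ 1 → (χ : G → ℂ) v = δ χ
  degX : ∀ χ ∈ X, (charDegree (χ : G → ℂ) : ℤ) ≡ δ χ [ZMOD p]
  degY : ∀ ψ ∈ Y, (charDegree (ψ : G → ℂ) : ℤ) ≡ ε * H.e [ZMOD p]
  rel : ∀ ψ ∈ Y, ∀ g, ¬ p ∣ orderOf g → (ε : ℂ) * (ψ : G → ℂ) g =
    ∑ χ ∈ X, (δ χ : ℂ) * (χ : G → ℂ) g
  out : ∀ χ : IrrCharacter G, χ ∉ X → χ ∉ Y →
    p ∣ charDegree (χ : G → ℂ) ∧ ∀ v ∈ (H.P : Subgroup G), v ≠ 1 → (χ : G → ℂ) v = 0
  not_out : ∀ χ : IrrCharacter G, χ ∈ X ∪ Y → ¬ p ∣ charDegree (χ : G → ℂ)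

theorem weight_self_centralizing [Fintype G] {P : Subgroup G}
    (hC : Subgroup.centralizer (P : Set G) = P) :
    Blocks.PrimeDefect.weight p P =
      (Nat.card (Subgroup.normalizer (P : Set G)) / Nat.card P) ^ 2 + (p - 1) := by
  classical
  haveI : Fintype (Subgroup.centralizer (P : Set G)) := Fintype.ofFinite _
  let θ₀ : Blocks.PrimeDefect.Theta P := ⟨Blocks.trivIrr _, fun _ _ => rfl⟩
  have huniq : ∀ θ : Blocks.PrimeDefect.Theta P, θ = θ₀ := by
    intro θ
    refine Subtype.ext ?_
    by_contra hne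
    have h0 := Char.classInner_coe θ.1 (Blocks.trivIrr (Subgroup.centralizer (P : Set G)))
    rw [if_neg hne] at h0
    have hc : ∀ x, (θ.1 : Subgroup.centralizer (P : Set G) → ℂ) x =
        (θ.1 : Subgroup.centralizer (P : Set G) → ℂ) 1 := fun x =>
      θ.2 x (hC.le x.2)
    rw [classInner, Finset.sum_congr rfl fun x _ => show _ =
      (θ.1 : Subgroup.centralizer (P : Set G) → ℂ) 1 by
        rw [hc x]; simp [Blocks.trivIrr], Finset.sum_const, Finset.card_univ, nsmul_eq_mul,
      Nat.card_eq_fintype_card, inv_mul_cancel_left₀ (Nat.cast_ne_zero.mpr Fintype.card_ne_zero)] at h0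
    exact Char.irr_degree_ne_zero θ.1.2 h0
  have hstab : Blocks.PrimeDefect.stabSet P (θ₀.1 : _ → ℂ) =
      (Subgroup.normalizer (P : Set G) : Set G) :=
    Set.ext fun g => ⟨fun h => h.1, fun h => ⟨h, fun _ _ _ => rfl⟩⟩
  rw [Blocks.PrimeDefect.weight, Finset.sum_eq_single θ₀ (fun θ _ h => absurd (huniq θ) h)
    fun h => absurd (Finset.mem_univ _) h, hstab]
  congr 3
  rw [hC]

theorem nonempty_data (H : Hyp G p) : Nonempty (Data H) := by
  classical
  have hp : p.Prime := Fact.out
  letI : Fintype G := Fintype.ofFinite G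
  obtain ⟨M, hM⟩ := Blocks.exists_isPModular hp
  haveI := Blocks.isPrime_of_isPModular hM
  set S := Blocks.PrimeDefect.principalSetup hM (H.P : Sylow p G) H.card_P with hS
  have hCP : S.C = (H.P : Subgroup G) := H.self_centralizing
  have hf : S.C.relIndex S.N = H.e := congrArg (fun C : Subgroup G => C.relIndex H.N) hCP
  have he : S.e = H.e := by
    rw [Blocks.PrimeDefect.Setup.e, Blocks.PrimeDefect.principal_T hM H.P H.card_P]
    exact hf
  have hdeg : charDegree (S.θ : S.C → ℂ) = 1 := Blocks.PrimeDefect.principal_degree hM H.P H.card_P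
  have hw := S.weight_eq
  obtain ⟨hdvd, X, Y, δ, ε, hdisj, hmem, hXc, hYc, hε, hδ, ha, hdX, hdY, hrel, -⟩ := S.structure_block
  rw [hf, he, hdeg, Nat.div_self (by have := H.two_le_e; omega)] at hdX
  rw [hf, hdeg, mul_one] at hdY
  rw [he] at hXc hYc hdvd
  have hB : S.B = ↑(X ∪ Y) := Set.ext fun χ => by rw [hmem, Finset.mem_coe]
  -- every character of degree prime to `p` lies in the principal block
  have hcount := Blocks.PrimeDefect.count_eq hM (P := (H.P : Subgroup G)) H.card_P H.dvd_card H.sq_not_dvd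
  rw [weight_self_centralizing H.self_centralizing, H.card_N, H.card_P,
    Nat.mul_div_cancel _ hp.pos] at hcount
  rw [show (Subgroup.centralizer ((H.P : Subgroup G) : Set G)).relIndex
      (Subgroup.normalizer ((H.P : Subgroup G) : Set G)) = H.e from hf] at hcount
  rw [he] at hw
  have hall : ∀ χ : IrrCharacter G, χ ∉ X → χ ∉ Y → p ∣ charDegree (χ : G → ℂ) := by
    intro χ hX hY
    by_contra hd
    have hsub : (X ∪ Y) ⊆ Finset.univ.filter fun χ : IrrCharacter G => ¬ p ∣ charDegree (χ : G → ℂ) :=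
      fun ξ hξ => Finset.mem_filter.mpr ⟨Finset.mem_univ _, S.not_dvd_degree_mem ((hmem ξ).mpr hξ)⟩
    have hle : (Finset.univ.filter fun χ : IrrCharacter G => ¬ p ∣ charDegree (χ : G → ℂ)).card ≤
        (X ∪ Y).card := by
      rw [← Fintype.card_subtype, ← Nat.card_eq_fintype_card]
      refine (Nat.eq_of_mul_eq_mul_left (show 0 < H.e by have := H.two_le_e; omega) ?_).le
      rw [hcount, hw, hB, Nat.card_eq_card_toFinset, Finset.toFinset_coe]
    have := Finset.eq_of_subset_of_card_le hsub hle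
    have : χ ∈ X ∪ Y := this.symm ▸ Finset.mem_filter.mpr ⟨Finset.mem_univ _, hd⟩
    exact (Finset.mem_union.mp this).elim hX hY
  refine ⟨⟨X, Y, δ, ε, (p - 1) / H.e, hdisj, ?_, hXc, hYc, hε, hδ, fun χ hχ v hv hv1 => ?_,
    fun χ hχ => ?_, fun ψ hψ => ?_, fun ψ hψ g hg => hrel ψ hψ g hg,
    fun χ hX hY => ⟨hall χ hX hY, fun v hv hv1 => ?_⟩,
    fun χ hχ => S.not_dvd_degree_mem ((hmem χ).mpr (by convert hχ))⟩⟩
  · rw [Nat.mul_div_cancel' hdvd]
    have := hp.one_lt
    omega
  · have h := Blocks.PrimeDefect.principal_value hM H.P H.card_P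
      ((hmem χ).mpr (Finset.mem_union_left _ hχ)) (δ := δ χ) (ha χ hχ) hv hv1
      (y := 1) (one_mem _) (by simpa using hp.one_lt.ne')
    rwa [mul_one] at h
  · have := hdX χ hχ
    simpa using this
  · exact hdY ψ hψ
  · refine Char.defect_zero_vanish χ.2 (p := p) (n := 1) (Blocks.irr_degree_eq χ).1
      (by rw [pow_one]; exact H.dvd_card) H.sq_not_dvd (by rw [pow_one]; exact hall χ hX hY)
      (by rw [H.orderOf_mem hv hv1])

end CfsgLib.BrauerReynolds
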