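import Cfsg.Agent.Lib.BrauerReynolds.Main

/-!
# Simple groups of order less than `p ^ 3`

The Sylow `p`-subgroup has order `p` and is self-centralising.
-/

set_option autoImplicit false
set_option linter.unusedSectionVars false
set_option linter.style.haveILetI false

open scoped Classical

namespace CfsgLib.BrauerReynolds

open Cfsg
open scoped ComplexConjugate CfsgLib.Char
open CfsgLib

universe u

variable {G : Type u} [Group G] [Finite G] {p : ℕ} [Fact p.Prime]

theorem not_comm_of_not_cyclic [IsSimpleGroup G] (hG : ¬ IsCyclic G) : ¬ IsMulCommutative G := by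
  intro hc
  let _ : CommGroup G := { ‹Group G› with mul_comm := fun a b => hc.is_comm.comm a b }
  exact hG inferInstance

/-- The Sylow subgroup has order `p`. -/
theorem card_sylow_eq_p [IsSimpleGroup G] (hG : ¬ IsCyclic G) (hdvd : p ∣ Nat.card G)
    (hbig : Nat.card G < p ^ 3) (P : Sylow p G) : Nat.card (P : Subgroup G) = p := by
  have hp : p.Prime := Fact.out
  have hcomm := not_comm_of_not_cyclic hG
  obtain ⟨k, hk⟩ := P.2.exists_card_eq
  have hk1 : 1 ≤ k := by
    have h := P.dvd_card_of_dvd_card hdvd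
    rw [hk] at h
    by_contra h0
    rw [show k = 0 by omega, pow_zero] at h
    exact hp.not_dvd_one h
  rcases hk1.eq_or_lt with rfl | hk2
  · rw [hk, pow_one]
  exfalso
  have hn : Nat.card (Sylow p G) < p := by
    have h1 : Nat.card (P : Subgroup G) * Nat.card (Sylow p G) ≤ Nat.card G := by
      refine Nat.le_of_dvd Nat.card_pos ?_
      conv_rhs => rw [← (P : Subgroup G).card_mul_index]
      rw [Sylow.card_eq_index_normalizer P]
      exact Nat.mul_dvd_mul_left _ (Subgroup.index_dvd_of_le Subgroup.le_normalizer)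
    have h2 : p ^ 2 ≤ p ^ k := Nat.pow_le_pow_right hp.pos hk2
    rw [hk] at h1
    have h3 : p ^ 2 * Nat.card (Sylow p G) < p ^ 2 * p := by
      calc p ^ 2 * Nat.card (Sylow p G) ≤ p ^ k * Nat.card (Sylow p G) := Nat.mul_le_mul_right _ h2
        _ ≤ Nat.card G := h1
        _ < p ^ 2 * p := by rw [← pow_succ]; exact hbig
    exact Nat.lt_of_mul_lt_mul_left h3
  have h := card_sylow_modEq_one p G
  rw [Nat.ModEq, Nat.mod_eq_of_lt hn, Nat.mod_eq_of_lt hp.one_lt] at h
  exact SmallOrder.card_sylow_ne_one hcomm hdvd h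

/-- With `p + 1` Sylow subgroups the centraliser of `P` is `P`. -/
theorem self_centralizing_of_one [IsSimpleGroup G] (hG : ¬ IsCyclic G) (P : Sylow p G)
    (hP : Nat.card (P : Subgroup G) = p) (hn : Nat.card (Sylow p G) = p + 1) :
    Subgroup.centralizer ((P : Subgroup G) : Set G) = (P : Subgroup G) := by
  have hp : p.Prime := Fact.out
  have hcomm := not_comm_of_not_cyclic hG
  have hinj : Function.Injective (MulAction.toPermHom G (Sylow p G)) := by
    rw [← MonoidHom.ker_eq_bot_iff]
    rcases (inferInstance : (MulAction.toPermHom G (Sylow p G)).ker.Normal).eq_bot_or_eq_top with h | h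
    · exact h
    · exfalso
      haveI : Nontrivial (Sylow p G) := by
        rw [← Finite.one_lt_card_iff_nontrivial, hn]; have := hp.pos; omega
      obtain ⟨Q, hQ⟩ := exists_ne P
      obtain ⟨g, hg⟩ := MulAction.exists_smul_eq G P Q
      have : g ∈ (MulAction.toPermHom G (Sylow p G)).ker := h ▸ Subgroup.mem_top g
      exact hQ (hg ▸ congrFun (congrArg DFunLike.coe (MonoidHom.mem_ker.mp this)) P)
  have hPC : (P : Subgroup G) ≤ Subgroup.centralizer ((P : Subgroup G) : Set G) := by
    haveI : IsCyclic (P : Subgroup G) := isCyclic_of_prime_card hP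
    letI := IsCyclic.commGroup (α := (P : Subgroup G))
    exact fun x hx => Subgroup.mem_centralizer_iff.mpr fun y hy =>
      congrArg Subtype.val (mul_comm (⟨y, hy⟩ : (P : Subgroup G)) ⟨x, hx⟩)
  refine le_antisymm (fun c hc => ?_) hPC
  have hfix : ∀ g ∈ Subgroup.centralizer ((P : Subgroup G) : Set G), g • P = P := fun g hg =>
    Sylow.smul_eq_iff_mem_normalizer.mpr (Subgroup.centralizer_le_normalizer _ hg)
  haveI : Nontrivial (Sylow p G) := by
    rw [← Finite.one_lt_card_iff_nontrivial, hn]; have := hp.pos; omega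
  obtain ⟨Q, hQ⟩ := exists_ne P
  let f : ↥(P : Subgroup G) → {R : Sylow p G // R ≠ P} := fun u => ⟨(u : G) • Q, fun e => hQ
    (smul_left_cancel _ (e.trans (hfix _ (hPC u.2)).symm))⟩
  have hfree : Function.Injective f := by
    intro u u' e
    have he : (u : G) • Q = (u' : G) • Q := congrArg Subtype.val e
    by_contra hne
    have hfix' : ((u' : G)⁻¹ * u) • Q = Q := by rw [mul_smul, he, inv_smul_smul]
    set v := (u' : G)⁻¹ * u
    have hvP : v ∈ (P : Subgroup G) := mul_mem (inv_mem u'.2) u.2
    have hm : v ∈ (P : Subgroup G) ⊓ (Q : Subgroup G) :=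
      (P.2.inf_normalizer_sylow Q).le ⟨hvP, Sylow.smul_eq_iff_mem_normalizer.mp hfix'⟩
    have hv1 : v ≠ 1 := fun h => hne (Subtype.ext (inv_mul_eq_one.mp h).symm)
    have hPQ : (P : Subgroup G) ≤ Q := by
      have hz : Subgroup.zpowers v = (P : Subgroup G) := by
        refine Subgroup.eq_of_le_of_card_ge (Subgroup.zpowers_le.mpr hm.1) ?_
        rw [Nat.card_zpowers, hP]
        have h := orderOf_dvd_natCard (⟨v, hvP⟩ : (P : Subgroup G))
        rw [hP, Subgroup.orderOf_mk] at h
        rw [((Nat.dvd_prime hp).mp h).resolve_left fun h' => hv1 (orderOf_eq_one_iff.mp h')]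
      rw [← hz]
      exact Subgroup.zpowers_le.mpr hm.2
    exact hQ (Sylow.ext (P.3 Q.2 hPQ))
  haveI : Fintype (Sylow p G) := Fintype.ofFinite _
  have hb := (Nat.bijective_iff_injective_and_card f).mpr ⟨hfree, by
    rw [hP, Nat.card_eq_fintype_card, Fintype.card_subtype_compl, Fintype.card_subtype_eq,
      ← Nat.card_eq_fintype_card, hn]
    omega⟩
  obtain ⟨u, hu⟩ := hb.2 ⟨c • Q, fun e => hQ
    (smul_left_cancel _ (e.trans (hfix c hc).symm))⟩
  suffices h : (u : G) = c by exact h ▸ u.2
  refine hinj (Equiv.ext fun R => ?_)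
  show (u : G) • R = c • R
  rcases eq_or_ne R P with rfl | hR
  · rw [hfix _ (hPC u.2), hfix c hc]
  obtain ⟨v, hv⟩ := hb.2 ⟨R, hR⟩
  have hv' : (v : G) • Q = R := congrArg Subtype.val hv
  have hu' : (u : G) • Q = c • Q := congrArg Subtype.val hu
  rw [← hv', ← mul_smul, ← mul_smul, ← Subgroup.mem_centralizer_iff.mp hc v v.2,
    show (u : G) * v = v * u from (Subgroup.mem_centralizer_iff.mp (hPC u.2) v v.2).symm,
    mul_smul, mul_smul, hu']

/-- The order of the centralizer is `p` when the group is small. -/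
theorem self_centralizing_of_small [IsSimpleGroup G] (hG : ¬ IsCyclic G) (P : Sylow p G)
    (hP : Nat.card (P : Subgroup G) = p) {n : ℕ} (hn : Nat.card (Sylow p G) = 1 + n * p)
    (hn2 : 2 ≤ n) (hbig : Nat.card G < p ^ 3) :
    Subgroup.centralizer ((P : Subgroup G) : Set G) = (P : Subgroup G) := by
  have hp : p.Prime := Fact.out
  have hp2 := hp.two_le
  letI : Fintype G := Fintype.ofFinite G
  have hcomm := not_comm_of_not_cyclic hG
  obtain ⟨M, hM⟩ := Blocks.exists_isPModular hp
  haveI := Blocks.isPrime_of_isPModular hM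
  set S := Blocks.PrimeDefect.principalSetup hM P hP with hS
  set c := Nat.card S.V with hc
  have hcC : Nat.card S.C = p * c := S.card_C
  have hcpos : 0 < c := Nat.card_pos
  have hdeg : charDegree (S.θ : S.C → ℂ) = 1 := Blocks.PrimeDefect.principal_degree hM P hP
  have hf : S.C.relIndex S.N = S.e := by
    rw [Blocks.PrimeDefect.Setup.e, Blocks.PrimeDefect.principal_T hM P hP]
  obtain ⟨hdvd, X, Y, δ, ε, hdisj, hmem, hXc, hYc, hε, hδ, ha, hdX, hdY, hrel, hYY⟩ := S.structure_block
  rw [hf, hdeg, Nat.div_self S.e_pos] at hdX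
  rw [hf, hdeg, mul_one] at hdY
  set e := S.e with he_def
  have hN : Nat.card S.N = e * (p * c) := by rw [S.card_N, hf, hcC]
  have hidx : S.N.index = 1 + n * p := by
    rw [← hn, Sylow.card_eq_index_normalizer P]
    rfl
  have hcard : Nat.card G = e * (p * c) * (1 + n * p) := by rw [← S.N.card_mul_index, hN, hidx]
  set R := e * c * (1 + n * p) with hR
  have hGR : Nat.card G = p * R := by rw [hcard, hR]; ring
  have hpR : R < p * p := by
    have h : p * R < p * (p * p) := by rw [← hGR]; calc Nat.card G < p ^ 3 := hbig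
      _ = p * (p * p) := by ring
    exact Nat.lt_of_mul_lt_mul_left h
  have hecp : 2 * (e * c) < p := by
    have h1 : (e * c) * (2 * p) ≤ R := by
      rw [hR]; exact Nat.mul_le_mul_left _ (by calc 2 * p ≤ n * p := Nat.mul_le_mul_right p hn2
        _ ≤ _ := Nat.le_add_left _ _)
    have : (2 * (e * c)) * p < p * p := by
      calc 2 * (e * c) * p = e * c * (2 * p) := by ring
        _ ≤ R := h1
        _ < p * p := hpR
    exact Nat.lt_of_mul_lt_mul_right this
  have he2 : 2 ≤ e := by
    by_contra h
    have he1 : e = 1 := by have := S.e_pos; omega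
    have hNC : S.N ≤ S.C := by
      rw [← Subgroup.relIndex_eq_one, hf, he1]
    exact SmallOrder.not_normalizer_le_centralizer hcomm (hGR ▸ dvd_mul_right p R) P hNC
  obtain ⟨t, het⟩ : ∃ t, e * t + 1 = p := ⟨(p - 1) / e, by rw [Nat.mul_div_cancel' hdvd]; omega⟩
  have hec : e ≤ e * c := Nat.le_mul_of_pos_right e hcpos
  have ht2 : 2 ≤ t := by
    by_contra h
    have : e * t ≤ e * 1 := Nat.mul_le_mul_left e (by omega)
    omega
  have hYcard : Y.card = t := by
    rw [hYc]
    exact Nat.div_eq_of_eq_mul_right (by omega) (by omega)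
  -- values and degrees
  have hval : ∀ χ ∈ X, ∀ v ∈ (P : Subgroup G), v ≠ 1 → ∀ y ∈ S.V, (χ : G → ℂ) (v * y) = (δ χ : ℂ) :=
    fun χ hχ v hv hv1 y hy => Blocks.PrimeDefect.principal_value hM P hP
      ((hmem χ).mpr (Finset.mem_union_left _ hχ)) (δ := δ χ) (ha χ hχ) hv hv1 (S.V_le_C hy)
      (S.regular_of_mem_V hy)
  have hnotdvd : ∀ χ ∈ X ∪ Y, ¬ p ∣ charDegree (χ : G → ℂ) := fun χ hχ =>
    S.not_dvd_degree_mem ((hmem χ).mpr hχ)
  have hdvdR : ∀ χ ∈ X ∪ Y, charDegree (χ : G → ℂ) ∣ R := fun χ hχ => by
    have h := degree_dvd χ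
    rw [hGR] at h
    exact (hp.coprime_iff_not_dvd.mpr (hnotdvd χ hχ)).symm.dvd_of_dvd_mul_left h
  have htriv : Blocks.trivIrr G ∈ X := by
    rcases Finset.mem_union.mp ((hmem _).mp (Blocks.trivIrr_mem_principalBlock G)) with h | h
    · exact h
    exfalso
    obtain ⟨ψ, hψ, hne⟩ := Finset.exists_mem_ne (show 1 < Y.card by omega) (Blocks.trivIrr G)
    have h1 := hYY ψ hψ _ h 1 (by simpa [IsPRegular] using hp.one_lt.ne')
    have h1' : (ψ : G → ℂ) 1 = 1 := h1
    have hfaith : ∀ x, Char.linearHom (Char.isCharacter_of_isIrr ψ.2) h1' x = 1 → x = 1 := by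
      intro x hx
      obtain ⟨K, hK, hmemK, -⟩ := Char.exists_kernel (Char.isCharacter_of_isIrr ψ.2)
      have hxK : x ∈ K := (hmemK x).mpr (by
        rw [h1', ← Char.linearHom_apply (Char.isCharacter_of_isIrr ψ.2) h1' x, hx]; rfl)
      rcases hK.eq_bot_or_eq_top with hb | ht
      · rwa [hb, Subgroup.mem_bot] at hxK
      · refine absurd (Subtype.ext (funext fun g => ?_)) hne
        show (ψ : G → ℂ) g = 1
        rw [(hmemK g).mp (ht ▸ Subgroup.mem_top g), h1']
    exact hcomm ⟨⟨fun a b => (injective_iff_map_eq_one _).mpr hfaith (by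
      rw [map_mul, map_mul, mul_comm])⟩⟩
  have hfaith : ∀ χ : IrrCharacter G, χ ≠ Blocks.trivIrr G → ∀ g : G,
      (χ : G → ℂ) g = (χ : G → ℂ) 1 → g = 1 := by
    intro χ hχ g hg
    obtain ⟨K, hK, hmemK, -⟩ := Char.exists_kernel (Char.isCharacter_of_isIrr χ.2)
    rcases hK.eq_bot_or_eq_top with hb | ht
    · have := (hmemK g).mpr hg
      rwa [hb, Subgroup.mem_bot] at this
    · exfalso
      have h0 := Char.classInner_coe χ (Blocks.trivIrr G)
      rw [if_neg hχ, classInner, Finset.sum_congr rfl fun x _ => show _ = (χ : G → ℂ) 1 by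
        rw [(hmemK x).mp (ht ▸ Subgroup.mem_top x)]; simp [Blocks.trivIrr],
        Finset.sum_const, Finset.card_univ, nsmul_eq_mul, Nat.card_eq_fintype_card,
        inv_mul_cancel_left₀ (Nat.cast_ne_zero.mpr Fintype.card_ne_zero)] at h0
      exact Char.irr_degree_ne_zero χ.2 h0
  obtain ⟨ψ₀, hψ₀⟩ : Y.Nonempty := Finset.card_pos.mp (by omega)
  have hz := hdY ψ₀ hψ₀
  have hY' := Finset.mem_union_right X hψ₀
  set z := charDegree (ψ₀ : G → ℂ) with hzdef
  have hsc : c = 1 → Subgroup.centralizer ((P : Subgroup G) : Set G) = (P : Subgroup G) := fun h1 =>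
    (Subgroup.eq_of_le_of_card_ge S.P_le_C (by
      show Nat.card S.C ≤ Nat.card (P : Subgroup G)
      rw [hcC, hP, h1, mul_one])).symm
  rcases hε with hε | hε
  · rw [hε, one_mul, Int.natCast_modEq_iff] at hz
    obtain ⟨y, hy⟩ := hdvdR ψ₀ hY'
    rw [← hzdef] at hy
    have hz' : z % p = e := Eq.trans hz (Nat.mod_eq_of_lt (by omega))
    rcases Nat.lt_or_ge z p with hzp | hzp
    · have hze : z = e := by rw [← hz', Nat.mod_eq_of_lt hzp]
      have hne : ψ₀ ≠ Blocks.trivIrr G := fun e' => Finset.disjoint_left.mp hdisj htriv (e' ▸ hψ₀)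
      have hnn : ∀ K : Subgroup G, K.Normal → Nat.card K ≠ p := by
        intro K hK hcK
        rcases hK.eq_bot_or_eq_top with h | h
        · rw [h, Subgroup.card_bot] at hcK; exact hp.one_lt.ne hcK
        · rw [h, Subgroup.card_top] at hcK; exact hG (isCyclic_of_prime_card hcK)
      have hle := Cfsg.Agent.S4503.result p hp (hGR ▸ dvd_mul_right p R) (fun h => by
        rw [hGR, pow_two] at h
        have hpdR : p ∣ R := Nat.dvd_of_mul_dvd_mul_left hp.pos h
        rw [hR] at hpdR
        rcases hp.dvd_mul.mp hpdR with h' | h'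
        · have := Nat.le_of_dvd (Nat.mul_pos (show 0 < e by omega) hcpos) h'
          omega
        · exact hp.not_dvd_one ((Nat.dvd_add_left (dvd_mul_left p n)).mp h')) hnn _
        (Char.isCharacter_of_isIrr ψ₀.2) (hfaith ψ₀ hne)
      have hec2 : e * c < e * 2 := by omega
      have := Nat.lt_of_mul_lt_mul_left hec2
      exact hsc (by omega)
    · exfalso
      have hzp' : p + 1 ≤ z := by
        have := Nat.div_add_mod z p
        have h1 : 1 ≤ z / p := (Nat.one_le_div_iff hp.pos).mpr hzp
        have h2 : p * 1 ≤ p * (z / p) := Nat.mul_le_mul_left p h1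
        omega
      have hym : y % p = c := by
        have h1 : (z * y) % p = (e * c) % p := by
          rw [← hy, hR, show e * c * (1 + n * p) = e * c + e * c * n * p by ring,
            Nat.add_mul_mod_self_right]
        rw [Nat.mul_mod, hz'] at h1
        have hcop : Nat.gcd p e = 1 := hp.coprime_iff_not_dvd.mpr fun h => by
          have := Nat.le_of_dvd (by omega) h; omega
        have h2 := Nat.ModEq.cancel_left_of_coprime hcop h1
        rw [Nat.ModEq, Nat.mod_mod] at h2
        rw [h2, Nat.mod_eq_of_lt (by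
          have : c ≤ e * c := Nat.le_mul_of_pos_left c (by omega)
          omega)]
      rcases Nat.lt_or_ge y p with hyp | hyp
      · have hyc : y = c := by rw [← hym, Nat.mod_eq_of_lt hyp]
        subst hyc
        have hz2 : z = e * (1 + n * p) := by
          refine Nat.eq_of_mul_eq_mul_right hcpos ?_
          rw [← hy, hR]; ring
        have hsum : t * (z * z) ≤ Nat.card G := by
          have h := Char.sum_sq_degree (G := G)
          simp only [value_one, ← Nat.cast_pow, ← Nat.cast_sum, Nat.cast_inj] at h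
          rw [← h, ← hYcard, ← smul_eq_mul Y.card, ← Finset.sum_const]
          refine le_trans (Finset.sum_le_sum fun ψ hψ => le_of_eq ?_)
            (Finset.sum_le_sum_of_subset (Finset.subset_univ Y))
          have h1 := hYY ψ₀ hψ₀ ψ hψ 1 (by simpa [IsPRegular] using hp.one_lt.ne')
          rw [value_one, value_one, Nat.cast_inj] at h1
          rw [hzdef, h1, pow_two]
        rw [hGR, ← mul_assoc t, hy, show p * (z * c) = (p * c) * z by ring] at hsum
        have h1 := Nat.le_of_mul_le_mul_right hsum (by omega)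
        rw [hz2, ← mul_assoc, mul_comm t e] at h1
        have h3 : e * t * (p * 2) ≤ e * t * (1 + n * p) :=
          Nat.mul_le_mul_left _ (by rw [mul_comm p 2]; have := Nat.mul_le_mul_right p hn2; omega)
        have hcle : c ≤ e * c := Nat.le_mul_of_pos_left c (by omega)
        have h4 : p * c ≤ p * (e * t) := Nat.mul_le_mul_left p (by omega)
        have h5 : e * t * (p * 2) = 2 * (p * (e * t)) := by ring
        have h6 : 0 < p * (e * t) := Nat.mul_pos hp.pos (by omega)
        omega
      · have h1 : (p + 1) * p ≤ z * y := Nat.mul_le_mul hzp' hyp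
        rw [← hy] at h1
        have h2 : p * p ≤ (p + 1) * p := Nat.mul_le_mul_right p (by omega)
        omega
  · obtain ⟨χ, hχX, hχ⟩ : ∃ χ ∈ X, δ χ = -1 := by
      by_contra hall
      push Not at hall
      have h := hrel ψ₀ hψ₀ 1 (by simpa [IsPRegular] using hp.one_lt.ne')
      rw [hε, value_one, Finset.sum_congr rfl (g := fun χ : IrrCharacter G =>
        ((charDegree (χ : G → ℂ) : ℕ) : ℂ)) (fun χ hχ => by
          rw [(hδ χ hχ).resolve_right (hall χ hχ), value_one]; simp), ← Nat.cast_sum] at h
      have h0 : (((z + ∑ χ ∈ X, charDegree (χ : G → ℂ)) : ℕ) : ℂ) = ((0 : ℕ) : ℂ) := by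
        push_cast at h ⊢
        linear_combination -h
      have := Nat.cast_injective h0
      have := (Blocks.irr_degree_eq ψ₀).2
      omega
    obtain ⟨y, hy⟩ := hdvdR χ (Finset.mem_union_left _ hχX)
    set x := charDegree (χ : G → ℂ) with hxdef
    have hx := hdX χ hχX
    rw [hχ, Nat.mul_one] at hx
    have hxp : (p : ℤ) ∣ (x : ℤ) + 1 := by
      have := Int.modEq_iff_dvd.mp hx.symm
      rw [← hxdef] at this
      simpa using this
    obtain ⟨u, hu⟩ : ∃ u, x + 1 = p * u := by exact_mod_cast hxp
    have hu1 : 1 ≤ u := by rcases Nat.eq_zero_or_pos u with h | h <;> [(subst h; omega); exact h]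
    have hxu : u = 1 := by
      by_contra hne
      have hxge : 2 * p ≤ x + 1 := by
        rw [hu, mul_comm 2 p]; exact Nat.mul_le_mul_left p (by omega)
      have hyp : (p : ℤ) ∣ (y : ℤ) + e * c := by
        refine ⟨(u : ℤ) * y - (e : ℤ) * c * n, ?_⟩
        have h1 : (R : ℤ) = x * y := by exact_mod_cast hy
        have h2 : (x : ℤ) + 1 = p * u := by exact_mod_cast hu
        have h3 : (R : ℤ) = e * c * (1 + n * p) := by rw [hR]; push_cast; ring
        linear_combination h3.symm.trans h1 + (y : ℤ) * h2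
      obtain ⟨v, hv⟩ : ∃ v, y + e * c = p * v := by exact_mod_cast hyp
      have hv1 : 1 ≤ v := by
        rcases Nat.eq_zero_or_pos v with h | h
        · subst h
          have := Nat.mul_pos (show 0 < e by omega) hcpos
          omega
        · exact h
      have hv' : p * 1 ≤ p * v := Nat.mul_le_mul_left p hv1
      have h1 : (2 * p - 1) * (p + 1) ≤ x * (2 * y) := Nat.mul_le_mul (by omega) (by omega)
      rw [mul_left_comm x 2 y, ← hy] at h1
      have h2 : (2 * p - 1) * (p + 1) + (p + 1) = 2 * p * (p + 1) := by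
        rw [← Nat.succ_mul]; congr 1; omega
      have h3 : 2 * p * (p + 1) = 2 * (p * p) + 2 * p := by ring
      omega
    -- the restriction to the centralizer
    have hχne : χ ≠ Blocks.trivIrr G := by
      intro e'
      have h1 := hxdef
      rw [e', degree_triv] at h1
      subst hxu
      omega
    refine hsc ?_
    haveI : Fintype ↥S.V := Fintype.ofFinite _
    let π : ↥(P : Subgroup G) × ↥S.V →* G :=
      MonoidHom.noncommCoprod (P : Subgroup G).subtype S.V.subtype fun v y => by
        exact Subgroup.mem_centralizer_iff.mp (S.V_le_C y.2) v v.2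
    set f : ↥S.V → ℂ := fun y => (χ : G → ℂ) y with hf'
    have horth : ∀ θ : IrrCharacter ↥S.V, θ ≠ Blocks.trivIrr ↥S.V → classInner f (θ : ↥S.V → ℂ) = 0 := by
      intro θ hθ
      obtain ⟨k, hk⟩ := Char.exists_nat_classInner (G := ↥(P : Subgroup G) × ↥S.V)
        (Char.isCharacter_comp π (Char.isCharacter_of_isIrr χ.2))
        (Char.isCharacter_comp (MonoidHom.snd _ _) (Char.isCharacter_of_isIrr θ.2))
      obtain ⟨m, hm⟩ := Char.exists_nat_classInner (G := ↥S.V)
        (Char.isCharacter_restrict S.V (Char.isCharacter_of_isIrr χ.2)) (Char.isCharacter_of_isIrr θ.2)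
      have hθ0 : ∑ y : ↥S.V, conj ((θ : ↥S.V → ℂ) y) = 0 := by
        have h0 := Char.classInner_coe (Blocks.trivIrr ↥S.V) θ
        rw [if_neg (Ne.symm hθ), classInner, mul_eq_zero] at h0
        refine Eq.trans (Finset.sum_congr rfl fun y _ => ?_)
          (h0.resolve_left (inv_ne_zero (Nat.cast_ne_zero.mpr Nat.card_pos.ne')))
        simp [Blocks.trivIrr]
      have hπ : ∀ v y, π (v, y) = (v : G) * y := fun v y => rfl
      have hp0 : (p : ℂ) ≠ 0 := Nat.cast_ne_zero.mpr hp.ne_zero
      have hkm : (k : ℂ) * p = m := by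
        rw [← hk, ← hm]
        simp only [classInner, Fintype.sum_prod_type]
        rw [Finset.sum_eq_single (1 : ↥(P : Subgroup G))]
        · rw [Nat.card_prod, hP]
          push_cast
          rw [Finset.sum_congr rfl fun y _ => show (χ : G → ℂ) (π (1, y)) *
            conj ((θ : ↥S.V → ℂ) (MonoidHom.snd _ _ ((1 : ↥(P : Subgroup G)), y))) =
              (χ : G → ℂ) y * conj ((θ : ↥S.V → ℂ) y) by rw [hπ]; simp]
          field_simp
        · intro v _ hv
          rw [Finset.sum_congr rfl fun y _ => show (χ : G → ℂ) (π (v, y)) *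
              conj ((θ : ↥S.V → ℂ) (MonoidHom.snd _ _ (v, y))) = (δ χ : ℂ) * conj ((θ : ↥S.V → ℂ) y) by
            rw [hπ,
              hval χ hχX v v.2 (fun h => hv (Subtype.ext h)) y y.2]
            rfl,
            ← Finset.mul_sum, hθ0, mul_zero]
        · exact fun h => absurd (Finset.mem_univ _) h
      have hkm' : k * p = m := by exact_mod_cast hkm
      have hmle : m ≤ x := by
        obtain ⟨mult, hmult⟩ := Char.exists_multiplicities
          (Char.isCharacter_restrict S.V (Char.isCharacter_of_isIrr χ.2))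
        have hmθ : mult θ = m := by
          have h2 := hm
          rw [hmult, Char.classInner_sum_smul_irr] at h2
          exact_mod_cast h2
        obtain ⟨d, hd, hd0⟩ : ∃ d : ℕ, (θ : ↥S.V → ℂ) 1 = d ∧ 0 < d :=
          ⟨_, value_one θ, (Blocks.irr_degree_eq θ).2⟩
        have h3 := congrFun hmult 1
        simp only [Subgroup.coe_one, Finset.sum_apply, Pi.smul_apply, smul_eq_mul, value_one,
          ← Nat.cast_mul, ← Nat.cast_sum, Nat.cast_inj] at h3
        rw [← hxdef] at h3
        rw [h3, ← hmθ]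
        refine le_trans ?_ (Finset.single_le_sum (f := fun ξ : IrrCharacter ↥S.V =>
          mult ξ * charDegree (ξ : ↥S.V → ℂ)) (fun _ _ => Nat.zero_le _) (Finset.mem_univ θ))
        exact Nat.le_mul_of_pos_right _ (Blocks.irr_degree_eq θ).2
      show classInner f (θ : ↥S.V → ℂ) = 0
      rw [hm]
      have : m = 0 := by
        rcases Nat.eq_zero_or_pos k with h | h
        · rw [← hkm', h, zero_mul]
        · exfalso
          have := Nat.le_mul_of_pos_left p h
          subst hxu
          omega
      rw [this, Nat.cast_zero]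
    have hfcl : IsClassFunction ↥S.V f := fun a b =>
      Char.isClassFunction_irr χ (a : G) (b : G)
    have hexp := Char.classFunction_expansion hfcl
    rw [Finset.sum_eq_single (Blocks.trivIrr ↥S.V) (fun θ _ h => by rw [horth θ h, zero_smul])
      fun h => absurd (Finset.mem_univ _) h] at hexp
    rw [hc, Nat.card_eq_one_iff_unique]
    refine ⟨⟨fun a b => ?_⟩, ⟨1⟩⟩
    have key : ∀ y : ↥S.V, y = 1 := fun y => by
      refine Subtype.ext (hfaith χ hχne y ?_)
      have h1 := congrFun hexp y
      have h2 := congrFun hexp 1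
      simp only [hf', Blocks.trivIrr, Pi.smul_apply, Subgroup.coe_one] at h1 h2
      rw [h1, h2]
    rw [key a, key b]

/-- Brauer and Reynolds: the simple groups of order less than `p ^ 3`. -/
theorem concl_of_small [IsSimpleGroup G] (hG : ¬ IsCyclic G) (hdvd : p ∣ Nat.card G)
    (hbig : Nat.card G < p ^ 3) : Concl G p := by
  have hp : p.Prime := Fact.out
  obtain ⟨P⟩ := (inferInstance : Nonempty (Sylow p G))
  have hP := card_sylow_eq_p hG hdvd hbig P
  obtain ⟨n, hn⟩ : ∃ n, Nat.card (Sylow p G) = 1 + n * p := ⟨Nat.card (Sylow p G) / p, by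
    have h := card_sylow_modEq_one p G
    rw [Nat.ModEq, Nat.mod_eq_of_lt hp.one_lt] at h
    conv_lhs => rw [← Nat.mod_add_div (Nat.card (Sylow p G)) p, h, mul_comm p]⟩
  have hn1 : 1 ≤ n := by
    by_contra h
    refine SmallOrder.card_sylow_ne_one (not_comm_of_not_cyclic hG) hdvd ?_
    rw [hn, show n = 0 by omega, zero_mul, add_zero]
  have hC : Subgroup.centralizer ((P : Subgroup G) : Set G) = (P : Subgroup G) := by
    rcases hn1.eq_or_lt with h | h
    · exact self_centralizing_of_one hG P hP (by rw [hn, ← h, one_mul, add_comm])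
    · exact self_centralizing_of_small hG P hP hn h hbig
  refine concl_of_hyp ⟨inferInstance, hG, P, hP, hC, n, hn, nonRep_of_small hp ?_⟩
  by_contra hgt
  push Not at hgt
  have hidx : (Subgroup.normalizer ((P : Subgroup G) : Set G)).index = 1 + n * p := by
    rw [← hn, Sylow.card_eq_index_normalizer P]; rfl
  have hN : 2 * p ≤ Nat.card (Subgroup.normalizer ((P : Subgroup G) : Set G)) := by
    obtain ⟨k, hk⟩ := Subgroup.card_dvd_of_le (Subgroup.le_normalizer (H := (P : Subgroup G)))
    rw [hP] at hk
    rw [hk, mul_comm 2 p]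
    refine Nat.mul_le_mul_left p ?_
    by_contra h2
    have hle : Subgroup.normalizer ((P : Subgroup G) : Set G) ≤ (P : Subgroup G) :=
      (Subgroup.eq_of_le_of_card_ge Subgroup.le_normalizer (by
        rw [hk, hP]
        exact (Nat.mul_le_mul_left p (show k ≤ 1 by omega)).trans (mul_one p).le)).ge
    exact SmallOrder.not_normalizer_le_centralizer (not_comm_of_not_cyclic hG) hdvd P
      (hle.trans hC.ge)
  have h1 := Nat.mul_le_mul hN (le_refl (1 + n * p))
  rw [← hidx, Subgroup.card_mul_index, hidx] at h1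
  have h2 : p * (p * p) < p * (p * p) := by
    calc p * (p * p) ≤ 2 * p * (1 + n * p) := by
          have : (p + 3) * p ≤ 2 * n * p := Nat.mul_le_mul_right p hgt
          calc p * (p * p) ≤ p * ((p + 3) * p) :=
                Nat.mul_le_mul_left p (Nat.mul_le_mul_right p (by omega))
            _ ≤ p * (2 * n * p) := Nat.mul_le_mul_left p this
            _ = 2 * p * (n * p) := by ring
            _ ≤ 2 * p * (1 + n * p) := Nat.mul_le_mul_left _ (by omega)
      _ ≤ Nat.card G := h1
      _ < p ^ 3 := hbig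
      _ = p * (p * p) := by ring
  exact lt_irrefl _ h2

end CfsgLib.BrauerReynolds
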